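import Mathlib
import Cfsg.Prelude.Def_CaseTheorems

/-!
# A model of the quasi-dihedral 2-groups

`Sd k` is the quasi-dihedral group of order `2 ^ (k + 4)` in coordinates: `⟨i, e⟩` stands for
`x ^ i * y ^ e` with `y x y⁻¹ = x ^ (2 ^ (k + 2) - 1)`.
-/

set_option autoImplicit false

namespace CfsgLib.Invol.QDW

/-- Half of the order of the cyclic part. -/
def half (k : ℕ) : ℕ := 2 ^ (k + 2)

/-- Coordinates of an element of the quasi-dihedral group of order `2 ^ (k + 4)`. -/
@[ext] structure Sd (k : ℕ) where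
  i : ZMod (2 ^ (k + 3))
  e : Bool

namespace Sd

variable {k : ℕ}

/-- The twist. -/
def c (k : ℕ) : ZMod (2 ^ (k + 3)) := (half k : ZMod (2 ^ (k + 3))) - 1

theorem two_half : (2 : ZMod (2 ^ (k + 3))) * half k = 0 := by
  rw [show (2 : ZMod (2 ^ (k + 3))) = ((2 : ℕ) : ZMod (2 ^ (k + 3))) by norm_num, ← Nat.cast_mul, half,
    ← pow_succ']
  exact ZMod.natCast_self _

theorem half_sq : (half k : ZMod (2 ^ (k + 3))) * half k = 0 := by
  have h : (half k : ZMod (2 ^ (k + 3))) = 2 * (2 ^ (k + 1) : ℕ) := by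
    show ((2 ^ (k + 1 + 1) : ℕ) : ZMod (2 ^ (k + 3))) = _
    rw [pow_succ' 2 (k + 1), Nat.cast_mul]; norm_num
  calc (half k : ZMod (2 ^ (k + 3))) * half k = (2 * half k) * (2 ^ (k + 1) : ℕ) := by rw [h]; ring
    _ = 0 := by rw [two_half, zero_mul]

theorem c_mul_c : c k * c k = 1 := by
  rw [c]
  linear_combination (half_sq (k := k)) - (two_half (k := k))

instance : Mul (Sd k) := ⟨fun a b => ⟨a.i + cond a.e (c k * b.i) b.i, xor a.e b.e⟩⟩
instance : One (Sd k) := ⟨⟨0, false⟩⟩
instance : Inv (Sd k) := ⟨fun a => ⟨cond a.e (-(c k * a.i)) (-a.i), a.e⟩⟩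

@[simp] theorem mul_i (a b : Sd k) : (a * b).i = a.i + cond a.e (c k * b.i) b.i := rfl
@[simp] theorem mul_e (a b : Sd k) : (a * b).e = xor a.e b.e := rfl
@[simp] theorem one_i : (1 : Sd k).i = 0 := rfl
@[simp] theorem one_e : (1 : Sd k).e = false := rfl
@[simp] theorem inv_i (a : Sd k) : a⁻¹.i = cond a.e (-(c k * a.i)) (-a.i) := rfl
@[simp] theorem inv_e (a : Sd k) : a⁻¹.e = a.e := rfl

instance : Group (Sd k) :=
  Group.ofLeftAxioms
    (by
      rintro ⟨a, e⟩ ⟨b, f⟩ ⟨d, g⟩
      cases e <;> cases f <;> cases g <;> ext <;> simp <;>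
        first
          | ring1
          | linear_combination (-d) * (c_mul_c (k := k))
          | linear_combination d * (c_mul_c (k := k)))
    (by rintro ⟨a, e⟩; ext <;> simp)
    (by
      rintro ⟨a, e⟩; cases e <;> ext <;> simp)

/-- The coordinates as a pair. -/
def equivPair : Sd k ≃ ZMod (2 ^ (k + 3)) × Bool where
  toFun a := (a.i, a.e)
  invFun t := ⟨t.1, t.2⟩
  left_inv _ := rfl
  right_inv _ := rfl

instance : Finite (Sd k) := Finite.of_equiv _ equivPair.symm

theorem card_eq : Nat.card (Sd k) = 2 ^ (k + 4) := by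
  rw [Nat.card_congr equivPair, Nat.card_prod, Nat.card_zmod, Nat.card_eq_fintype_card,
    Fintype.card_bool, ← pow_succ]

theorem half_ne_zero : (half k : ZMod (2 ^ (k + 3))) ≠ 0 := by
  rw [Ne, ZMod.natCast_eq_zero_iff]
  · exact fun h => by
      have := Nat.le_of_dvd (by simp [half]) h
      simp [half, pow_succ] at this

theorem c_ne_one : c k ≠ 1 := by
  intro h
  have h1 : ((half k : ℕ) : ZMod (2 ^ (k + 3))) = ((2 : ℕ) : ZMod (2 ^ (k + 3))) := by
    push_cast; rw [c] at h; linear_combination h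
  rw [ZMod.natCast_eq_natCast_iff', Nat.mod_eq_of_lt (by simp [half, pow_succ]),
    Nat.mod_eq_of_lt (by simp [pow_succ]; have := Nat.one_le_two_pow (n := k); omega)] at h1
  simp [half, pow_succ] at h1

/-- The twist is inversion on even elements. -/
theorem c_mul_even (j : ZMod (2 ^ (k + 3))) : c k * (2 * j) = -(2 * j) := by
  rw [c]; linear_combination j * (two_half (k := k))

theorem two_cancel {x : ZMod (2 ^ (k + 3))} (h : 2 * x = 0) : x = 0 ∨ x = half k := by
  have h1 := congrArg ZMod.val h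
  rw [two_mul, ZMod.val_add, ZMod.val_zero] at h1
  have h2 := ZMod.val_lt x
  have h3 : 2 ^ (k + 3) = 2 * half k := by rw [half, pow_succ']
  have h4 : x.val = 0 ∨ x.val = half k := by
    rcases Nat.lt_or_ge (x.val + x.val) (2 ^ (k + 3)) with h5 | h5
    · rw [Nat.mod_eq_of_lt h5] at h1; omega
    · rw [Nat.mod_eq_sub_mod h5, Nat.mod_eq_of_lt (by omega)] at h1; omega
  rcases h4 with h4 | h4
  · exact Or.inl ((ZMod.val_eq_zero x).mp h4)
  · exact Or.inr (by rw [← h4, ZMod.natCast_rightInverse])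

theorem mem_center_iff {a : Sd k} :
    a ∈ Subgroup.center (Sd k) ↔ a.e = false ∧ (a.i = 0 ∨ a.i = half k) := by
  rw [Subgroup.mem_center_iff]
  obtain ⟨i, e⟩ := a
  constructor
  · intro h
    have he : e = false := by
      by_contra hc
      rw [Bool.not_eq_false] at hc
      subst hc
      have := congrArg Sd.i (h ⟨1, false⟩)
      simp at this
      exact c_ne_one (by linear_combination -this)
    subst he
    have := congrArg Sd.i (h ⟨0, true⟩)
    simp at this
    refine ⟨rfl, two_cancel ?_⟩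
    have e1 : (half k : ZMod (2 ^ (k + 3))) * i = 2 * i := by rw [c] at this; linear_combination this
    have e3 : (half k : ZMod (2 ^ (k + 3))) * i = half k * (i.val % 2 : ℕ) := by
      conv_lhs => rw [← ZMod.natCast_rightInverse i, ← Nat.mod_add_div i.val 2]
      push_cast
      linear_combination ((i.val / 2 : ℕ) : ZMod (2 ^ (k + 3))) * (two_half (k := k))
    rcases Nat.mod_two_eq_zero_or_one i.val with hm | hm
    · rw [hm, Nat.cast_zero, mul_zero] at e3
      rw [← e1, e3]
    · exfalso
      rw [hm, Nat.cast_one, mul_one] at e3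
      have e4 : 2 * i = half k := e1.symm.trans e3
      have e5 := congrArg ZMod.val e4
      rw [two_mul, ZMod.val_add, ZMod.val_natCast, Nat.mod_eq_of_lt (show half k < 2 ^ (k + 3) by
        simp [half, pow_succ])] at e5
      have h2 := ZMod.val_lt i
      have h3 : 2 ^ (k + 3) = 2 * half k := by rw [half, pow_succ']
      have h6 : half k = 2 * (2 * 2 ^ k) := by rw [half]; ring
      rcases Nat.lt_or_ge (i.val + i.val) (2 ^ (k + 3)) with h5 | h5
      · rw [Nat.mod_eq_of_lt h5] at e5; omega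
      · rw [Nat.mod_eq_sub_mod h5, Nat.mod_eq_of_lt (by omega)] at e5; omega
  · rintro ⟨he, hi⟩ ⟨j, f⟩
    simp only at he hi; subst he
    cases f <;> ext <;> simp [add_comm]
    rcases hi with rfl | rfl
    · simp
    · rw [c]; linear_combination (half_sq (k := k)) - (two_half (k := k))

theorem card_center : Nat.card (Subgroup.center (Sd k)) = 2 := by
  have h : (Subgroup.center (Sd k) : Set (Sd k)) = {1, ⟨half k, false⟩} := by
    ext ⟨i, e⟩
    simp only [SetLike.mem_coe, mem_center_iff, Set.mem_insert_iff, Set.mem_singleton_iff, Sd.ext_iff,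
      one_i, one_e]
    tauto
  rw [← SetLike.coe_sort_coe, h, Nat.card_coe_set_eq, Set.ncard_pair]
  intro h1
  exact half_ne_zero (congrArg Sd.i h1).symm

/-- The universal property used to identify quasi-dihedral groups with the model. -/
def lift {S : Type*} [Group S] (x y : S) (hx : x ^ 2 ^ (k + 3) = 1) (hy : y * y = 1)
    (hconj : y * x * y⁻¹ = x ^ (half k - 1)) : Sd k →* S :=
  MonoidHom.mk' (fun a => x ^ a.i.val * cond a.e y 1) (by
    have key : ∀ (u : ZMod (2 ^ (k + 3))) (m : ℕ), u = m → x ^ u.val = x ^ m := by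
      intro u m h
      rw [h, ZMod.val_natCast, ← pow_eq_pow_mod m hx]
    have hyx : ∀ m : ℕ, y * x ^ m = x ^ ((half k - 1) * m) * y := fun m => by
      rw [pow_mul, ← hconj, conj_pow]; group
    rintro ⟨a, e⟩ ⟨b, f⟩
    cases e
    · simp only [mul_i, mul_e, cond_false, Bool.false_bne, mul_one]
      rw [key (a + b) (a.val + b.val) (by push_cast [ZMod.natCast_rightInverse]; simp), pow_add, mul_assoc]
    · simp only [mul_i, mul_e, cond_true]
      rw [key (a + c k * b) (a.val + (half k - 1) * b.val) (by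
        rw [Nat.cast_add, Nat.cast_mul, Nat.cast_sub (show 1 ≤ half k from Nat.one_le_two_pow), Nat.cast_one,
          ZMod.natCast_rightInverse, ZMod.natCast_rightInverse, c]), pow_add,
        show x ^ a.val * y * (x ^ b.val * cond f y 1) = x ^ a.val * (y * x ^ b.val) * cond f y 1 by
          simp only [mul_assoc], hyx]
      cases f <;> simp [mul_assoc, hy])

theorem lift_apply {S : Type*} [Group S] (x y : S) (hx : x ^ 2 ^ (k + 3) = 1) (hy : y * y = 1)
    (hconj : y * x * y⁻¹ = x ^ (half k - 1)) (a : Sd k) :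
    lift x y hx hy hconj a = x ^ a.i.val * cond a.e y 1 := rfl

end Sd

/-- A quasi-dihedral group is isomorphic to the model. -/
theorem exists_equiv_sd {S : Type*} [Group S] [Finite S] (hS : Cfsg.IsQuasiDihedral S) :
    ∃ k, Nat.card S = 2 ^ (k + 4) ∧ Nonempty (S ≃* Sd k) := by
  obtain ⟨n, hn, hcard, x, y, hx, hy, hconj⟩ := hS
  obtain ⟨k, rfl⟩ : ∃ k, n = k + 3 := ⟨n - 3, by omega⟩
  refine ⟨k, hcard, ?_⟩
  have hyy : y * y = 1 := by rw [← pow_two, ← hy, pow_orderOf_eq_one]
  have hxN : x ^ 2 ^ (k + 3) = 1 := hx ▸ pow_orderOf_eq_one x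
  set f := Sd.lift x y hxN hyy (by rw [hconj]; rfl)
  have hinj : Function.Injective f := by
    refine (injective_iff_map_eq_one f).mpr fun a ha => ?_
    rw [Sd.lift_apply] at ha
    have he : a.e = false := by
      by_contra hc
      rw [Bool.not_eq_false] at hc
      rw [hc, cond_true] at ha
      have hyA : y = (x ^ a.i.val)⁻¹ := eq_inv_of_mul_eq_one_right ha
      have hcom : Commute y x := by rw [hyA]; exact (Commute.pow_self x _).inv_left
      rw [hcom.eq, mul_inv_cancel_right] at hconj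
      have h2 := (pow_inj_mod (x := x) (n := 1) (m := 2 ^ (k + 3 - 1) - 1)).mp (by rwa [pow_one])
      rw [hx] at h2
      have := Nat.one_le_two_pow (n := k)
      rw [show k + 3 - 1 = k + 2 from rfl, Nat.mod_eq_of_lt (by simp [pow_succ]; omega),
        Nat.mod_eq_of_lt (by simp [pow_succ]; omega)] at h2
      simp [pow_succ] at h2
      omega
    rw [he, cond_false, mul_one] at ha
    ext
    · exact (ZMod.val_eq_zero _).mp (Nat.eq_zero_of_dvd_of_lt (orderOf_dvd_of_pow_eq_one ha)
        (by rw [hx]; exact ZMod.val_lt _))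
    · exact he
  exact ⟨(MulEquiv.ofBijective f ((Nat.bijective_iff_injective_and_card _).mpr
    ⟨hinj, Sd.card_eq.trans hcard.symm⟩)).symm⟩

end CfsgLib.Invol.QDW
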