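import Mathlib

/-!
# Counting conjugacy classes of elements of a given order
-/

set_option autoImplicit false

namespace CfsgLib.Invol.QDW

variable {S M : Type*} [Group S] [Group M]

theorem isConj_symm_of_equiv (e : S ≃* M) {s t : S} (h : IsConj (e s) (e t)) : IsConj s t := by
  simpa using MonoidHom.map_isConj e.symm.toMonoidHom h

theorem card_classes_eq_two (e : S ≃* M) (n : ℕ) {a b : M} (ha : orderOf a = n) (hb : orderOf b = n)
    (hne : ¬ IsConj a b) (hall : ∀ t : M, orderOf t = n → IsConj t a ∨ IsConj t b) :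
    Nat.card {C : ConjClasses S // ∃ t : S, orderOf t = n ∧ ConjClasses.mk t = C} = 2 := by
  have h : {C : ConjClasses S | ∃ t : S, orderOf t = n ∧ ConjClasses.mk t = C} =
      {ConjClasses.mk (e.symm a), ConjClasses.mk (e.symm b)} := by
    ext C
    constructor
    · rintro ⟨t, ht, rfl⟩
      rcases hall (e t) (by rw [MulEquiv.orderOf_eq, ht]) with h | h
      · exact Or.inl (ConjClasses.mk_eq_mk_iff_isConj.mpr (isConj_symm_of_equiv e (by simpa using h)))
      · exact Or.inr (ConjClasses.mk_eq_mk_iff_isConj.mpr (isConj_symm_of_equiv e (by simpa using h)))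
    · rintro (rfl | rfl)
      · exact ⟨_, by rw [MulEquiv.orderOf_eq, ha], rfl⟩
      · exact ⟨_, by rw [MulEquiv.orderOf_eq, hb], rfl⟩
  show Nat.card {C : ConjClasses S | ∃ t : S, orderOf t = n ∧ ConjClasses.mk t = C} = 2
  rw [h, Nat.card_coe_set_eq, Set.ncard_pair]
  intro h1
  exact hne (by simpa using MonoidHom.map_isConj e.toMonoidHom (ConjClasses.mk_eq_mk_iff_isConj.mp h1))

theorem card_classes_eq_three (e : S ≃* M) (n : ℕ) {a b c : M} (ha : orderOf a = n) (hb : orderOf b = n)
    (hc : orderOf c = n) (hab : ¬ IsConj a b) (hac : ¬ IsConj a c) (hbc : ¬ IsConj b c)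
    (hall : ∀ t : M, orderOf t = n → IsConj t a ∨ IsConj t b ∨ IsConj t c) :
    Nat.card {C : ConjClasses S // ∃ t : S, orderOf t = n ∧ ConjClasses.mk t = C} = 3 := by
  have h : {C : ConjClasses S | ∃ t : S, orderOf t = n ∧ ConjClasses.mk t = C} =
      {ConjClasses.mk (e.symm a), ConjClasses.mk (e.symm b), ConjClasses.mk (e.symm c)} := by
    ext C
    constructor
    · rintro ⟨t, ht, rfl⟩
      rcases hall (e t) (by rw [MulEquiv.orderOf_eq, ht]) with h | h | h
      · exact Or.inl (ConjClasses.mk_eq_mk_iff_isConj.mpr (isConj_symm_of_equiv e (by simpa using h)))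
      · exact Or.inr (Or.inl (ConjClasses.mk_eq_mk_iff_isConj.mpr (isConj_symm_of_equiv e (by simpa using h))))
      · exact Or.inr (Or.inr (ConjClasses.mk_eq_mk_iff_isConj.mpr (isConj_symm_of_equiv e (by simpa using h))))
    · rintro (rfl | rfl | rfl)
      · exact ⟨_, by rw [MulEquiv.orderOf_eq, ha], rfl⟩
      · exact ⟨_, by rw [MulEquiv.orderOf_eq, hb], rfl⟩
      · exact ⟨_, by rw [MulEquiv.orderOf_eq, hc], rfl⟩
  show Nat.card {C : ConjClasses S | ∃ t : S, orderOf t = n ∧ ConjClasses.mk t = C} = 3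
  have ne : ∀ {u v : M}, ¬ IsConj u v → ConjClasses.mk (e.symm u) ≠ ConjClasses.mk (e.symm v) := fun huv h1 =>
    huv (by simpa using MonoidHom.map_isConj e.toMonoidHom (ConjClasses.mk_eq_mk_iff_isConj.mp h1))
  rw [h, Nat.card_coe_set_eq, Set.ncard_eq_three]
  exact ⟨_, _, _, ne hab, ne hac, ne hbc, rfl⟩

end CfsgLib.Invol.QDW
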