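import Mathlib

/-!
# Transport of subgroup properties along isomorphisms
-/

set_option autoImplicit false

namespace CfsgLib.Invol.QDW

variable {S M : Type*} [Group S] [Group M] (e : S ≃* M)

/-- A subgroup is isomorphic to its image. -/
noncomputable def mapEquiv (T : Subgroup S) : T ≃* T.map e.toMonoidHom :=
  T.equivMapOfInjective e.toMonoidHom e.injective

theorem isKleinFour_map {T : Subgroup S} (h : IsKleinFour T) : IsKleinFour (T.map e.toMonoidHom) := by
  haveI := h
  exact ⟨by rw [← Nat.card_congr (mapEquiv e T).toEquiv, IsKleinFour.card_four],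
    by rw [← Monoid.exponent_eq_of_mulEquiv (mapEquiv e T), IsKleinFour.exponent_two]⟩

theorem eq_comap_of_map_eq {T : Subgroup S} {U : Subgroup M} (h : T.map e.toMonoidHom = U) :
    T = U.comap e.toMonoidHom := by
  rw [← h, Subgroup.comap_map_eq_self_of_injective e.injective]

theorem map_conj_map (T : Subgroup S) (s : S) :
    (T.map (MulAut.conj s).toMonoidHom).map e.toMonoidHom =
      (T.map e.toMonoidHom).map (MulAut.conj (e s)).toMonoidHom := by
  rw [Subgroup.map_map, Subgroup.map_map]
  congr 1
  ext x
  simp

theorem exists_map_conj {T₁ T₂ : Subgroup S}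
    (h : ∃ m : M, (T₁.map e.toMonoidHom).map (MulAut.conj m).toMonoidHom = T₂.map e.toMonoidHom) :
    ∃ s : S, T₁.map (MulAut.conj s).toMonoidHom = T₂ := by
  obtain ⟨m, hm⟩ := h
  refine ⟨e.symm m, Subgroup.map_injective (f := e.toMonoidHom) e.injective ?_⟩
  rw [map_conj_map, MulEquiv.apply_symm_apply]
  exact hm

theorem relIndex_map (A B : Subgroup S) :
    (A.map e.toMonoidHom).relIndex (B.map e.toMonoidHom) = A.relIndex B := by
  rw [← Subgroup.relIndex_comap, Subgroup.comap_map_eq_self_of_injective e.injective]

theorem map_normalizer (T : Subgroup S) :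
    (Subgroup.normalizer (T : Set S)).map e.toMonoidHom = Subgroup.normalizer (T.map e.toMonoidHom : Set M) :=
  Subgroup.map_equiv_normalizer_eq T e

theorem mem_centralizer_map {T : Subgroup S} {x : S} :
    x ∈ Subgroup.centralizer (T : Set S) ↔ e x ∈ Subgroup.centralizer (T.map e.toMonoidHom : Set M) := by
  simp only [Subgroup.mem_centralizer_iff, Subgroup.coe_map, Set.forall_mem_image, MulEquiv.coe_toMonoidHom]
  refine forall₂_congr fun a _ => ?_
  rw [← map_mul, ← map_mul, e.injective.eq_iff]

theorem isCoatom_map {T : Subgroup S} : IsCoatom (T.map e.toMonoidHom) ↔ IsCoatom T :=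
  (e.mapSubgroup).isCoatom_iff T

theorem map_commutator_top : (commutator S).map e.toMonoidHom = commutator M := by
  rw [commutator_def, commutator_def, Subgroup.map_commutator,
    Subgroup.map_top_of_surjective _ e.surjective]

theorem map_frattini : (frattini S).map e.toMonoidHom = frattini M := by
  refine le_antisymm ?_ ?_
  · rw [Subgroup.map_le_iff_le_comap]
    exact frattini_le_comap_frattini_of_surjective e.surjective
  · intro x hx
    refine ⟨e.symm x, ?_, e.apply_symm_apply x⟩
    exact frattini_le_comap_frattini_of_surjective (φ := e.symm.toMonoidHom) e.symm.surjective hx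

end CfsgLib.Invol.QDW
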