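import Mathlib
import Cfsg.Prelude.Def_CaseTheorems

/-!
# A model of the wreathed 2-groups

`Wr N` is `(ZMod N × ZMod N) ⋊ C₂` with the swap action, in coordinates.
-/

set_option autoImplicit false

namespace CfsgLib.Invol.QDW

/-- Coordinates of an element of `C_N ≀ C_2`. -/
@[ext] structure Wr (N : ℕ) where
  i : ZMod N
  j : ZMod N
  e : Bool

namespace Wr

variable {N : ℕ}

instance : Mul (Wr N) :=
  ⟨fun a b => ⟨a.i + cond a.e b.j b.i, a.j + cond a.e b.i b.j, xor a.e b.e⟩⟩
instance : One (Wr N) := ⟨⟨0, 0, false⟩⟩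
instance : Inv (Wr N) := ⟨fun a => ⟨cond a.e (-a.j) (-a.i), cond a.e (-a.i) (-a.j), a.e⟩⟩

@[simp] theorem mul_i (a b : Wr N) : (a * b).i = a.i + cond a.e b.j b.i := rfl
@[simp] theorem mul_j (a b : Wr N) : (a * b).j = a.j + cond a.e b.i b.j := rfl
@[simp] theorem mul_e (a b : Wr N) : (a * b).e = xor a.e b.e := rfl
@[simp] theorem one_i : (1 : Wr N).i = 0 := rfl
@[simp] theorem one_j : (1 : Wr N).j = 0 := rfl
@[simp] theorem one_e : (1 : Wr N).e = false := rfl
@[simp] theorem inv_i (a : Wr N) : a⁻¹.i = cond a.e (-a.j) (-a.i) := rfl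
@[simp] theorem inv_j (a : Wr N) : a⁻¹.j = cond a.e (-a.i) (-a.j) := rfl
@[simp] theorem inv_e (a : Wr N) : a⁻¹.e = a.e := rfl

instance : Group (Wr N) :=
  Group.ofLeftAxioms
    (by rintro ⟨a, b, e⟩ ⟨c, d, f⟩ ⟨p, q, g⟩
        cases e <;> cases f <;> cases g <;> ext <;> simp [add_assoc])
    (by rintro ⟨a, b, e⟩; ext <;> simp)
    (by rintro ⟨a, b, e⟩; cases e <;> ext <;> simp)

/-- The coordinates as a triple. -/
def equivTriple : Wr N ≃ (ZMod N × ZMod N) × Bool where
  toFun a := ((a.i, a.j), a.e)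
  invFun t := ⟨t.1.1, t.1.2, t.2⟩
  left_inv _ := rfl
  right_inv _ := rfl

instance [NeZero N] : Finite (Wr N) := Finite.of_equiv _ equivTriple.symm

theorem card_eq : Nat.card (Wr N) = 2 * (N * N) := by
  rw [Nat.card_congr equivTriple, Nat.card_prod, Nat.card_prod, Nat.card_zmod, Nat.card_eq_fintype_card,
    Fintype.card_bool, mul_comm]

/-- The base subgroup. -/
def base (N : ℕ) : Subgroup (Wr N) where
  carrier := {a | a.e = false}
  one_mem' := rfl
  mul_mem' := by intro a b ha hb; simp only [Set.mem_ofPred_eq, mul_e] at *; simp [ha, hb]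
  inv_mem' := by intro a ha; simpa using ha

@[simp] theorem mem_base {a : Wr N} : a ∈ base N ↔ a.e = false := Iff.rfl

theorem base_comm {a b : Wr N} (ha : a ∈ base N) (hb : b ∈ base N) : a * b = b * a := by
  obtain ⟨a, b', e⟩ := a; obtain ⟨c, d, f⟩ := b
  simp only [mem_base] at ha hb; subst ha; subst hb
  ext <;> simp [add_comm]

/-- The base subgroup in coordinates. -/
def baseEquiv : base N ≃* Multiplicative (ZMod N × ZMod N) where
  toFun a := Multiplicative.ofAdd (a.1.i, a.1.j)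
  invFun t := ⟨⟨t.toAdd.1, t.toAdd.2, false⟩, rfl⟩
  left_inv := by rintro ⟨⟨a, b, e⟩, he⟩; simp only [mem_base] at he; subst he; rfl
  right_inv _ := rfl
  map_mul' := by
    rintro ⟨⟨a, b, e⟩, he⟩ ⟨⟨c, d, f⟩, hf⟩
    simp only [mem_base] at he hf; subst he; subst hf
    rfl

theorem card_base : Nat.card (base N) = N * N := by
  rw [Nat.card_congr baseEquiv.toEquiv, Nat.card_congr Multiplicative.toAdd, Nat.card_prod,
    Nat.card_zmod]

theorem commute_swap_iff {a b : Wr N} (ha : a.e = true) (hb : b.e = false) :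
    a * b = b * a ↔ b.i = b.j := by
  obtain ⟨i, j, e⟩ := a; obtain ⟨k, l, f⟩ := b
  simp only at ha hb; subst ha; subst hb
  simp only [Wr.ext_iff, mul_i, mul_j, mul_e, cond_true, cond_false, Bool.true_bne, Bool.bne_false,
    Bool.not_false, and_true]
  constructor
  · rintro ⟨h, -⟩
    rw [add_comm k i] at h
    exact (add_left_cancel h).symm
  · rintro rfl; exact ⟨add_comm _ _, add_comm _ _, rfl⟩

theorem commute_swap_swap_iff {a b : Wr N} (ha : a.e = true) (hb : b.e = true) :
    a * b = b * a ↔ a.i - a.j = b.i - b.j := by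
  obtain ⟨i, j, e⟩ := a; obtain ⟨k, l, f⟩ := b
  simp only at ha hb; subst ha; subst hb
  simp only [Wr.ext_iff, mul_i, mul_j, mul_e, cond_true, and_true]
  constructor
  · rintro ⟨h, -⟩; linear_combination h
  · intro h; exact ⟨by linear_combination h, by linear_combination -h⟩

theorem not_one_eq_zero (hN : 2 ≤ N) : (1 : ZMod N) ≠ 0 := by
  haveI : Fact (1 < N) := ⟨hN⟩
  exact one_ne_zero

theorem mem_center_iff (hN : 2 ≤ N) {a : Wr N} :
    a ∈ Subgroup.center (Wr N) ↔ a.e = false ∧ a.i = a.j := by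
  rw [Subgroup.mem_center_iff]
  constructor
  · intro h
    have he : a.e = false := by
      by_contra hc
      have := (commute_swap_iff (a := a) (b := ⟨1, 0, false⟩) (by simpa using hc) rfl).mp (h _).symm
      exact not_one_eq_zero hN this
    exact ⟨he, (commute_swap_iff (a := ⟨0, 0, true⟩) rfl he).mp (h _)⟩
  · rintro ⟨he, hij⟩ g
    cases hg : g.e
    · exact base_comm hg he
    · exact (commute_swap_iff hg he).mpr hij

/-- Diagonal elements. -/
def diag (N : ℕ) (c : ZMod N) : Wr N := ⟨c, c, false⟩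

theorem pow_base (a : Wr N) (ha : a.e = false) (m : ℕ) :
    (a ^ m).e = false ∧ (a ^ m).i = m * a.i ∧ (a ^ m).j = m * a.j := by
  induction m with
  | zero => simp
  | succ m ih =>
    obtain ⟨h1, h2, h3⟩ := ih
    refine ⟨?_, ?_, ?_⟩ <;> rw [pow_succ] <;> simp [h1, h2, h3, ha] <;> ring

theorem sq_swap {a : Wr N} (ha : a.e = true) : a * a = ⟨a.i + a.j, a.i + a.j, false⟩ := by
  ext <;> simp [ha, add_comm]

theorem isCyclic_center (hN : 2 ≤ N) : IsCyclic (Subgroup.center (Wr N)) := by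
  haveI : NeZero N := ⟨by omega⟩
  refine ⟨⟨⟨⟨1, 1, false⟩, (mem_center_iff hN).mpr ⟨rfl, rfl⟩⟩, fun a => ?_⟩⟩
  obtain ⟨he, hij⟩ := (mem_center_iff hN).mp a.2
  refine ⟨(a.1.i.val : ℤ), ?_⟩
  simp only [zpow_natCast]
  apply Subtype.ext
  obtain ⟨h1, h2, h3⟩ := pow_base (⟨1, 1, false⟩ : Wr N) rfl a.1.i.val
  rw [SubmonoidClass.coe_pow]
  ext
  · simp [h2]
  · rw [h3]; simp [hij]
  · simp [h1, he]

/-- The universal property used to identify wreathed groups with the model. -/
def lift {S : Type*} [Group S] (x y t : S) (hx : x ^ N = 1) (hy : y ^ N = 1) (hxy : x * y = y * x)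
    (ht : t * t = 1) (hconj : t * x * t⁻¹ = y) [NeZero N] : Wr N →* S :=
  MonoidHom.mk' (fun a => x ^ a.i.val * y ^ a.j.val * cond a.e t 1) (by
    have key : ∀ {z : S}, z ^ N = 1 → ∀ u v : ZMod N, z ^ (u + v).val = z ^ u.val * z ^ v.val := by
      intro z hz u v
      rw [← pow_add, pow_eq_pow_mod (u.val + v.val) hz, ZMod.val_add]
    have hc : ∀ m k : ℕ, y ^ m * x ^ k = x ^ k * y ^ m := fun m k =>
      ((Commute.pow_pow (show Commute x y from hxy)) k m).eq.symm
    have hti : t⁻¹ = t := inv_eq_of_mul_eq_one_right ht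
    have htx : ∀ m : ℕ, t * x ^ m = y ^ m * t := fun m => by
      rw [← hconj, conj_pow]; group
    have hty : ∀ m : ℕ, t * y ^ m = x ^ m * t := fun m => by
      calc t * y ^ m = t * (y ^ m * t) * t⁻¹ := by group
        _ = t * (t * x ^ m) * t⁻¹ := by rw [htx]
        _ = x ^ m * t := by rw [← mul_assoc, ht, one_mul, hti]
    rintro ⟨a, b, e⟩ ⟨c, d, f⟩
    cases e
    · simp only [mul_i, mul_j, mul_e, cond_false, Bool.false_bne, mul_one, key hx, key hy]
      simp only [← mul_assoc]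
      rw [mul_assoc (x ^ a.val) (y ^ b.val) (x ^ c.val), hc]
      simp only [← mul_assoc]
    · simp only [mul_i, mul_j, mul_e, cond_true, key hx, key hy]
      rw [show x ^ a.val * y ^ b.val * t * (x ^ c.val * y ^ d.val * cond f t 1) =
        x ^ a.val * y ^ b.val * (t * x ^ c.val) * y ^ d.val * cond f t 1 by simp only [mul_assoc],
        htx, show x ^ a.val * y ^ b.val * (y ^ c.val * t) * y ^ d.val * cond f t 1 =
        x ^ a.val * y ^ b.val * y ^ c.val * (t * y ^ d.val) * cond f t 1 by simp only [mul_assoc],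
        hty, show x ^ a.val * y ^ b.val * y ^ c.val * (x ^ d.val * t) * cond f t 1 =
        x ^ a.val * y ^ b.val * (y ^ c.val * x ^ d.val) * (t * cond f t 1) by simp only [mul_assoc],
        hc, show x ^ a.val * y ^ b.val * (x ^ d.val * y ^ c.val) =
        x ^ a.val * (y ^ b.val * x ^ d.val) * y ^ c.val by simp only [mul_assoc], hc]
      cases f <;> simp [mul_assoc, ht])

theorem lift_apply {S : Type*} [Group S] (x y t : S) (hx : x ^ N = 1) (hy : y ^ N = 1)
    (hxy : x * y = y * x) (ht : t * t = 1) (hconj : t * x * t⁻¹ = y) [NeZero N] (a : Wr N) :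
    lift x y t hx hy hxy ht hconj a = x ^ a.i.val * y ^ a.j.val * cond a.e t 1 := rfl

end Wr

/-- A wreathed group is isomorphic to the model. -/
theorem exists_equiv_wr {S : Type*} [Group S] [Finite S] (hS : Cfsg.IsWreathed S) :
    ∃ n, 2 ≤ n ∧ Nat.card S = 2 ^ (2 * n + 1) ∧ Nonempty (S ≃* Wr (2 ^ n)) := by
  obtain ⟨n, hn, hcard, x, y, t, hx, hxy, hdisj, ht, hconj⟩ := hS
  refine ⟨n, hn, hcard, ?_⟩
  haveI : NeZero (2 ^ n) := ⟨by positivity⟩
  have hy : orderOf y = 2 ^ n := by
    rw [← hconj, ← MulAut.conj_apply, MulEquiv.orderOf_eq, hx]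
  have htt : t * t = 1 := by rw [← pow_two, ← ht, pow_orderOf_eq_one]
  have hxN : x ^ 2 ^ n = 1 := hx ▸ pow_orderOf_eq_one x
  have hyN : y ^ 2 ^ n = 1 := hy ▸ pow_orderOf_eq_one y
  set f := Wr.lift x y t hxN hyN hxy htt hconj
  have hker : ∀ a, f a = 1 → a = 1 := by
    intro a ha
    have huniq : ∀ i j : ℕ, x ^ i * y ^ j = 1 → x ^ i = 1 ∧ y ^ j = 1 := by
      intro i j h
      have h1 : x ^ i ∈ Subgroup.zpowers x ⊓ Subgroup.zpowers y :=
        ⟨pow_mem (Subgroup.mem_zpowers x) i, by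
          rw [eq_inv_of_mul_eq_one_left h]
          exact (Subgroup.zpowers y).inv_mem ((Subgroup.zpowers y).pow_mem (Subgroup.mem_zpowers y) j)⟩
      rw [hdisj, Subgroup.mem_bot] at h1
      exact ⟨h1, by rw [h1, one_mul] at h; exact h⟩
    rw [Wr.lift_apply] at ha
    have he : a.e = false := by
      by_contra hc
      rw [Bool.not_eq_false] at hc
      rw [hc, cond_true] at ha
      have htA : t = (x ^ a.i.val * y ^ a.j.val)⁻¹ := eq_inv_of_mul_eq_one_right ha
      have hcom : Commute t x := by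
        rw [htA]
        exact ((Commute.pow_self x _).mul_left ((show Commute y x from hxy.symm).pow_left _)).inv_left
      have hyx : y = x := by rw [← hconj, hcom.eq, mul_inv_cancel_right]
      rw [hyx, inf_idem, Subgroup.zpowers_eq_bot] at hdisj
      rw [hdisj, orderOf_one] at hx
      exact absurd hx (Nat.one_lt_two_pow (by omega)).ne
    rw [he, cond_false, mul_one] at ha
    obtain ⟨h1, h2⟩ := huniq _ _ ha
    have key : ∀ {z : S}, orderOf z = 2 ^ n → ∀ {u : ZMod (2 ^ n)}, z ^ u.val = 1 → u = 0 := by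
      intro z hz u h
      have := Nat.eq_zero_of_dvd_of_lt (orderOf_dvd_of_pow_eq_one h) (by rw [hz]; exact ZMod.val_lt u)
      exact (ZMod.val_eq_zero u).mp this
    ext
    · exact key hx h1
    · exact key hy h2
    · exact he
  have hinj : Function.Injective f := (injective_iff_map_eq_one f).mpr hker
  have hc : Nat.card (Wr (2 ^ n)) = Nat.card S := by
    rw [Wr.card_eq, hcard, ← pow_add, ← pow_succ']; congr 1; omega
  exact ⟨(MulEquiv.ofBijective f ((Nat.bijective_iff_injective_and_card _).mpr ⟨hinj, hc⟩)).symm⟩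

end CfsgLib.Invol.QDW
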