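import Mathlib
import Cfsg.Agent.Lib.Invol.QDW.Wreath
import Cfsg.Agent.Lib.Invol.QDW.Transport

/-!
# Arithmetic and basic subgroups of the wreathed groups
-/

set_option autoImplicit false

namespace CfsgLib.Invol.QDW.Wr

variable {r : ℕ}

local notation "𝕂" => ZMod (2 ^ (r + 2))
local notation "𝕎" => Wr (2 ^ (r + 2))

/-- Half of the exponent. -/
def hf (r : ℕ) : ZMod (2 ^ (r + 2)) := (2 : ZMod (2 ^ (r + 2))) ^ (r + 1)

/-- A quarter of the exponent. -/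
def qt (r : ℕ) : ZMod (2 ^ (r + 2)) := (2 : ZMod (2 ^ (r + 2))) ^ r

theorem two_qt : (2 : 𝕂) * qt r = hf r := by rw [qt, hf]; ring

theorem two_hf : (2 : 𝕂) * hf r = 0 := by
  rw [hf, ← pow_succ']
  have := ZMod.natCast_self (2 ^ (r + 1 + 1))
  push_cast at this
  exact this

theorem hf_ne_zero : hf r ≠ (0 : 𝕂) := by
  intro h
  have h2 : ((2 ^ (r + 1) : ℕ) : 𝕂) = 0 := by push_cast; exact h
  rw [ZMod.natCast_eq_zero_iff] at h2
  have := Nat.le_of_dvd (by positivity) h2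
  simp [pow_succ] at this

theorem even_or_odd (i : 𝕂) : (∃ m, i = 2 * m) ∨ ∃ m, i = 2 * m + 1 := by
  rcases Nat.even_or_odd i.val with ⟨m, hm⟩ | ⟨m, hm⟩
  · exact Or.inl ⟨(m : ℕ), by rw [← ZMod.natCast_rightInverse i, hm]; push_cast; ring⟩
  · exact Or.inr ⟨(m : ℕ), by rw [← ZMod.natCast_rightInverse i, hm]; push_cast; ring⟩

theorem two_cancel {x : 𝕂} (h : 2 * x = 0) : x = 0 ∨ x = hf r := by
  have h1 := congrArg ZMod.val h
  rw [two_mul, ZMod.val_add, ZMod.val_zero] at h1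
  have h2 := ZMod.val_lt x
  have h3 : 2 ^ (r + 2) = 2 * 2 ^ (r + 1) := by rw [← pow_succ']
  have h4 : x.val = 0 ∨ x.val = 2 ^ (r + 1) := by
    rcases Nat.lt_or_ge (x.val + x.val) (2 ^ (r + 2)) with h5 | h5
    · rw [Nat.mod_eq_of_lt h5] at h1; omega
    · rw [Nat.mod_eq_sub_mod h5, Nat.mod_eq_of_lt (by omega)] at h1; omega
  rcases h4 with h4 | h4
  · exact Or.inl ((ZMod.val_eq_zero x).mp h4)
  · refine Or.inr ?_
    rw [← ZMod.natCast_rightInverse x, h4]; push_cast; rfl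

theorem hf_mul_odd (m : 𝕂) : hf r * (2 * m + 1) = hf r := by
  linear_combination m * (two_hf (r := r))

theorem hf_mul_eq_zero_iff {i : 𝕂} : hf r * i = 0 ↔ ∃ m, i = 2 * m := by
  constructor
  · intro h
    refine (even_or_odd i).resolve_right ?_
    rintro ⟨m, rfl⟩
    exact hf_ne_zero ((hf_mul_odd m).symm.trans h)
  · rintro ⟨m, rfl⟩
    linear_combination m * (two_hf (r := r))

theorem card_two_torsion : Nat.card {u : 𝕂 // 2 * u = 0} = 2 := by
  rw [show Nat.card {u : 𝕂 // 2 * u = 0} = Nat.card Bool from Nat.card_congr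
    { toFun := fun u => decide (u.1 = hf r)
      invFun := fun b => ⟨cond b (hf r) 0, by cases b <;> simp [two_hf]⟩
      left_inv := by
        rintro ⟨u, hu⟩
        rcases two_cancel hu with rfl | rfl <;> simp [hf_ne_zero.symm]
      right_inv := by intro b; cases b <;> simp [hf_ne_zero.symm] }]
  simp

theorem conj_swap (a : 𝕎) (i j : 𝕂) :
    a * ⟨i, j, true⟩ * a⁻¹ = ⟨cond a.e j i + (a.i - a.j), cond a.e i j - (a.i - a.j), true⟩ := by
  obtain ⟨x, y, e⟩ := a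
  cases e <;> ext <;> simp <;> ring

theorem conj_base (a : 𝕎) (i j : 𝕂) :
    a * ⟨i, j, false⟩ * a⁻¹ = ⟨cond a.e j i, cond a.e i j, false⟩ := by
  obtain ⟨x, y, e⟩ := a
  cases e <;> ext <;> simp

theorem exists_conj_swap {i j : 𝕂} (s : 𝕂) (h : i + j = s) :
    ∃ a : 𝕎, a * ⟨i, j, true⟩ * a⁻¹ = ⟨s, 0, true⟩ := by
  refine ⟨⟨j, 0, false⟩, ?_⟩
  rw [conj_swap]
  ext <;> simp [← h]

theorem orderOf_two_iff {a : 𝕎} : orderOf a = 2 ↔
    (a.e = false ∧ 2 * a.i = 0 ∧ 2 * a.j = 0 ∧ ¬(a.i = 0 ∧ a.j = 0)) ∨ (a.e = true ∧ a.i + a.j = 0) := by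
  obtain ⟨i, j, e⟩ := a
  rw [orderOf_eq_prime_iff, pow_two, Ne, Wr.ext_iff, Wr.ext_iff]
  cases e <;> simp [two_mul]
  · tauto
  · intro h; linear_combination h

/-- Centralizer bound for a swap. -/
theorem card_le_of_commute {N : ℕ} [NeZero N] (S : Set (Wr N)) {v : Wr N} (hv : v.e = true)
    (h : ∀ a ∈ S, a * v = v * a) : Nat.card S ≤ 2 * N := by
  have : Nat.card S ≤ Nat.card (Bool × ZMod N) := by
    refine Nat.card_le_card_of_injective (fun a => (a.1.e, a.1.i)) ?_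
    intro a b hab
    obtain ⟨he, hi⟩ := Prod.mk.injEq _ _ _ _ ▸ hab
    refine Subtype.ext (Wr.ext hi ?_ he)
    cases ha : a.1.e
    · rw [ha] at he
      rw [← (commute_swap_iff hv ha).mp (h _ a.2).symm, ← (commute_swap_iff hv he.symm).mp (h _ b.2).symm, hi]
    · rw [ha] at he
      have h1 := (commute_swap_swap_iff ha hv).mp (h _ a.2)
      have h2 := (commute_swap_swap_iff he.symm hv).mp (h _ b.2)
      rw [← h2, hi] at h1
      linear_combination -h1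
  simpa [Nat.card_prod, Nat.card_zmod] using this

theorem pow_diag (m : ℕ) (i : 𝕂) : (⟨i, i, false⟩ : 𝕎) ^ m = ⟨m * i, m * i, false⟩ := by
  obtain ⟨h1, h2, h3⟩ := pow_base (⟨i, i, false⟩ : 𝕎) rfl m
  exact Wr.ext h2 h3 h1

theorem two_le_N : 2 ≤ 2 ^ (r + 2) := le_self_pow₀ (by norm_num) (by omega)

theorem four_le_N : 4 ≤ 2 ^ (r + 2) := by
  calc 4 = 2 ^ 2 := by norm_num
    _ ≤ 2 ^ (r + 2) := Nat.pow_le_pow_right (by norm_num) (by omega)

end CfsgLib.Invol.QDW.Wr
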