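import Mathlib
import Cfsg.Agent.Lib.Invol.QDW.WrBasics

/-!
# Subgroups of the wreathed groups
-/

set_option autoImplicit false

namespace CfsgLib.Invol.QDW.Wr

variable {r : ℕ}

local notation "𝕂" => ZMod (2 ^ (r + 2))
local notation "𝕎" => Wr (2 ^ (r + 2))

theorem index_base {N : ℕ} : (base N).index = 2 := by
  rw [Subgroup.index_eq_two_iff]
  refine ⟨⟨0, 0, true⟩, fun b => ?_⟩
  simp only [mem_base, mul_e]
  cases b.e
  · exact Or.inr ⟨rfl, by simp⟩
  · exact Or.inl ⟨rfl, by simp⟩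

theorem eq_base_of_comm {U : Subgroup 𝕎} (hU : IsMulCommutative U)
    (hcard : Nat.card U = 2 ^ (r + 2) * 2 ^ (r + 2)) : U = base (2 ^ (r + 2)) := by
  by_cases h : ∃ v ∈ U, v.e = true
  · obtain ⟨v, hv, hve⟩ := h
    have := card_le_of_commute (U : Set 𝕎) hve fun a ha =>
      congrArg Subtype.val (mul_comm' (⟨a, ha⟩ : U) ⟨v, hv⟩)
    rw [SetLike.coe_sort_coe, hcard] at this
    have h4 := four_le_N (r := r)
    generalize 2 ^ (r + 2) = N at *
    nlinarith
  · push Not at h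
    refine Subgroup.eq_of_le_of_card_ge (fun a ha => mem_base.mpr (by simpa using h a ha)) ?_
    rw [card_base, hcard]

theorem center_eq : Subgroup.center 𝕎 = Subgroup.zpowers (⟨1, 1, false⟩ : 𝕎) := by
  refine le_antisymm (fun a ha => ?_) (Subgroup.zpowers_le.mpr ((mem_center_iff two_le_N).mpr ⟨rfl, rfl⟩))
  obtain ⟨he, hij⟩ := (mem_center_iff two_le_N).mp ha
  refine ⟨(a.i.val : ℤ), ?_⟩
  show (⟨1, 1, false⟩ : 𝕎) ^ (a.i.val : ℤ) = a
  rw [zpow_natCast, pow_diag, mul_one, ZMod.natCast_rightInverse a.i]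
  exact Wr.ext rfl hij he.symm

/-- The centre as a cyclic group. -/
def centerEquiv : Subgroup.center 𝕎 ≃ 𝕂 where
  toFun a := a.1.i
  invFun i := ⟨⟨i, i, false⟩, (mem_center_iff two_le_N).mpr ⟨rfl, rfl⟩⟩
  left_inv := fun a => by
    obtain ⟨he, hij⟩ := (mem_center_iff two_le_N).mp a.2
    exact Subtype.ext (Wr.ext rfl hij he.symm)
  right_inv _ := rfl

/-- Elements `⟨a, -a⟩` of the base. -/
def anti (r : ℕ) : Subgroup (Wr (2 ^ (r + 2))) where
  carrier := {a | a.e = false ∧ a.i + a.j = 0}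
  one_mem' := by simp
  mul_mem' := by
    rintro a b ⟨ha, ha'⟩ ⟨hb, hb'⟩
    refine ⟨by simp [ha, hb], ?_⟩
    simp only [mul_i, mul_j, ha, cond_false]
    linear_combination ha' + hb'
  inv_mem' := by
    rintro a ⟨ha, ha'⟩
    refine ⟨by simp [ha], ?_⟩
    simp only [inv_i, inv_j, ha, cond_false]
    linear_combination -ha'

theorem mem_anti {a : 𝕎} : a ∈ anti r ↔ a.e = false ∧ a.i + a.j = 0 := Iff.rfl

/-- `anti` in coordinates. -/
def antiEquiv : anti r ≃* Multiplicative 𝕂 where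
  toFun a := Multiplicative.ofAdd a.1.i
  invFun i := ⟨⟨i.toAdd, -i.toAdd, false⟩, rfl, by simp⟩
  left_inv := fun a => Subtype.ext (Wr.ext rfl (eq_neg_of_add_eq_zero_right a.2.2).symm a.2.1.symm)
  right_inv _ := rfl
  map_mul' := fun a b => congrArg Multiplicative.ofAdd (by simp [(mem_anti.mp a.2).1] : (a.1 * b.1).i = a.1.i + b.1.i)

theorem commutator_eq : commutator 𝕎 = anti r := by
  refine le_antisymm ?_ fun a ha => ?_
  · rw [commutator_def, Subgroup.commutator_le]
    rintro ⟨a, b, e⟩ _ ⟨c, d, f⟩ _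
    rw [mem_anti, commutatorElement_def]
    cases e <;> cases f <;> refine ⟨by simp, ?_⟩ <;> simp <;> ring
  · obtain ⟨he, hs⟩ := ha
    have := Subgroup.commutator_mem_commutator (Subgroup.mem_top (⟨a.i, 0, false⟩ : 𝕎))
      (Subgroup.mem_top (⟨0, 0, true⟩ : 𝕎))
    rw [← commutator_def] at this
    convert this using 1
    rw [commutatorElement_def]
    ext <;> simp [he]
    linear_combination hs

/-- The map onto the dihedral quotient. -/
def toDihedral (r : ℕ) : Wr (2 ^ (r + 2)) →* DihedralGroup (2 ^ (r + 2)) :=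
  MonoidHom.mk' (fun a => cond a.e (.sr (a.j - a.i)) (.r (a.i - a.j))) (by
    rintro ⟨a, b, e⟩ ⟨c, d, f⟩
    cases e <;> cases f <;> simp <;> ring)

theorem toDihedral_surjective : Function.Surjective (toDihedral r) := by
  rintro (i | i)
  · exact ⟨⟨i, 0, false⟩, by simp [toDihedral]⟩
  · exact ⟨⟨0, i, true⟩, by simp [toDihedral]⟩

theorem ker_toDihedral : (toDihedral r).ker = Subgroup.center 𝕎 := by
  ext ⟨a, b, e⟩
  rw [MonoidHom.mem_ker, mem_center_iff two_le_N]
  cases e <;> simp [toDihedral, show (1 : DihedralGroup (2 ^ (r + 2))) = .r 0 from rfl, -DihedralGroup.r_zero, sub_eq_zero]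

/-- The involutions of the base with the identity. -/
def omegaBase (r : ℕ) : Subgroup (Wr (2 ^ (r + 2))) where
  carrier := {a | a.e = false ∧ 2 * a.i = 0 ∧ 2 * a.j = 0}
  one_mem' := by simp
  mul_mem' := by
    rintro a b ⟨ha, h1, h2⟩ ⟨hb, h3, h4⟩
    refine ⟨by simp [ha, hb], ?_, ?_⟩ <;> simp only [mul_i, mul_j, ha, cond_false]
    · linear_combination h1 + h3
    · linear_combination h2 + h4
  inv_mem' := by
    rintro a ⟨ha, h1, h2⟩
    refine ⟨by simp [ha], ?_, ?_⟩ <;> simp only [inv_i, inv_j, ha, cond_false]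
    · linear_combination -h1
    · linear_combination -h2

theorem mem_omegaBase {a : 𝕎} : a ∈ omegaBase r ↔ a.e = false ∧ 2 * a.i = 0 ∧ 2 * a.j = 0 := Iff.rfl

instance : (omegaBase r).Normal := ⟨fun a ⟨ha, h1, h2⟩ g => by
  obtain ⟨i, j, e⟩ := a
  simp only at ha h1 h2; subst ha
  rw [conj_base, mem_omegaBase]
  cases g.e <;> simp [h1, h2]⟩

theorem card_omegaBase : Nat.card (omegaBase r) = 4 := by
  rw [show Nat.card (omegaBase r) = Nat.card ({u : 𝕂 // 2 * u = 0} × {u : 𝕂 // 2 * u = 0}) from Nat.card_congr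
    { toFun := fun a => (⟨a.1.i, a.2.2.1⟩, ⟨a.1.j, a.2.2.2⟩)
      invFun := fun p => ⟨⟨p.1.1, p.2.1, false⟩, rfl, p.1.2, p.2.2⟩
      left_inv := fun a => Subtype.ext (Wr.ext rfl rfl a.2.1.symm)
      right_inv := fun p => rfl }, Nat.card_prod, card_two_torsion]

/-- The four-group through the swap. -/
def swapFour (r : ℕ) : Subgroup (Wr (2 ^ (r + 2))) where
  carrier := {a | a.i = a.j ∧ 2 * a.i = 0}
  one_mem' := by simp
  mul_mem' := by
    rintro a b ⟨h1, h2⟩ ⟨h3, h4⟩
    refine ⟨?_, ?_⟩ <;> simp only [mul_i, mul_j] <;> cases a.e <;> simp only [cond_true, cond_false]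
    · rw [h1, h3]
    · rw [h1, h3]
    · linear_combination h2 + h4
    · rw [← h3]; linear_combination h2 + h4
  inv_mem' := by
    rintro a ⟨h1, h2⟩
    refine ⟨?_, ?_⟩ <;> simp only [inv_i, inv_j] <;> cases a.e <;> simp only [cond_true, cond_false]
    · rw [h1]
    · rw [h1]
    · linear_combination -h2
    · rw [← h1]; linear_combination -h2

theorem mem_swapFour {a : 𝕎} : a ∈ swapFour r ↔ a.i = a.j ∧ 2 * a.i = 0 := Iff.rfl

theorem card_swapFour : Nat.card (swapFour r) = 4 := by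
  rw [show Nat.card (swapFour r) = Nat.card ({u : 𝕂 // 2 * u = 0} × Bool) from Nat.card_congr
    { toFun := fun a => (⟨a.1.i, a.2.2⟩, a.1.e)
      invFun := fun p => ⟨⟨p.1.1, p.1.1, p.2⟩, rfl, p.1.2⟩
      left_inv := fun a => Subtype.ext (Wr.ext rfl a.2.1 rfl)
      right_inv := fun p => rfl }, Nat.card_prod, card_two_torsion]
  simp

theorem isKleinFour_of_sq {T : Subgroup 𝕎} (hc : Nat.card T = 4) (hsq : ∀ a ∈ T, a * a = 1) :
    IsKleinFour T := by
  refine ⟨hc, ?_⟩
  haveI : Nontrivial T := Finite.one_lt_card_iff_nontrivial.mp (by omega)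
  refine Monoid.exponent_eq_prime_iff Nat.prime_two |>.mpr fun a hne => ?_
  exact orderOf_eq_prime (Subtype.ext (by simpa [pow_two] using hsq a a.2)) hne

theorem klein_cases {T : Subgroup 𝕎} (hT : IsKleinFour T) :
    T = omegaBase r ∨ ∃ s : 𝕎, T.map (MulAut.conj s).toMonoidHom = swapFour r := by
  haveI := hT
  have hsq : ∀ a ∈ T, a * a = 1 := fun a ha =>
    congrArg Subtype.val (IsKleinFour.mul_self (⟨a, ha⟩ : T))
  by_cases h : ∃ v ∈ T, v.e = true
  · right
    obtain ⟨⟨i, j, f⟩, hv, hve⟩ := h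
    simp only at hve; subst hve
    have h0 := congrArg Wr.i (hsq _ hv)
    simp at h0
    obtain ⟨s, hs⟩ := exists_conj_swap (r := r) 0 h0
    refine ⟨s, Subgroup.eq_of_le_of_card_ge ?_ ?_⟩
    · rintro _ ⟨a, ha, rfl⟩
      show s * a * s⁻¹ ∈ swapFour r
      have hc : (s * a * s⁻¹) * ⟨0, 0, true⟩ = ⟨0, 0, true⟩ * (s * a * s⁻¹) := by
        rw [← hs]
        have hav : a * ⟨i, j, true⟩ = ⟨i, j, true⟩ * a := by
          have := IsKleinFour.mul_self ((⟨a, ha⟩ : T) * ⟨_, hv⟩)
          have h1 := fun z : T => inv_eq_of_mul_eq_one_left (IsKleinFour.mul_self z)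
          have h2 : (⟨a, ha⟩ : T) * ⟨_, hv⟩ = ⟨_, hv⟩ * ⟨a, ha⟩ := by rw [← h1 (_ * _), mul_inv_rev, h1, h1]
          exact congrArg Subtype.val h2
        rw [show s * a * s⁻¹ * (s * ⟨i, j, true⟩ * s⁻¹) = s * (a * ⟨i, j, true⟩) * s⁻¹ by group, hav]
        group
      have h2 : s * a * s⁻¹ * (s * a * s⁻¹) = 1 := by
        rw [show s * a * s⁻¹ * (s * a * s⁻¹) = s * (a * a) * s⁻¹ by group, hsq a ha]; group
      rw [mem_swapFour]
      generalize s * a * s⁻¹ = b at *
      cases hb : b.e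
      · have e := (commute_swap_iff (a := (⟨0, 0, true⟩ : 𝕎)) rfl hb).mp hc.symm
        refine ⟨e, ?_⟩
        have := congrArg Wr.i h2
        simpa [hb, two_mul] using this
      · have e := (commute_swap_swap_iff hb (b := (⟨0, 0, true⟩ : 𝕎)) rfl).mp hc
        simp at e
        refine ⟨sub_eq_zero.mp e, ?_⟩
        have := congrArg Wr.i h2
        simp [hb] at this
        linear_combination this + e
    · rw [card_swapFour, Subgroup.card_map_of_injective (MulAut.conj s).injective, IsKleinFour.card_four]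
  · left
    push Not at h
    refine Subgroup.eq_of_le_of_card_ge (fun a ha => ?_) (by rw [card_omegaBase, IsKleinFour.card_four])
    have he : a.e = false := by simpa using h a ha
    have h1 := congrArg Wr.i (hsq a ha)
    have h2 := congrArg Wr.j (hsq a ha)
    simp [he] at h1 h2
    exact ⟨he, by rw [two_mul]; exact h1, by rw [two_mul]; exact h2⟩

/-- The subgroup of the elements with sum in a fixed coset. -/
def sumEq (r : ℕ) : Subgroup (Wr (2 ^ (r + 2))) where
  carrier := {a | a.i + a.j = cond a.e (hf r) 0}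
  one_mem' := by simp
  mul_mem' := by
    rintro ⟨a, b, e⟩ ⟨c, d, f⟩ h1 h2
    simp only [Set.mem_ofPred_eq] at *
    cases e <;> cases f <;> simp at *
    · linear_combination h1 + h2
    · linear_combination h1 + h2
    · linear_combination h1 + h2
    · linear_combination h1 + h2 + (two_hf (r := r))
  inv_mem' := by
    rintro ⟨a, b, e⟩ h1
    simp only [Set.mem_ofPred_eq] at *
    cases e <;> simp at *
    · linear_combination -h1
    · linear_combination -h1 - (two_hf (r := r))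

theorem mem_sumEq {a : 𝕎} : a ∈ sumEq r ↔ a.i + a.j = cond a.e (hf r) 0 := Iff.rfl

instance : (sumEq r).Normal := ⟨fun a ha g => by
  obtain ⟨i, j, e⟩ := a
  rw [mem_sumEq] at ha
  cases e
  · rw [conj_base, mem_sumEq]
    cases g.e <;> simp at ha ⊢ <;> linear_combination ha
  · rw [conj_swap, mem_sumEq]
    cases g.e <;> simp at ha ⊢ <;> linear_combination ha⟩

theorem card_sumEq : Nat.card (sumEq r) = 2 ^ (r + 3) := by
  rw [show Nat.card (sumEq r) = Nat.card (𝕂 × Bool) from Nat.card_congr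
    { toFun := fun a => (a.1.i, a.1.e)
      invFun := fun p => ⟨⟨p.1, cond p.2 (hf r) 0 - p.1, p.2⟩, by rw [mem_sumEq]; simp⟩
      left_inv := fun a => Subtype.ext (Wr.ext rfl (by have h := mem_sumEq.mp a.2; simp only; rw [← h]; simp) rfl)
      right_inv := fun p => rfl }, Nat.card_prod, Nat.card_zmod]
  simp [pow_succ, mul_assoc]

/-- A quaternion group inside, from an additive map. -/
def quatHom (m : ℕ) (ψ : ZMod (2 * m) →+ ZMod (2 ^ (r + 2))) (hψ : ψ (m : ZMod (2 * m)) = hf r) :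
    QuaternionGroup m →* Wr (2 ^ (r + 2)) :=
  MonoidHom.mk' (fun x => match x with
    | .a j => ⟨ψ j, -ψ j, false⟩
    | .xa j => ⟨hf r - ψ j, ψ j, true⟩) (by
    rintro (a | a) (b | b) <;> ext <;>
      simp [QuaternionGroup.a_mul_a, QuaternionGroup.a_mul_xa, QuaternionGroup.xa_mul_a,
        QuaternionGroup.xa_mul_xa, hψ]
    all_goals first
      | ring1
      | linear_combination -(two_hf (r := r))
      | linear_combination (two_hf (r := r)))

theorem quatHom_a (m : ℕ) (ψ : ZMod (2 * m) →+ 𝕂) (hψ : ψ (m : ZMod (2 * m)) = hf r) (j : ZMod (2 * m)) :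
    quatHom m ψ hψ (.a j) = ⟨ψ j, -ψ j, false⟩ := rfl

theorem quatHom_xa (m : ℕ) (ψ : ZMod (2 * m) →+ 𝕂) (hψ : ψ (m : ZMod (2 * m)) = hf r) (j : ZMod (2 * m)) :
    quatHom m ψ hψ (.xa j) = ⟨hf r - ψ j, ψ j, true⟩ := rfl

theorem quatHom_injective (m : ℕ) (ψ : ZMod (2 * m) →+ 𝕂) (hψ : ψ (m : ZMod (2 * m)) = hf r)
    (hinj : Function.Injective ψ) : Function.Injective (quatHom m ψ hψ) := by
  rintro (a | a) (b | b) h <;> simp [quatHom_a, quatHom_xa, hinj.eq_iff] at h <;> rw [h]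

theorem sum_two_eq : ∀ {a : 𝕎}, a * a = ⟨hf r, hf r, false⟩ → a.e = true → a ∈ sumEq r := by
  intro a h he
  rw [sq_swap he] at h
  rw [mem_sumEq, he, cond_true]
  exact congrArg Wr.i h

/-- The two generators of a quaternion subgroup lie in `sumEq`. -/
theorem quat_pair {x y : 𝕎} (hx : x.e = false) (hord : orderOf x = 2 ^ (r + 2))
    (hconj : y * x * y⁻¹ = x⁻¹) (hsq : y * y = x ^ 2 ^ (r + 1)) : x ∈ sumEq r ∧ y ∈ sumEq r := by
  obtain ⟨a, b, e⟩ := x
  obtain ⟨c, d, f⟩ := y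
  simp only at hx; subst hx
  have hf' : f = true := by
    by_contra h
    simp only [Bool.not_eq_true] at h; subst h
    rw [conj_base] at hconj
    have h1 := congrArg Wr.i hconj
    have h2 := congrArg Wr.j hconj
    simp at h1 h2
    have h3 : (⟨a, b, false⟩ : 𝕎) ^ 2 = 1 := by
      rw [pow_two]; ext <;> simp
      · linear_combination h1
      · linear_combination h2
    have := Nat.le_of_dvd (by norm_num) (orderOf_dvd_of_pow_eq_one h3)
    rw [hord] at this
    have := four_le_N (r := r); omega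
  subst hf'
  rw [conj_base] at hconj
  have h1 := congrArg Wr.i hconj
  simp at h1
  obtain ⟨-, hp, -⟩ := pow_base (⟨a, b, false⟩ : 𝕎) rfl (2 ^ (r + 1))
  have h2 := congrArg Wr.i hsq
  rw [hp] at h2
  simp at h2
  have h3 : (2 : 𝕂) ^ (r + 1) * a = hf r := by
    rcases even_or_odd a with ⟨m, hm⟩ | ⟨m, hm⟩
    · exfalso
      have hz : (⟨a, b, false⟩ : 𝕎) ^ 2 ^ (r + 1) = 1 := by
        obtain ⟨g1, g2, g3⟩ := pow_base (⟨a, b, false⟩ : 𝕎) rfl (2 ^ (r + 1))
        ext
        · rw [g2, one_i]; push_cast; rw [← hf]; exact hf_mul_eq_zero_iff.mpr ⟨m, hm⟩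
        · rw [g3, one_j]; push_cast; rw [← hf]; exact hf_mul_eq_zero_iff.mpr ⟨-m, by rw [h1, hm]; ring⟩
        · rw [g1, one_e]
      have h5 := Nat.le_of_dvd (by positivity) (orderOf_dvd_of_pow_eq_one hz)
      rw [hord] at h5
      simp [pow_succ] at h5
    · rw [hm, ← hf]; exact hf_mul_odd m
  refine ⟨?_, ?_⟩
  · rw [mem_sumEq]; simp; linear_combination h1
  · rw [mem_sumEq]; simp; linear_combination h2 + h3

theorem range_le_sumEq (f : QuaternionGroup (2 ^ (r + 1)) →* 𝕎) (hinj : Function.Injective f) :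
    f.range ≤ sumEq r := by
  haveI : NeZero (2 ^ (r + 1)) := ⟨by positivity⟩
  suffices hk : f (.a 1) ∈ sumEq r ∧ f (.xa 0) ∈ sumEq r by
    have ha : ∀ j, f (.a j) ∈ sumEq r := fun j => by
      have := Subgroup.pow_mem _ hk.1 j.val
      rwa [← map_pow, QuaternionGroup.a_one_pow, ZMod.natCast_rightInverse j] at this
    rintro _ ⟨j | j, rfl⟩
    · exact ha j
    · have := Subgroup.mul_mem _ hk.2 (ha j)
      rwa [← map_mul, QuaternionGroup.xa_mul_a, zero_add] at this
  have ho : ∀ u, orderOf (f u) = orderOf u := fun u => orderOf_injective f hinj u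
  rcases Bool.eq_false_or_eq_true (f (.a 1)).e with ht | hfa
  · -- only possible for the quaternion group of order 8
    have h4 : orderOf (f (.a 1)) ∣ 4 := by
      apply orderOf_dvd_of_pow_eq_one
      have hc : f (.xa 0) * (f (.a 1) * f (.a 1)) * (f (.xa 0))⁻¹ = (f (.a 1) * f (.a 1))⁻¹ := by
        rw [← map_mul, ← map_mul, ← map_inv, ← map_inv, ← map_mul]
        congr 1
        rw [mul_inv_eq_iff_eq_mul]
        apply eq_inv_mul_of_mul_eq
        simp [QuaternionGroup.a_mul_a, QuaternionGroup.a_mul_xa, QuaternionGroup.xa_mul_a]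
      have hz : f (.a 1) * f (.a 1) ∈ Subgroup.center 𝕎 := by
        rw [sq_swap ht, mem_center_iff two_le_N]; exact ⟨rfl, rfl⟩
      rw [Subgroup.mem_center_iff.mp hz, mul_inv_cancel_right] at hc
      rw [show (4 : ℕ) = 2 * 2 by norm_num, pow_mul, pow_two (f (.a 1)), pow_two]
      nth_rw 1 [hc]
      exact inv_mul_cancel _
    rw [ho, QuaternionGroup.orderOf_a_one] at h4
    have hr : r = 0 := by
      have h5 := Nat.le_of_dvd (by norm_num) h4
      by_contra h
      have : 2 ^ (0 + 2) ≤ 2 ^ (r + 1) := Nat.pow_le_pow_right (by norm_num) (by omega)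
      omega
    subst hr
    rcases Bool.eq_false_or_eq_true (f (.xa 0)).e with ht2 | hf2
    · have h := quat_pair (x := f (.a 1 * .xa 0)) (y := f (.xa 0)) (by rw [map_mul, mul_e, ht, ht2]; rfl)
        (by rw [ho]; exact (QuaternionGroup.orderOf_xa (n := 2 ^ (0 + 1)) _).trans (by norm_num))
        (by rw [← map_mul, ← map_inv, ← map_mul, ← map_inv]; congr 1)
        (by rw [← map_mul, ← map_pow]; congr 1)
      refine ⟨?_, h.2⟩
      have := Subgroup.mul_mem _ h.1 (Subgroup.inv_mem _ h.2)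
      rwa [← map_inv, ← map_mul, mul_inv_cancel_right] at this
    · have h := quat_pair (x := f (.xa 0)) (y := f (.a 1)) hf2
        (by rw [ho]; exact (QuaternionGroup.orderOf_xa (n := 2 ^ (0 + 1)) _).trans (by norm_num))
        (by rw [← map_mul, ← map_inv, ← map_mul, ← map_inv]; congr 1)
        (by rw [← map_mul, ← map_pow]; congr 1)
      exact ⟨h.2, h.1⟩
  · refine quat_pair hfa ?_ ?_ ?_
    · rw [ho, QuaternionGroup.orderOf_a_one]; ring
    · rw [← map_mul, ← map_inv, ← map_mul, ← map_inv]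
      congr 1
      rw [mul_inv_eq_iff_eq_mul]
      apply eq_inv_mul_of_mul_eq
      simp [QuaternionGroup.a_mul_xa, QuaternionGroup.xa_mul_a]
    · rw [← map_mul, ← map_pow]
      congr 1
      simp [QuaternionGroup.a_one_pow]

/-- The subgroup generated by the involutions. -/
def sumTwo (r : ℕ) : Subgroup (Wr (2 ^ (r + 2))) where
  carrier := {a | 2 * (a.i + a.j) = 0}
  one_mem' := by simp
  mul_mem' := by
    rintro ⟨a, b, e⟩ ⟨c, d, f⟩ h1 h2
    simp only [Set.mem_ofPred_eq] at *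
    cases e <;> simp at * <;> linear_combination h1 + h2
  inv_mem' := by
    rintro ⟨a, b, e⟩ h1
    simp only [Set.mem_ofPred_eq] at *
    cases e <;> simp at * <;> linear_combination -h1

theorem mem_sumTwo {a : 𝕎} : a ∈ sumTwo r ↔ 2 * (a.i + a.j) = 0 := Iff.rfl

theorem card_sumTwo : Nat.card (sumTwo r) = 2 ^ (r + 4) := by
  rw [show Nat.card (sumTwo r) = Nat.card ((𝕂 × {u : 𝕂 // 2 * u = 0}) × Bool) from Nat.card_congr
    { toFun := fun a => ((a.1.i, ⟨a.1.i + a.1.j, a.2⟩), a.1.e)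
      invFun := fun p => ⟨⟨p.1.1, p.1.2.1 - p.1.1, p.2⟩, by rw [mem_sumTwo]; simpa using p.1.2.2⟩
      left_inv := fun a => Subtype.ext (Wr.ext rfl (by simp) rfl)
      right_inv := fun p => by simp }, Nat.card_prod, Nat.card_prod, card_two_torsion, Nat.card_zmod]
  simp [pow_succ, mul_assoc]

theorem closure_involutions : Subgroup.closure {x : 𝕎 | orderOf x = 2} = sumTwo r := by
  refine le_antisymm ((Subgroup.closure_le _).mpr fun a ha => ?_) ?_
  · rw [SetLike.mem_coe, mem_sumTwo]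
    rcases orderOf_two_iff.mp ha with ⟨-, h1, h2, -⟩ | ⟨-, h⟩
    · linear_combination h1 + h2
    · rw [h, mul_zero]
  · intro a ha
    rw [mem_sumTwo] at ha
    set C := Subgroup.closure {x : 𝕎 | orderOf x = 2}
    have hw : ∀ i, (⟨i, -i, true⟩ : 𝕎) ∈ C := fun i =>
      Subgroup.subset_closure (orderOf_two_iff.mpr (Or.inr ⟨rfl, add_neg_cancel i⟩))
    have hh : ∀ u, 2 * u = 0 → (⟨u, 0, false⟩ : 𝕎) ∈ C := fun u hu => by
      by_cases h0 : u = 0
      · subst h0; exact C.one_mem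
      · exact Subgroup.subset_closure (orderOf_two_iff.mpr (Or.inl ⟨rfl, hu, by simp, fun h => h0 h.1⟩))
    have hu := hh _ ha
    obtain ⟨i, j, e⟩ := a
    cases e
    · convert C.mul_mem (C.mul_mem (hw (-j)) (hw 0)) hu using 1
      ext <;> simp
    · convert C.mul_mem (hw i) hu using 1
      ext <;> simp

theorem sumTwo_sup_zpowers : sumTwo r ⊔ Subgroup.zpowers (⟨1, 0, false⟩ : 𝕎) = ⊤ := by
  rw [eq_top_iff]
  rintro ⟨i, j, e⟩ -
  have hs : ∀ m : 𝕂, (⟨m, 0, false⟩ : 𝕎) ∈ Subgroup.zpowers (⟨1, 0, false⟩ : 𝕎) := fun m => by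
    refine ⟨(m.val : ℤ), ?_⟩
    show (⟨1, 0, false⟩ : 𝕎) ^ (m.val : ℤ) = _
    obtain ⟨g1, g2, g3⟩ := pow_base (⟨1, 0, false⟩ : 𝕎) rfl m.val
    rw [zpow_natCast]
    ext
    · rw [g2]; simp
    · rw [g3]; simp
    · exact g1
  cases e
  · convert Subgroup.mul_mem_sup (show (⟨-j, j, false⟩ : 𝕎) ∈ sumTwo r by rw [mem_sumTwo]; simp) (hs (i + j)) using 1
    ext <;> simp
  · convert Subgroup.mul_mem_sup (show (⟨i, -i, true⟩ : 𝕎) ∈ sumTwo r by rw [mem_sumTwo]; simp) (hs (i + j)) using 1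
    ext <;> simp

theorem center_le_of_nonabelian {X : Subgroup 𝕎} (hX : ¬ IsMulCommutative X) :
    (Subgroup.center X).map X.subtype ≤ Subgroup.center 𝕎 := by
  rintro _ ⟨⟨a, ha⟩, hac, rfl⟩
  have hcom : ∀ x ∈ X, x * a = a * x := fun x hx =>
    congrArg Subtype.val (Subgroup.mem_center_iff.mp hac ⟨x, hx⟩)
  obtain ⟨v, hv, hve⟩ : ∃ v ∈ X, v.e = true := by
    by_contra h
    push Not at h
    exact hX ⟨⟨fun u v => Subtype.ext (base_comm (mem_base.mpr (by simpa using h _ u.2))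
      (mem_base.mpr (by simpa using h _ v.2)))⟩⟩
  show a ∈ Subgroup.center 𝕎
  cases hae : a.e
  · exact (mem_center_iff two_le_N).mpr ⟨hae, (commute_swap_iff hve hae).mp (hcom v hv)⟩
  · exfalso
    apply hX
    refine ⟨⟨fun ⟨u, hu⟩ ⟨w, hw⟩ => Subtype.ext ?_⟩⟩
    have cen : ∀ u ∈ X, u.e = false → u ∈ Subgroup.center 𝕎 := fun u hu he =>
      (mem_center_iff two_le_N).mpr ⟨he, (commute_swap_iff hae he).mp (hcom u hu).symm⟩
    cases hue : u.e
    · exact (Subgroup.mem_center_iff.mp (cen u hu hue) w).symm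
    · cases hwe : w.e
      · exact Subgroup.mem_center_iff.mp (cen w hw hwe) u
      · exact (commute_swap_swap_iff hue hwe).mpr (((commute_swap_swap_iff hue hae).mp (hcom u hu)).trans
          ((commute_swap_swap_iff hwe hae).mp (hcom w hw)).symm)

end CfsgLib.Invol.QDW.Wr
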