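import Mathlib
import Cfsg.Agent.Lib.Invol.QDW.WrSubgroups

/-!
# Self-centralizing subgroups of the wreathed groups with automorphisms of odd order
-/

set_option autoImplicit false

namespace CfsgLib.Invol.QDW

theorem iterate_pow_eq {X : Type*} [Group X] (φ : X ≃* X) {x : X} {a : ℕ} (h : φ x = x ^ a) (k : ℕ) :
    (φ ^ k : MulAut X) x = x ^ a ^ k := by
  induction k with
  | zero => simp
  | succ k ih =>
    rw [pow_succ', MulAut.mul_apply, ih, map_pow, h, ← pow_mul]
    congr 1
    ring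

/-- An automorphism of odd order preserving a cyclic 2-subgroup fixes it. -/
theorem fixed_of_pow {X : Type*} [Group X] (φ : MulAut X) {o : ℕ} (ho : Odd o)
    (hφ : φ ^ o = 1) {x : X} {t : ℕ} (hx : orderOf x = 2 ^ t) {a : ℕ} (h : φ x = x ^ a) : φ x = x := by
  rcases Nat.eq_zero_or_pos t with rfl | ht
  · rw [pow_zero, orderOf_eq_one_iff] at hx; subst hx; exact map_one φ
  have h1 := iterate_pow_eq φ h o
  rw [hφ, MulAut.one_apply] at h1
  have h2 : x ^ 1 = x ^ a ^ o := by rw [pow_one]; exact h1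
  rw [pow_inj_mod, hx, ← ZMod.natCast_eq_natCast_iff'] at h2
  push_cast at h2
  haveI : NeZero (2 ^ t) := ⟨by positivity⟩
  have hu : IsUnit (a : ZMod (2 ^ t)) := IsUnit.of_pow_eq_one h2.symm ho.pos.ne'
  obtain ⟨u, hu'⟩ := hu
  have h3 : u ^ o = 1 := Units.ext (by rw [Units.val_pow_eq_pow_val, hu', ← h2, Units.val_one])
  have h4 : u ^ (2 ^ (t - 1)) = 1 := by
    have h5 := pow_card_eq_one' (x := u)
    rwa [Nat.card_eq_fintype_card, ZMod.card_units_eq_totient, Nat.totient_prime_pow Nat.prime_two ht,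
      show (2 : ℕ) - 1 = 1 from rfl, mul_one] at h5
  have h6 : u = 1 := orderOf_eq_one_iff.mp (Nat.eq_one_of_dvd_coprimes
    (Nat.Coprime.pow_right (t - 1) (Nat.coprime_two_right.mpr ho)) (orderOf_dvd_of_pow_eq_one h3)
    (orderOf_dvd_of_pow_eq_one h4))
  rw [h]
  conv_rhs => rw [← pow_one x]
  rw [pow_inj_mod, hx, ← ZMod.natCast_eq_natCast_iff', ← hu', h6, Units.val_one, Nat.cast_one]

/-- A two-element moved part of a fixed element is trivial. -/
theorem fixed_of_mul {X : Type*} [Group X] (φ : MulAut X) {o : ℕ} (ho : Odd o)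
    (hφ : φ ^ o = 1) {x d : X} (hd : φ d = d) {t : ℕ} (h2 : d ^ 2 ^ t = 1) (h : φ x = x * d) : φ x = x := by
  have h1 : ∀ k : ℕ, (φ ^ k : MulAut X) x = x * d ^ k := by
    intro k
    induction k with
    | zero => simp
    | succ k ih =>
      rw [pow_succ', MulAut.mul_apply, ih, map_mul, map_pow, hd, h, mul_assoc, ← pow_succ']
  have h3 := h1 o
  rw [hφ, MulAut.one_apply] at h3
  have h4 : d = 1 := orderOf_eq_one_iff.mp (Nat.eq_one_of_dvd_coprimes
    (Nat.Coprime.pow_right t (Nat.coprime_two_right.mpr ho))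
    (orderOf_dvd_of_pow_eq_one (mul_left_cancel (h3.symm.trans (mul_one x).symm)))
    (orderOf_dvd_of_pow_eq_one h2))
  rw [h, h4, mul_one]

namespace Wr

variable {r : ℕ}

local notation "𝕂" => ZMod (2 ^ (r + 2))
local notation "𝕎" => Wr (2 ^ (r + 2))

theorem isPGroup_wr : IsPGroup 2 𝕎 :=
  IsPGroup.of_card (n := 2 * (r + 2) + 1) (by rw [card_eq, ← pow_add, ← pow_succ']; congr 1; ring)

/-- An odd-order automorphism of `X` preserving the base part is trivial. -/
theorem aut_trivial {X : Subgroup 𝕎} (hZ : Subgroup.center 𝕎 ≤ X) {w : X} (hw : w.1.e = true)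
    (φ : MulAut X) {o : ℕ} (ho : Odd o) (hφ : φ ^ o = 1)
    (hB : ∀ x : X, x.1.e = false → (φ x).1.e = false) : φ = 1 := by
  -- the swaps stay swaps
  have hBbij : ∀ x : X, x.1.e = true → (φ x).1.e = true := by
    intro x hx
    by_contra h
    simp only [Bool.not_eq_true] at h
    have h1 : ∀ k : ℕ, ((φ ^ k : MulAut X) (φ x)).1.e = false := by
      intro k
      induction k with
      | zero => simpa using h
      | succ k ih => rw [pow_succ' φ k, MulAut.mul_apply]; exact hB _ ih
    obtain ⟨j, rfl⟩ := ho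
    have h2 := h1 (2 * j)
    rw [← MulAut.mul_apply, ← pow_succ φ (2 * j), hφ, MulAut.one_apply, hx] at h2
    exact Bool.noConfusion h2
  have hswap : ∀ v : X, v.1.e = true → ∀ b : X, b.1.e = false →
      ((v * b * v⁻¹ : X) : 𝕎) = ⟨b.1.j, b.1.i, false⟩ := by
    intro v hv b hb
    obtain ⟨⟨i, j, e⟩, hb'⟩ := b
    simp only at hb; subst hb
    rw [Subgroup.coe_mul, Subgroup.coe_mul, Subgroup.coe_inv, conj_base, hv]
    rfl
  have hpow : ∀ x : X, ∃ t, orderOf x = 2 ^ t := fun x =>
    IsPGroup.iff_orderOf.mp (isPGroup_wr.to_subgroup X) x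
  have hpow1 : ∀ x : X, ∃ t, x ^ 2 ^ t = 1 := isPGroup_wr.to_subgroup X
  -- the centre
  let c : X := ⟨⟨1, 1, false⟩, hZ ((mem_center_iff two_le_N).mpr ⟨rfl, rfl⟩)⟩
  have hdiag : ∀ x : X, x.1.e = false → x.1.i = x.1.j → x = c ^ x.1.i.val := by
    intro x he hij
    apply Subtype.ext
    rw [SubmonoidClass.coe_pow, pow_diag, mul_one, ZMod.natCast_rightInverse x.1.i]
    exact Wr.ext rfl hij.symm he
  have hφswap : ∀ v : X, v.1.e = true → ∀ b : X, b.1.e = false →
      (φ (v * b * v⁻¹) : 𝕎) = ⟨(φ b).1.j, (φ b).1.i, false⟩ := by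
    intro v hv b hb
    rw [map_mul, map_mul, map_inv]
    exact hswap _ (hBbij v hv) _ (hB b hb)
  have hc : φ c = c := by
    obtain ⟨t, ht⟩ := hpow c
    refine fixed_of_pow φ ho hφ ht (hdiag _ (hB c rfl) ?_)
    have h1 := hφswap w hw c rfl
    rw [show w * c * w⁻¹ = c from Subtype.ext (hswap w hw c rfl)] at h1
    exact congrArg Wr.i h1
  have hdiag' : ∀ x : X, x.1.e = false → x.1.i = x.1.j → φ x = x := fun x he hij => by
    rw [hdiag x he hij, map_pow, hc]
  -- the differences
  let D : AddSubgroup 𝕂 :=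
  { carrier := {u | (⟨u, 0, false⟩ : 𝕎) ∈ X}
    zero_mem' := X.one_mem
    add_mem' := fun {a b} ha hb => by
      show (⟨a + b, 0, false⟩ : 𝕎) ∈ X
      convert X.mul_mem ha hb using 1
      ext <;> simp
    neg_mem' := fun {a} ha => by
      show (⟨-a, 0, false⟩ : 𝕎) ∈ X
      convert X.inv_mem ha using 1
      ext <;> simp }
  have hD : ∀ x : X, x.1.e = false → x.1.i - x.1.j ∈ D := by
    intro x he
    show (⟨x.1.i - x.1.j, 0, false⟩ : 𝕎) ∈ X
    have hd : (⟨x.1.j, x.1.j, false⟩ : 𝕎) ∈ X := hZ ((mem_center_iff two_le_N).mpr ⟨rfl, rfl⟩)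
    convert X.mul_mem x.2 (X.inv_mem hd) using 1
    ext <;> simp [he, sub_eq_add_neg]
  obtain ⟨⟨g, hgD⟩, hg⟩ := IsAddCyclic.exists_generator (α := D)
  have hDmul : ∀ u ∈ D, ∃ n : ℕ, u = n * g := by
    intro u hu
    obtain ⟨m, hm⟩ := hg ⟨u, hu⟩
    refine ⟨(m : 𝕂).val, ?_⟩
    rw [ZMod.natCast_rightInverse (m : 𝕂), ← zsmul_eq_mul]
    exact (congrArg Subtype.val hm).symm
  let b0 : X := ⟨⟨g, 0, false⟩, hgD⟩
  let x0 : X := w * b0 * w⁻¹ * b0⁻¹
  have hx0 : (x0 : 𝕎) = ⟨-g, g, false⟩ := by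
    show ((w * b0 * w⁻¹ : X) : 𝕎) * (b0 : 𝕎)⁻¹ = _
    rw [hswap w hw b0 rfl]
    ext <;> simp [b0]
  have hφb0 : (φ b0).1.e = false := hB b0 rfl
  have hφx0 : (φ x0 : 𝕎) = ⟨(φ b0).1.j - (φ b0).1.i, (φ b0).1.i - (φ b0).1.j, false⟩ := by
    show (φ (w * b0 * w⁻¹ * b0⁻¹) : 𝕎) = _
    rw [map_mul, map_inv, Subgroup.coe_mul, hφswap w hw b0 rfl]
    ext <;> simp [hφb0, sub_eq_add_neg]
  have hx0fix : φ x0 = x0 := by
    obtain ⟨t, ht⟩ := hpow x0
    obtain ⟨n, hn⟩ := hDmul _ (hD _ hφb0)
    refine fixed_of_pow φ ho hφ ht (a := n) (Subtype.ext ?_)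
    rw [SubmonoidClass.coe_pow, hx0, hφx0]
    obtain ⟨g1, g2, g3⟩ := pow_base (⟨-g, g, false⟩ : 𝕎) rfl n
    ext
    · rw [g2]; simp only; linear_combination -hn
    · rw [g3]; simp only; linear_combination hn
    · exact g1.symm
  have hb0 : φ b0 = b0 := by
    let d : X := b0⁻¹ * φ b0
    have hd : φ d = d := by
      refine hdiag' d (by simp [d, b0, hφb0]) ?_
      have h1 := congrArg (fun u : X => (u : 𝕎).i) hx0fix
      simp only [hφx0, hx0] at h1
      simp [d, b0]
      linear_combination -h1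
    obtain ⟨t, ht⟩ := hpow1 d
    exact fixed_of_mul φ ho hφ hd ht (by simp [d])
  have hbase : ∀ x : X, x.1.e = false → φ x = x := by
    intro x he
    obtain ⟨n, hn⟩ := hDmul _ (hD x he)
    have hdec : x = b0 ^ n * c ^ x.1.j.val := by
      apply Subtype.ext
      rw [Subgroup.coe_mul, SubmonoidClass.coe_pow, SubmonoidClass.coe_pow, pow_diag, mul_one,
        ZMod.natCast_rightInverse x.1.j]
      obtain ⟨g1, g2, g3⟩ := pow_base (⟨g, 0, false⟩ : 𝕎) rfl n
      show (x : 𝕎) = (⟨g, 0, false⟩ : 𝕎) ^ n * _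
      ext <;> simp [g1, g2, g3, he]
      linear_combination hn
    rw [hdec, map_mul, map_pow, map_pow, hb0, hc]
  -- the swaps
  have hwfix : φ w = w := by
    let d : X := w⁻¹ * φ w
    obtain ⟨t, ht⟩ := hpow1 d
    exact fixed_of_mul φ ho hφ (hbase d (by simp [d, hw, hBbij w hw])) ht (by simp [d])
  refine MulEquiv.ext fun x => ?_
  rw [MulAut.one_apply]
  cases he : x.1.e
  · exact hbase x he
  · calc φ x = φ ((x * w⁻¹) * w) := by rw [inv_mul_cancel_right]
      _ = x := by rw [map_mul, hbase _ (by simp [he, hw]), hwfix, inv_mul_cancel_right]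

/-- The subgroup `⟨(0,0,swap)⟩` times the centre. -/
def swapCentre (r : ℕ) : Subgroup (Wr (2 ^ (r + 2))) where
  carrier := {a | a.i = a.j}
  one_mem' := by simp
  mul_mem' := by
    rintro ⟨a, b, e⟩ ⟨c, d, f⟩ h1 h2
    simp only [Set.mem_ofPred_eq] at *
    subst h1; subst h2
    cases e <;> simp
  inv_mem' := by
    rintro ⟨a, b, e⟩ h1
    simp only [Set.mem_ofPred_eq] at *
    subst h1
    cases e <;> simp

/-- The subgroup of the second kind. -/
def diffTwo (r : ℕ) : Subgroup (Wr (2 ^ (r + 2))) where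
  carrier := {a | 2 * (a.i - a.j) = 0}
  one_mem' := by simp
  mul_mem' := by
    rintro ⟨a, b, e⟩ ⟨c, d, f⟩ h1 h2
    simp only [Set.mem_ofPred_eq] at *
    cases e <;> simp at *
    · linear_combination h1 + h2
    · linear_combination h1 - h2
  inv_mem' := by
    rintro ⟨a, b, e⟩ h1
    simp only [Set.mem_ofPred_eq] at *
    cases e <;> simp at *
    · linear_combination -h1
    · linear_combination h1

/-- The subgroup containing `diffTwo` with index two. -/
def diffFour (r : ℕ) : Subgroup (Wr (2 ^ (r + 2))) where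
  carrier := {a | 4 * (a.i - a.j) = 0}
  one_mem' := by simp
  mul_mem' := by
    rintro ⟨a, b, e⟩ ⟨c, d, f⟩ h1 h2
    simp only [Set.mem_ofPred_eq] at *
    cases e <;> simp at *
    · linear_combination h1 + h2
    · linear_combination h1 - h2
  inv_mem' := by
    rintro ⟨a, b, e⟩ h1
    simp only [Set.mem_ofPred_eq] at *
    cases e <;> simp at *
    · linear_combination -h1
    · linear_combination h1

theorem mem_diffTwo {a : 𝕎} : a ∈ diffTwo r ↔ 2 * (a.i - a.j) = 0 := Iff.rfl
theorem mem_diffFour {a : 𝕎} : a ∈ diffFour r ↔ 4 * (a.i - a.j) = 0 := Iff.rfl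
theorem mem_swapCentre {a : 𝕎} : a ∈ swapCentre r ↔ a.i = a.j := Iff.rfl

theorem diffTwo_le : diffTwo r ≤ diffFour r := fun a ha => by
  rw [mem_diffTwo] at ha; rw [mem_diffFour]; linear_combination 2 * ha

theorem relIndex_diffTwo : (diffTwo r).relIndex (diffFour r) = 2 := by
  rw [Subgroup.relIndex, Subgroup.index_eq_two_iff]
  have hm : (⟨qt r, 0, false⟩ : 𝕎) ∈ diffFour r := by
    rw [mem_diffFour]; simp only [sub_zero]
    linear_combination 2 * (two_qt (r := r)) + (two_hf (r := r))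
  refine ⟨⟨_, hm⟩, ?_⟩
  rintro ⟨⟨i, j, e⟩, ha⟩
  simp only [Subgroup.mem_subgroupOf, Subgroup.coe_mul, mem_diffTwo, mul_i, mul_j]
  rw [mem_diffFour] at ha
  simp only at ha
  have e1 : 2 * (i + cond e 0 (qt r) - (j + cond e (qt r) 0)) = 2 * (i - j) + hf r := by
    cases e <;> simp only [cond_true, cond_false]
    · linear_combination (two_qt (r := r))
    · linear_combination -(two_qt (r := r)) - (two_hf (r := r))
  rw [e1]
  rcases two_cancel (x := 2 * (i - j)) (by linear_combination ha) with h | h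
  · exact Or.inr ⟨h, by rw [h, zero_add]; exact hf_ne_zero⟩
  · refine Or.inl ⟨by rw [h, ← two_mul, two_hf], ?_⟩
    rw [h]; exact hf_ne_zero

theorem normalizer_diffTwo : Subgroup.normalizer (diffTwo r : Set 𝕎) = diffFour r := by
  refine le_antisymm (fun a ha => ?_) ?_
  · have h0 : (⟨0, 0, true⟩ : 𝕎) ∈ diffTwo r := by rw [mem_diffTwo]; simp
    have h1 := (Subgroup.mem_normalizer_iff.mp ha _).mp h0
    rw [conj_swap, mem_diffTwo] at h1
    rw [mem_diffFour]
    cases a.e <;> simp at h1 <;> linear_combination h1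
  · haveI : ((diffTwo r).subgroupOf (diffFour r)).Normal :=
      Subgroup.normal_of_index_eq_two relIndex_diffTwo
    exact Subgroup.le_normalizer_of_normal_subgroupOf diffTwo_le

theorem swapCentre_aut (φ : MulAut (swapCentre r)) {o : ℕ} (ho : Odd o) (hφ : φ ^ o = 1) : φ = 1 := by
  have hZ : Subgroup.center 𝕎 ≤ swapCentre r := fun a ha => ((mem_center_iff two_le_N).mp ha).2
  let c : swapCentre r := ⟨⟨1, 1, false⟩, rfl⟩
  let w : swapCentre r := ⟨⟨0, 0, true⟩, rfl⟩
  let χ : swapCentre r → ZMod 2 := fun x => cond x.1.e 1 0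
  have hχ : ∀ x y, χ (x * y) = χ x + χ y := by
    intro x y
    simp only [χ, Subgroup.coe_mul, mul_e]
    cases x.1.e <;> cases y.1.e <;> decide
  have hχpow : ∀ (x : swapCentre r) (m : ℕ), χ (x ^ m) = m * χ x := by
    intro x m
    induction m with
    | zero => simp [χ]
    | succ m ih => rw [pow_succ, hχ, ih]; push_cast; ring
  have hdec : ∀ x : swapCentre r, x = c ^ x.1.i.val * w ^ (cond x.1.e 1 0 : ℕ) := by
    intro x
    apply Subtype.ext
    rw [Subgroup.coe_mul, SubmonoidClass.coe_pow, SubmonoidClass.coe_pow, pow_diag, mul_one,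
      ZMod.natCast_rightInverse x.1.i]
    cases he : x.1.e
    · simp only [cond_false, pow_zero, mul_one]; exact Wr.ext rfl x.2.symm he
    · simp only [cond_true, pow_one]
      ext <;> simp [w, he]
      exact x.2.symm
  set a := (φ c).1.i.val with ha
  set e : ℕ := cond (φ c).1.e 1 0 with hedef
  have hφc : φ c = c ^ a * w ^ e := hdec (φ c)
  have hhf : (2 ^ (r + 1) : ℕ) = ((2 : ℕ) * 2 ^ r) := by rw [pow_succ']
  -- the central involution is fixed
  have hsq : ∀ x : swapCentre r, ((x ^ 2 ^ (r + 1) : swapCentre r) : 𝕎) = ⟨hf r * x.1.i, hf r * x.1.i, false⟩ := by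
    intro x
    obtain ⟨⟨i, j, e⟩, hx⟩ := x
    rw [mem_swapCentre] at hx; simp only at hx; subst hx
    rw [SubmonoidClass.coe_pow, hhf, pow_mul,
      show (⟨i, i, e⟩ : 𝕎) ^ 2 = ⟨i + i, i + i, false⟩ by rw [pow_two]; cases e <;> ext <;> simp,
      pow_diag]
    have : ((2 ^ r : ℕ) : 𝕂) * (i + i) = hf r * i := by
      push_cast; rw [hf]; ring
    rw [this]
  let z : swapCentre r := c ^ 2 ^ (r + 1)
  have hz1 : (z : 𝕎) = ⟨hf r, hf r, false⟩ := by rw [hsq]; simp [c]
  have hzfix : φ z = z := by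
    have h1 : (φ z : 𝕎) = ⟨hf r * (φ c).1.i, hf r * (φ c).1.i, false⟩ := by
      rw [show φ z = φ c ^ 2 ^ (r + 1) from map_pow φ _ _]; exact hsq _
    rcases even_or_odd (φ c).1.i with hev | ⟨m, hm⟩
    · exfalso
      rw [hf_mul_eq_zero_iff.mpr hev] at h1
      have hz0 : z = 1 := (MulEquiv.map_eq_one_iff φ).mp (Subtype.ext h1)
      rw [hz0] at hz1
      exact hf_ne_zero (congrArg Wr.i hz1).symm
    · rw [hm, hf_mul_odd] at h1
      exact Subtype.ext (h1.trans hz1.symm)
  have hodd : (a : ZMod 2) = 1 := by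
    rcases Nat.even_or_odd a with ⟨m, hm⟩ | ⟨m, hm⟩
    · exfalso
      have h1 : (φ z : 𝕎) = 1 := by
        rw [show φ z = φ c ^ 2 ^ (r + 1) from map_pow φ _ _, hsq,
          show (φ c).1.i = 2 * (m : 𝕂) by rw [← ZMod.natCast_rightInverse (φ c).1.i, ← ha, hm]; push_cast; ring,
          show hf r * (2 * (m : 𝕂)) = 0 from hf_mul_eq_zero_iff.mpr ⟨_, rfl⟩]
        rfl
      rw [hzfix, hz1] at h1
      exact hf_ne_zero (congrArg Wr.i h1)
    · rw [hm]; push_cast; rw [show (2 : ZMod 2) = 0 from rfl, zero_mul, zero_add]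
  have hw : χ (φ w) = 1 := by
    cases he : (φ w).1.e
    · exfalso
      have h2 : φ w * φ w = 1 := by rw [← map_mul, ← map_one φ]; congr 1; apply Subtype.ext; ext <;> simp [w]
      have h3 := congrArg (fun u : swapCentre r => (u : 𝕎).i) h2
      simp [he] at h3
      rcases two_cancel (x := (φ w).1.i) (by linear_combination h3) with h | h
      · have h4 : φ w = 1 := Subtype.ext (Wr.ext (by simpa using h) (by simpa using (φ w).2.symm.trans h) (by simpa using he))
        exact Bool.noConfusion (congrArg (fun u : swapCentre r => (u : 𝕎).e) ((MulEquiv.map_eq_one_iff φ).mp h4))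
      · have h4 : φ w = z := Subtype.ext (by rw [hz1]; exact Wr.ext h (by rw [← (φ w).2]; exact h) he)
        rw [← hzfix] at h4
        have := congrArg (fun u : swapCentre r => (u : 𝕎).e) (φ.injective h4)
        rw [hz1] at this
        exact Bool.noConfusion this
    · simp [χ, he]
  have hφw : ∀ k : ℕ, χ ((φ ^ k : MulAut (swapCentre r)) c) = k * e ∧ χ ((φ ^ k : MulAut (swapCentre r)) w) = 1 := by
    have step : ∀ x, χ (φ x) = χ x + (x.1.i.val : ZMod 2) * e := by
      intro x
      conv_lhs => rw [hdec x]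
      rw [map_mul, map_pow, map_pow, hχ, hχpow, hχpow, hw, hφc, hχ, hχpow, hχpow]
      simp only [χ, c, w, cond_true, cond_false]
      cases x.1.e <;> simp [add_comm]
    have step2 : ∀ x : swapCentre r, ((φ x).1.i.val : ZMod 2) = (x.1.i.val : ZMod 2) := by
      intro x
      let par : ZMod (2 ^ (r + 2)) →+* ZMod 2 := ZMod.castHom (dvd_pow_self 2 (by omega)) (ZMod 2)
      have hp : ∀ u : 𝕂, (u.val : ZMod 2) = par u := fun u => by
        conv_rhs => rw [← ZMod.natCast_rightInverse u]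
        rw [map_natCast]
      have hI : ∀ y y' : swapCentre r, (y * y').1.i = y.1.i + y'.1.i := by
        intro y y'
        rw [Subgroup.coe_mul, mul_i]
        cases y.1.e <;> simp [show y'.1.i = y'.1.j from y'.2]
      have hIp : ∀ (y : swapCentre r) (m : ℕ), (y ^ m).1.i = m * y.1.i := by
        intro y m
        induction m with
        | zero => simp
        | succ m ih => rw [pow_succ y m, hI, ih]; push_cast; ring
      have hwi : par (φ w).1.i = 0 := by
        have h2 : φ w * φ w = 1 := by rw [← map_mul, ← map_one φ]; congr 1; apply Subtype.ext; ext <;> simp [w]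
        have h3 := congrArg (fun u : swapCentre r => (u : 𝕎).i) h2
        simp only [hI] at h3
        simp at h3
        rcases two_cancel (x := (φ w).1.i) (by linear_combination h3) with h | h <;> rw [h]
        · exact map_zero par
        · rw [hf, map_pow, map_ofNat, show (2 : ZMod 2) = 0 from rfl, zero_pow (by omega)]
      rw [hp, hp]
      conv_lhs => rw [hdec x]
      rw [map_mul, map_pow, map_pow, hI, hIp, hIp, map_add, map_mul, map_mul, map_natCast, map_natCast,
        hwi, mul_zero, add_zero, ← hp (φ c).1.i, ← ha, hodd, mul_one, hp]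
    intro k
    induction k with
    | zero => simp [χ, c, w]
    | succ k ih =>
      have hval : ∀ x : swapCentre r, ∀ k : ℕ, ((((φ ^ k : MulAut (swapCentre r)) x)).1.i.val : ZMod 2) = (x.1.i.val : ZMod 2) := by
        intro x k
        induction k with
        | zero => simp
        | succ k ihk => rw [pow_succ' φ k, MulAut.mul_apply, step2, ihk]
      rw [pow_succ' φ k, MulAut.mul_apply, MulAut.mul_apply, step, step, ih.1, ih.2, hval, hval]
      haveI : Fact (1 < 2 ^ (r + 2)) := ⟨two_le_N⟩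
      simp [c, w, ZMod.val_one]
      ring
  have he0 : (e : ZMod 2) = 0 := by
    have h := (hφw o).1
    rw [hφ, MulAut.one_apply] at h
    obtain ⟨m, rfl⟩ := ho
    simp only [χ, c, cond_false] at h
    push_cast at h
    rw [show (2 : ZMod 2) = 0 from rfl, zero_mul, zero_add, one_mul] at h
    exact h.symm
  refine aut_trivial hZ (w := w) rfl φ ho hφ fun x hx => ?_
  have hxc : x = c ^ x.1.i.val := by
    conv_lhs => rw [hdec x]
    rw [hx, cond_false, pow_zero, mul_one]
  rw [hxc, map_pow]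
  cases hce : (φ c).1.e
  · rw [SubmonoidClass.coe_pow]; exact (pow_base _ hce _).1
  · rw [hedef, hce] at he0; exact absurd he0 (by decide)

/-- The classification. -/
theorem self_centralizing_cases {X : Subgroup 𝕎} (hC : Subgroup.centralizer (X : Set 𝕎) ≤ X)
    (hA : ¬ IsPGroup 2 (MulAut X)) :
    X = base (2 ^ (r + 2)) ∨ ∃ s : 𝕎, X.map (MulAut.conj s).toMonoidHom = diffTwo r := by
  have hZ : Subgroup.center 𝕎 ≤ X := (Subgroup.center_le_centralizer (X : Set 𝕎)).trans hC
  by_cases hsw : ∃ w : X, w.1.e = true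
  swap
  · left
    push Not at hsw
    refine le_antisymm (fun a ha => mem_base.mpr (by simpa using hsw ⟨a, ha⟩)) fun a ha => hC ?_
    exact Subgroup.mem_centralizer_iff.mpr fun x hx =>
      base_comm (mem_base.mpr (by simpa using hsw ⟨x, hx⟩)) ha
  obtain ⟨w, hw⟩ := hsw
  right
  -- a nontrivial automorphism of odd order
  obtain ⟨φ, hφne, o, ho, hφo⟩ : ∃ φ : MulAut X, φ ≠ 1 ∧ ∃ o, Odd o ∧ φ ^ o = 1 := by
    by_contra hcon
    push Not at hcon
    apply hA
    intro ψ
    obtain ⟨l, m, hm, hlm⟩ := Nat.exists_eq_two_pow_mul_odd (orderOf_pos ψ).ne'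
    refine ⟨l, ?_⟩
    by_contra h
    exact hcon _ h m hm (by rw [← pow_mul, ← hlm, pow_orderOf_eq_one])
  have hdiag : ∀ c : 𝕂, (⟨c, c, false⟩ : 𝕎) ∈ X := fun c =>
    hZ ((mem_center_iff two_le_N).mpr ⟨rfl, rfl⟩)
  have hu : ∀ x : X, x.1.e = false → 2 * (x.1.i - x.1.j) = 0 := by
    by_contra hcon
    push Not at hcon
    obtain ⟨⟨⟨i, j, e⟩, hx⟩, he, hne⟩ := hcon
    simp only at he hne; subst he
    apply hφne
    refine aut_trivial hZ hw φ ho hφo ?_
    by_contra hB
    push Not at hB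
    obtain ⟨b1, hb1, hb1'⟩ := hB
    have hb1t : (φ b1).1.e = true := by simpa using hb1'
    let f : 𝕂 × Fin 3 → {a : X // a.1.e = false} := fun p =>
      ⟨⟨⟨p.1 + (p.2.1 : 𝕂) * (i - j), p.1, false⟩, by
        have h1 : (⟨i - j, 0, false⟩ : 𝕎) ∈ X := by
          convert X.mul_mem hx (X.inv_mem (hdiag j)) using 1
          ext <;> simp [sub_eq_add_neg]
        obtain ⟨g1, g2, g3⟩ := pow_base (⟨i - j, 0, false⟩ : 𝕎) rfl p.2.1
        convert X.mul_mem (hdiag p.1) (X.pow_mem h1 p.2.1) using 1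
        ext <;> simp [g1, g2, g3]⟩, rfl⟩
    have hf' : Function.Injective f := by
      rintro ⟨p, k⟩ ⟨p', k'⟩ h
      have h1 := congrArg (fun a : {a : X // a.1.e = false} => a.1.1.j) h
      have h2 := congrArg (fun a : {a : X // a.1.e = false} => a.1.1.i) h
      simp only [f] at h1 h2
      subst h1
      have hne' : i - j ≠ 0 := fun h0 => hne (by rw [h0, mul_zero])
      fin_cases k <;> fin_cases k' <;> simp at h2 <;> first
        | rfl
        | exact absurd h2 hne
        | exact absurd h2.symm hne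
        | exact absurd h2 hne'
        | exact absurd h2.symm hne'
        | exact absurd (show i - j = 0 by linear_combination h2) hne'
        | exact absurd (show i - j = 0 by linear_combination -h2) hne'
    have h3 := Nat.card_le_card_of_injective f hf'
    rw [Nat.card_prod, Nat.card_zmod, Nat.card_fin] at h3
    have h4 := card_le_of_commute {a : 𝕎 | ∃ b : X, b.1.e = false ∧ (φ b).1 = a} hb1t (by
      rintro _ ⟨b, hb, rfl⟩
      have : b * b1 = b1 * b := Subtype.ext (base_comm (mem_base.mpr hb) (mem_base.mpr hb1))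
      exact congrArg Subtype.val ((map_mul φ b b1).symm.trans ((congrArg φ this).trans (map_mul φ b1 b))))
    have h5 : Nat.card {a : X // a.1.e = false} ≤ Nat.card {a : 𝕎 | ∃ b : X, b.1.e = false ∧ (φ b).1 = a} :=
      Nat.card_le_card_of_injective (fun a => ⟨(φ a.1).1, a.1, a.2, rfl⟩)
        (fun a b h => Subtype.ext (φ.injective (Subtype.ext (congrArg Subtype.val h :))))
    have := four_le_N (r := r)
    generalize 2 ^ (r + 2) = N at *
    omega
  -- some swap has even sum
  by_cases hpar : ∀ v : X, v.1.e = true → ∃ m, v.1.i + v.1.j = 2 * m + 1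
  · exfalso
    apply hφne
    refine aut_trivial hZ hw φ ho hφo fun x hx => ?_
    have hx1 : x ^ 2 ^ (r + 2) = 1 := by
      obtain ⟨g1, g2, g3⟩ := pow_base x.1 hx (2 ^ (r + 2))
      apply Subtype.ext
      rw [SubmonoidClass.coe_pow]
      ext
      · rw [g2, ZMod.natCast_self, zero_mul]; rfl
      · rw [g3, ZMod.natCast_self, zero_mul]; rfl
      · rw [g1]; rfl
    by_contra h
    have ht : (φ x).1.e = true := by simpa using h
    obtain ⟨m, hm⟩ := hpar _ ht
    have h2 := congrArg (fun u : X => (u : 𝕎).i) (congrArg φ hx1)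
    simp only [map_pow, map_one, SubmonoidClass.coe_pow] at h2
    have e : ∀ u : 𝕎, u ^ 2 ^ (r + 2) = (u * u) ^ 2 ^ (r + 1) := fun u => by
      rw [← pow_two u, ← pow_mul]; congr 1; ring
    rw [e, sq_swap ht, hm, pow_diag] at h2
    simp at h2
    rw [← hf, hf_mul_odd] at h2
    exact hf_ne_zero h2
  push Not at hpar
  obtain ⟨v, hv, hvs⟩ := hpar
  obtain ⟨m, hm⟩ := (even_or_odd (v.1.i + v.1.j)).resolve_right (fun ⟨m, hm⟩ => hvs m hm)
  -- normalise the swap
  obtain ⟨⟨i, j, e⟩, hvX⟩ := v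
  simp only at hv hm; subst hv
  have hv' : (⟨i - m, j - m, true⟩ : 𝕎) ∈ X := by
    convert X.mul_mem hvX (hdiag (-m)) using 1
    ext <;> simp [sub_eq_add_neg]
  obtain ⟨s, hs⟩ := exists_conj_swap (r := r) (i := i - m) (j := j - m) 0 (by linear_combination hm)
  refine ⟨s, ?_⟩
  set Y := X.map (MulAut.conj s).toMonoidHom with hY
  have hYd : ∀ c : 𝕂, (⟨c, c, false⟩ : 𝕎) ∈ Y := fun c => ⟨_, hdiag c, by
    show s * ⟨c, c, false⟩ * s⁻¹ = _
    rw [conj_base]; cases s.e <;> rfl⟩
  have hY0 : (⟨0, 0, true⟩ : 𝕎) ∈ Y := ⟨_, hv', hs⟩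
  have hYu : ∀ y ∈ Y, 2 * (y.i - y.j) = 0 := by
    have key : ∀ y ∈ Y, y.e = false → 2 * (y.i - y.j) = 0 := by
      rintro _ ⟨x, hx, rfl⟩ he
      obtain ⟨a, b, f⟩ := x
      have hfe : f = false := by
        change (s * ⟨a, b, f⟩ * s⁻¹).e = false at he
        revert he
        cases s.e <;> cases f <;> simp [conj_swap]
      subst hfe
      show 2 * ((s * ⟨a, b, false⟩ * s⁻¹).i - (s * ⟨a, b, false⟩ * s⁻¹).j) = 0
      rw [conj_base]
      have := hu ⟨_, hx⟩ rfl
      simp only at this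
      cases s.e <;> simp only [cond_true, cond_false]
      · exact this
      · linear_combination -this
    intro y hy
    cases he : y.e
    · exact key y hy he
    · have := key _ (Y.mul_mem hy hY0) (by simp [he])
      simp [he] at this
      linear_combination this
  refine le_antisymm (fun y hy => mem_diffTwo.mpr (hYu y hy)) ?_
  by_contra hle
  -- otherwise `Y` is abelian, hence without such automorphisms
  have hYe : Y = swapCentre r := by
    refine le_antisymm (fun y hy => mem_swapCentre.mpr ?_) fun y hy => ?_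
    · rcases two_cancel (hYu y hy) with h | h
      · exact sub_eq_zero.mp h
      exfalso
      apply hle
      have hh : (⟨hf r, 0, false⟩ : 𝕎) ∈ Y := by
        cases he : y.e
        · convert Y.mul_mem hy (Y.inv_mem (hYd y.j)) using 1
          ext <;> simp [he, ← h, sub_eq_add_neg]
        · convert Y.mul_mem (Y.mul_mem hy hY0) (Y.inv_mem (hYd y.j)) using 1
          ext <;> simp [he, ← h, sub_eq_add_neg]
      rintro ⟨a, b, f⟩ hab
      rw [mem_diffTwo] at hab
      have hpart : (⟨a, b, false⟩ : 𝕎) ∈ Y := by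
        rcases two_cancel hab with h1 | h1 <;> simp only at h1
        · rw [sub_eq_zero.mp h1]; exact hYd b
        · convert Y.mul_mem hh (hYd b) using 1
          ext <;> simp
          linear_combination h1
      cases f
      · exact hpart
      · convert Y.mul_mem hpart hY0 using 1
        ext <;> simp
    · obtain ⟨a, b, f⟩ := y
      rw [mem_swapCentre] at hy; simp only at hy; subst hy
      cases f
      · exact hYd a
      · convert Y.mul_mem (hYd a) hY0 using 1
        ext <;> simp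
  apply hφne
  let eY : X ≃* swapCentre r := (mapEquiv (MulAut.conj s) X).trans (MulEquiv.subgroupCongr hYe)
  have hψ : MulAut.congr eY φ = 1 := swapCentre_aut _ ho (by rw [← map_pow, hφo, map_one])
  exact (MulEquiv.map_eq_one_iff _).mp hψ

/-- The quaternion group in `diffTwo`. -/
theorem exists_quaternion_diffTwo : ∃ Q : Subgroup 𝕎, Nonempty (Q ≃* QuaternionGroup 2) ∧
    diffTwo r = Q ⊔ Subgroup.center 𝕎 := by
  let ψ : ZMod (2 * 2) →+ 𝕂 :=
    ZMod.lift (2 * 2) ⟨(AddMonoidHom.mulLeft (qt r)).comp (Int.castAddHom _), by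
      show qt r * (((2 * 2 : ℕ) : ℤ) : 𝕂) = 0
      push_cast; linear_combination 2 * (two_qt (r := r)) + (two_hf (r := r))⟩
  have hψn : ∀ n : ℕ, ψ (n : ZMod (2 * 2)) = qt r * n := fun n => by
    rw [show ((n : ℕ) : ZMod (2 * 2)) = ((n : ℤ) : ZMod (2 * 2)) by norm_cast, ZMod.lift_coe]
    simp
  have hψ2 : ψ ((2 : ℕ) : ZMod (2 * 2)) = hf r := by
    rw [hψn]; push_cast; linear_combination (two_qt (r := r))
  have hinj : Function.Injective ψ := by
    refine (injective_iff_map_eq_zero _).mpr fun x hx => ?_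
    rw [← ZMod.natCast_rightInverse x, hψn] at hx
    have hlt : x.val < 2 * 2 := ZMod.val_lt x
    have : x.val = 0 ∨ x.val = 1 ∨ x.val = 2 ∨ x.val = 3 := by omega
    rcases this with h | h | h | h <;> rw [h] at hx <;> push_cast at hx
    · exact (ZMod.val_eq_zero x).mp h
    · exact absurd (by linear_combination -(two_qt (r := r)) + 2 * hx : hf r = 0) hf_ne_zero
    · exact absurd (by linear_combination -(two_qt (r := r)) + hx : hf r = 0) hf_ne_zero
    · exact absurd (by linear_combination -(two_qt (r := r)) + 2 * hx - (2 * (two_qt (r := r)) + (two_hf (r := r))) : hf r = 0) hf_ne_zero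
  set f := quatHom 2 ψ hψ2 with hfdef
  refine ⟨f.range, ⟨(MonoidHom.ofInjective (quatHom_injective 2 ψ hψ2 hinj)).symm⟩, le_antisymm ?_ (sup_le ?_ ?_)⟩
  · have hψ1 : ψ (1 : ZMod (2 * 2)) = qt r := by simpa using hψn 1
    have hd : ∀ c : 𝕂, (⟨c, c, false⟩ : 𝕎) ∈ f.range ⊔ Subgroup.center 𝕎 := fun c =>
      Subgroup.mem_sup_right ((mem_center_iff two_le_N).mpr ⟨rfl, rfl⟩)
    have hh : (⟨hf r, 0, false⟩ : 𝕎) ∈ f.range ⊔ Subgroup.center 𝕎 := by
      have h1 : f (.a 1) ∈ f.range ⊔ Subgroup.center 𝕎 := Subgroup.mem_sup_left ⟨_, rfl⟩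
      rw [hfdef, quatHom_a, hψ1] at h1
      convert Subgroup.mul_mem _ h1 (hd (qt r)) using 1
      ext <;> simp
      linear_combination -(two_qt (r := r))
    have h0 : (⟨0, 0, true⟩ : 𝕎) ∈ f.range ⊔ Subgroup.center 𝕎 := by
      have h1 : f (.xa 1) ∈ f.range ⊔ Subgroup.center 𝕎 := Subgroup.mem_sup_left ⟨_, rfl⟩
      rw [hfdef, quatHom_xa, hψ1] at h1
      convert Subgroup.mul_mem _ (hd (-qt r)) h1 using 1
      ext <;> simp
      linear_combination (two_qt (r := r))
    rintro ⟨a, b, e⟩ hab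
    rw [mem_diffTwo] at hab
    have hpart : (⟨a, b, false⟩ : 𝕎) ∈ f.range ⊔ Subgroup.center 𝕎 := by
      rcases two_cancel hab with h1 | h1 <;> simp only at h1
      · rw [sub_eq_zero.mp h1]; exact hd b
      · convert Subgroup.mul_mem _ hh (hd b) using 1
        ext <;> simp
        linear_combination h1
    cases e
    · exact hpart
    · convert Subgroup.mul_mem _ hpart h0 using 1
      ext <;> simp
  · rintro _ ⟨x | x, rfl⟩ <;> rw [hfdef] <;>
      first | rw [quatHom_a] | rw [quatHom_xa]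
    · rw [mem_diffTwo, ← ZMod.natCast_rightInverse x, hψn]
      simp only
      linear_combination 2 * (x.val : 𝕂) * (two_qt (r := r)) + (x.val : 𝕂) * (two_hf (r := r))
    · rw [mem_diffTwo, ← ZMod.natCast_rightInverse x, hψn]
      simp only
      linear_combination -2 * (x.val : 𝕂) * (two_qt (r := r)) + (1 - (x.val : 𝕂)) * (two_hf (r := r))
  · intro a ha
    rw [mem_diffTwo, ((mem_center_iff two_le_N).mp ha).2, sub_self, mul_zero]

end Wr

end CfsgLib.Invol.QDW
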