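import Mathlib
import Cfsg.Agent.Lib.Invol.Sylow
import Cfsg.Agent.Lib.Invol.TransferPow
import Cfsg.Agent.Lib.Invol.QDW.WrAut
import Cfsg.Agent.Lib.Transfer.Fusion
import Cfsg.Agent.Lib.Transfer.Frobenius

/-!
# The index of `X * C(X)` in `N(X)` for small subgroups `X` of a Sylow 2-subgroup
-/

set_option autoImplicit false

namespace CfsgLib.Invol.QDW

open CfsgLib.Invol

/-! ## Automorphisms of odd order -/

/-- An automorphism of odd order preserving a cyclic subgroup of index two is trivial. -/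
theorem aut_trivial_cyclic {X : Type*} [Group X] [Finite X] (hX : IsPGroup 2 X) (φ : MulAut X) {o : ℕ}
    (ho : Odd o) (hφ : φ ^ o = 1) {c w : X}
    (hcw : ∀ x : X, x ∈ Subgroup.zpowers c ∨ w⁻¹ * x ∈ Subgroup.zpowers c)
    (hc : φ c ∈ Subgroup.zpowers c) : φ = 1 := by
  have hfix : φ c = c := by
    obtain ⟨t, ht⟩ := IsPGroup.iff_orderOf.mp hX c
    obtain ⟨a, ha⟩ := (Submonoid.mem_powers_iff _ _).mp
      ((isOfFinOrder_of_finite _).mem_powers_iff_mem_zpowers.mpr hc)
    exact fixed_of_pow φ ho hφ ht ha.symm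
  have hfixC : ∀ x ∈ Subgroup.zpowers c, φ x = x := by
    rintro _ ⟨j, rfl⟩
    show φ (c ^ j) = c ^ j
    rw [map_zpow, hfix]
  have hw : φ w = w := by
    rcases hcw (φ w) with h | h
    · -- then `w` itself lies in the cyclic subgroup
      apply φ.injective
      exact hfixC _ h
    · obtain ⟨t, ht⟩ := hX (w⁻¹ * φ w)
      exact fixed_of_mul φ ho hφ (hfixC _ h) ht (by simp)
  refine MulEquiv.ext fun x => ?_
  rw [MulAut.one_apply]
  rcases hcw x with h | h
  · exact hfixC x h
  · calc φ x = φ (w * (w⁻¹ * x)) := by rw [mul_inv_cancel_left]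
      _ = x := by rw [map_mul, hw, hfixC _ h, mul_inv_cancel_left]

/-- An automorphism of odd order fixing the involutions of an abelian 2-group is trivial. -/
theorem aut_trivial_abelian {X : Type*} [Group X] [Finite X] (hX : IsPGroup 2 X)
    (hab : ∀ x y : X, x * y = y * x) (φ : MulAut X) {o : ℕ} (ho : Odd o) (hφ : φ ^ o = 1)
    (hfix : ∀ x : X, x * x = 1 → φ x = x) : φ = 1 := by
  suffices ∀ (t : ℕ) (x : X), x ^ 2 ^ t = 1 → φ x = x from
    MulEquiv.ext fun x => by obtain ⟨t, ht⟩ := hX x; exact this t x ht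
  intro t
  induction t with
  | zero => intro x h; rw [pow_zero, pow_one] at h; rw [h, map_one]
  | succ t ih =>
    intro x h
    have h2 : φ (x * x) = x * x := ih _ (by rw [← pow_two, ← pow_mul, ← pow_succ']; exact h)
    have hd : (x⁻¹ * φ x) * (x⁻¹ * φ x) = 1 := by
      have hc : Commute x⁻¹ (φ x) := hab _ _
      rw [hc.symm.mul_mul_mul_comm, ← map_mul, h2]
      group
    exact fixed_of_mul φ ho hφ (hfix _ hd) (t := 1) (by rw [pow_one, pow_two]; exact hd) (by simp)

variable {G : Type*} [Group G] [Finite G]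

/-- Conjugation restricted to a normalized subgroup. -/
def conjRestrict {X : Subgroup G} {n : G} (hn : n ∈ Subgroup.normalizer (X : Set G)) : MulAut X where
  toFun x := ⟨n * x * n⁻¹, (Subgroup.mem_normalizer_iff.mp hn _).mp x.2⟩
  invFun x := ⟨n⁻¹ * x * n, by
    have := (Subgroup.mem_normalizer_iff.mp (inv_mem hn) (x : G)).mp x.2
    rwa [inv_inv] at this⟩
  left_inv x := Subtype.ext (by group)
  right_inv x := Subtype.ext (by group)
  map_mul' x y := Subtype.ext (by simp [mul_assoc])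

theorem conjRestrict_apply {X : Subgroup G} {n : G} (hn : n ∈ Subgroup.normalizer (X : Set G)) (x : X) :
    (conjRestrict hn x : G) = n * x * n⁻¹ := rfl

theorem conjRestrict_pow {X : Subgroup G} {n : G} (hn : n ∈ Subgroup.normalizer (X : Set G)) (k : ℕ) (x : X) :
    ((conjRestrict hn ^ k : MulAut X) x : G) = n ^ k * x * (n ^ k)⁻¹ := by
  induction k with
  | zero => simp
  | succ k ih => rw [pow_succ' (conjRestrict hn) k, MulAut.mul_apply, conjRestrict_apply, ih, pow_succ' n k]; group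

theorem conjRestrict_pow_orderOf {X : Subgroup G} {n : G} (hn : n ∈ Subgroup.normalizer (X : Set G)) :
    conjRestrict hn ^ orderOf n = 1 :=
  MulEquiv.ext fun x => Subtype.ext (by rw [conjRestrict_pow, pow_orderOf_eq_one]; simp)

theorem centralizer_of_conjRestrict {X : Subgroup G} {n : G} (hn : n ∈ Subgroup.normalizer (X : Set G))
    (h : conjRestrict hn = 1) : n ∈ Subgroup.centralizer (X : Set G) :=
  Subgroup.mem_centralizer_iff.mpr fun x hx => by
    have := congrArg (fun f : MulAut X => (f ⟨x, hx⟩ : G)) h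
    simp only [conjRestrict_apply, MulAut.one_apply] at this
    exact (mul_inv_eq_iff_eq_mul.mp this).symm

/-- An odd element normalizing `X` and keeping a cyclic subgroup of index two centralizes `X`. -/
theorem centralizes_of_cyclic {X : Subgroup G} (hX : IsPGroup 2 X) {n : G}
    (hn : n ∈ Subgroup.normalizer (X : Set G)) (ho : Odd (orderOf n)) {c w : G} (hc : c ∈ X) (hw : w ∈ X)
    (hcw : ∀ x ∈ X, x ∈ Subgroup.zpowers c ∨ w⁻¹ * x ∈ Subgroup.zpowers c)
    (hnc : n * c * n⁻¹ ∈ Subgroup.zpowers c) : n ∈ Subgroup.centralizer (X : Set G) := by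
  refine centralizer_of_conjRestrict hn (aut_trivial_cyclic hX _ ho (conjRestrict_pow_orderOf hn)
    (c := ⟨c, hc⟩) (w := ⟨w, hw⟩) (fun x => ?_) ?_)
  · have key : ∀ y : X, (y : G) ∈ Subgroup.zpowers c → y ∈ Subgroup.zpowers (⟨c, hc⟩ : X) := by
      rintro y ⟨j, hj⟩; exact ⟨j, Subtype.ext (by simpa using hj)⟩
    exact (hcw x x.2).imp (key x) (key (⟨w, hw⟩⁻¹ * x))
  · obtain ⟨j, hj⟩ := hnc
    exact ⟨j, Subtype.ext (by simpa [conjRestrict_apply] using hj)⟩

/-- If a subgroup contains all `[n, x]` it contains the generators of `X`. -/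
theorem mem_of_commutators {X L : Subgroup G} (hX : IsPGroup 2 X) {n : G}
    (hn : n ∈ Subgroup.normalizer (X : Set G)) (ho : Odd (orderOf n))
    (hnC : n ∉ Subgroup.centralizer (X : Set G))
    (hcom : ∀ x ∈ X, n * x * n⁻¹ * x⁻¹ ∈ L) {c w : G} (hc : c ∈ X) (hw : w ∈ X) (hcL : c ∈ L)
    (hcw : ∀ x ∈ X, x ∈ Subgroup.zpowers c ∨ w⁻¹ * x ∈ Subgroup.zpowers c) : w ∈ L := by
  by_contra hwL
  apply hnC
  refine centralizes_of_cyclic hX hn ho hc hw hcw ?_
  have hm : n * c * n⁻¹ ∈ L := by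
    have := mul_mem (hcom c hc) hcL
    rwa [inv_mul_cancel_right] at this
  refine (hcw _ ((Subgroup.mem_normalizer_iff.mp hn c).mp hc)).resolve_right fun h => hwL ?_
  have h2 : w⁻¹ * (n * c * n⁻¹) ∈ L := Subgroup.zpowers_le.mpr hcL h
  simpa [mul_assoc] using L.mul_mem hm (L.inv_mem h2)

/-! ## The index -/

theorem relIndex_le_card {E N : Subgroup G} {Y : Type*} [Finite Y] (f : N → Y)
    (hf : ∀ a b : N, f a = f b → ((a : G)⁻¹ * b) ∈ E) : E.relIndex N ≤ Nat.card Y := by
  rw [Subgroup.relIndex, Subgroup.index_eq_card]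
  refine Nat.card_le_card_of_injective (fun q => f q.out) fun a b h => ?_
  rw [← a.out_eq, ← b.out_eq]
  exact QuotientGroup.eq.mpr (Subgroup.mem_subgroupOf.mpr (by simpa using hf _ _ h))

theorem exists_odd_pow {x : G} : ∃ l : ℕ, Odd (orderOf (x ^ 2 ^ l)) := by
  obtain ⟨l, m, hm, hlm⟩ := Nat.exists_eq_two_pow_mul_odd (orderOf_pos x).ne'
  refine ⟨l, ?_⟩
  rw [orderOf_pow' _ (by positivity), hlm, Nat.gcd_eq_right (dvd_mul_right _ _),
    Nat.mul_div_cancel_left _ (by positivity)]
  exact hm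

theorem relIndex_two_pow {E K : Subgroup G} (hKE : K ≤ E) (hn : (K.subgroupOf E).Normal)
    (h : ∀ x ∈ E, Odd (orderOf x) → x ∈ K) : ∃ a, K.relIndex E = 2 ^ a := by
  haveI := hn
  have hq : IsPGroup 2 (E ⧸ K.subgroupOf E) := by
    intro q
    obtain ⟨x, rfl⟩ := QuotientGroup.mk'_surjective _ q
    obtain ⟨l, hl⟩ := exists_odd_pow (x := (x : G))
    refine ⟨l, ?_⟩
    rw [← map_pow, QuotientGroup.mk'_apply, QuotientGroup.eq_one_iff, Subgroup.mem_subgroupOf]
    rw [Subgroup.coe_pow]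
    exact h _ (pow_mem x.2 _) hl
  obtain ⟨a, ha⟩ := hq.exists_card_eq
  exact ⟨a, by rw [Subgroup.relIndex, Subgroup.index_eq_card, ha]⟩

/-- The hypotheses for the index computation. -/
structure LocalData (X W : Subgroup G) : Prop where
  le_W : X ≤ W
  W_le : W ≤ Subgroup.normalizer (X : Set G)
  W_two : IsPGroup 2 W
  index_two : X.relIndex W = 2
  W_inf : ∀ x ∈ W, x ∈ Subgroup.centralizer (X : Set G) → x ∈ X
  bound : ∀ R : Subgroup G, IsPGroup 2 R → R ≤ Subgroup.normalizer (X : Set G) → Nat.card R ≤ Nat.card W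

theorem local_index {X W E : Subgroup G} (h : LocalData X W)
    (hEN : E ≤ Subgroup.normalizer (X : Set G)) (hWE : W ≤ E)
    (hCE : Subgroup.centralizer (X : Set G) ≤ E)
    (h3 : E.relIndex (Subgroup.normalizer (X : Set G)) ≤ 3)
    (hodd : ∀ n ∈ E, Odd (orderOf n) → n ∈ Subgroup.centralizer (X : Set G)) :
    (X ⊔ Subgroup.centralizer (X : Set G)).relIndex (Subgroup.normalizer (X : Set G)) =
      2 * E.relIndex (Subgroup.normalizer (X : Set G)) ∧
    (E.relIndex (Subgroup.normalizer (X : Set G)) = 1 ∨ E.relIndex (Subgroup.normalizer (X : Set G)) = 3) := by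
  haveI : Fact (Nat.Prime 2) := ⟨Nat.prime_two⟩
  set N := Subgroup.normalizer (X : Set G) with hN
  set C := Subgroup.centralizer (X : Set G) with hC
  set K := X ⊔ C with hK
  have hXE : X ≤ E := h.le_W.trans hWE
  have hKE : K ≤ E := sup_le hXE hCE
  have hCN : C ≤ N := fun x hx => Subgroup.mem_normalizer_iff.mpr fun y => by
    constructor
    · intro hy; rw [← Subgroup.mem_centralizer_iff.mp hx y hy, mul_inv_cancel_right]; exact hy
    · intro hy
      have h1 := Subgroup.mem_centralizer_iff.mp hx _ hy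
      rw [inv_mul_cancel_right] at h1
      exact (mul_left_cancel h1).symm ▸ hy
  have hconjC : ∀ n ∈ N, ∀ c ∈ C, n * c * n⁻¹ ∈ C := by
    intro n hn c hc
    refine Subgroup.mem_centralizer_iff.mpr fun y hy => ?_
    have h1 := Subgroup.mem_centralizer_iff.mp hc (n⁻¹ * y * n) (by
      simpa using (Subgroup.mem_normalizer_iff.mp (N.inv_mem hn) y).mp hy)
    calc y * (n * c * n⁻¹) = n * (n⁻¹ * y * n * c) * n⁻¹ := by group
      _ = n * (c * (n⁻¹ * y * n)) * n⁻¹ := by rw [h1]
      _ = n * c * n⁻¹ * y := by group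
  -- the elements of `K`
  have memK : ∀ x ∈ K, ∃ a ∈ X, ∃ c ∈ C, x = a * c := by
    intro x hx
    have hCX : C ≤ Subgroup.normalizer (X : Set G) := hCN
    rw [hK, ← SetLike.mem_coe, Subgroup.coe_mul_of_right_le_normalizer_left X C hCX] at hx
    obtain ⟨a, ha, c, hc, rfl⟩ := hx
    exact ⟨a, ha, c, hc, rfl⟩
  have hKn : ∀ n ∈ N, ∀ x ∈ K, n * x * n⁻¹ ∈ K := by
    intro n hn x hx
    obtain ⟨a, ha, c, hc, rfl⟩ := memK x hx
    rw [show n * (a * c) * n⁻¹ = (n * a * n⁻¹) * (n * c * n⁻¹) by group]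
    exact Subgroup.mul_mem_sup ((Subgroup.mem_normalizer_iff.mp hn a).mp ha) (hconjC n hn c hc)
  have hKnE : (K.subgroupOf E).Normal :=
    (Subgroup.normal_subgroupOf_iff hKE).mpr fun x e hx he => hKn e (hEN he) x hx
  obtain ⟨a, ha⟩ := relIndex_two_pow hKE hKnE fun x hx ho => Subgroup.mem_sup_right (hodd x hx ho)
  -- `W` is a Sylow subgroup of `N`
  have hWN : ¬ 2 ∣ W.relIndex N := by
    obtain ⟨R, hR⟩ := (h.W_two.of_equiv (Subgroup.subgroupOfEquivOfLe h.W_le).symm).exists_le_sylow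
    have hle := h.bound _ (R.2.map N.subtype) (Subgroup.map_subtype_le _)
    rw [Subgroup.card_map_of_injective N.subtype_injective] at hle
    have heq := Subgroup.eq_of_le_of_card_ge hR (by
      rwa [Nat.card_congr (Subgroup.subgroupOfEquivOfLe h.W_le).toEquiv])
    rw [Subgroup.relIndex, heq]
    exact R.not_dvd_index
  have hNE : E.relIndex N * K.relIndex E = K.relIndex N := by
    rw [mul_comm]; exact Subgroup.relIndex_mul_relIndex K E N hKE hEN
  have hoddE : ¬ 2 ∣ E.relIndex N := fun hd => hWN (hd.trans (Dvd.intro_left _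
    (Subgroup.relIndex_mul_relIndex W E N hWE hEN)))
  have hoddW : ¬ 2 ∣ W.relIndex E := fun hd => hWN (hd.trans (Dvd.intro _
    (Subgroup.relIndex_mul_relIndex W E N hWE hEN)))
  -- `[E : K] = 2`
  have ha1 : a ≤ 1 := by
    have e1 := Subgroup.relIndex_mul_relIndex X W E h.le_W hWE
    have e2 := Subgroup.relIndex_mul_relIndex X K E le_sup_left hKE
    rw [h.index_two] at e1
    rw [ha] at e2
    by_contra hcon
    have h4 : 4 ∣ 2 * W.relIndex E := by
      rw [e1, ← e2]
      exact Dvd.dvd.mul_left ((show (4 : ℕ) = 2 ^ 2 from rfl) ▸ pow_dvd_pow 2 (by omega)) _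
    omega
  have ha0 : a ≠ 0 := by
    rintro rfl
    have hEK : E ≤ K := Subgroup.relIndex_eq_one.mp (by rw [ha, pow_zero])
    have hWX : W ≤ X := by
      intro x hx
      obtain ⟨u, hu, c, hc, rfl⟩ := memK x (hEK (hWE hx))
      refine mul_mem hu (h.W_inf c ?_ hc)
      simpa using W.mul_mem (W.inv_mem (h.le_W hu)) hx
    have := Subgroup.relIndex_eq_one.mpr hWX
    rw [h.index_two] at this; omega
  obtain rfl : a = 1 := by omega
  refine ⟨by rw [← hNE, ha]; ring, ?_⟩
  have hpos : E.relIndex N ≠ 0 := Subgroup.index_ne_zero_of_finite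
  omega

/-- Index six gives an element of odd order acting nontrivially. -/
theorem exists_odd_of_six {X W : Subgroup G} (h : LocalData X W)
    (h6 : (X ⊔ Subgroup.centralizer (X : Set G)).relIndex (Subgroup.normalizer (X : Set G)) = 6) :
    ∃ n ∈ Subgroup.normalizer (X : Set G), Odd (orderOf n) ∧ n ∉ Subgroup.centralizer (X : Set G) := by
  by_contra hcon
  push Not at hcon
  have hCN : Subgroup.centralizer (X : Set G) ≤ Subgroup.normalizer (X : Set G) := fun x hx =>
    Subgroup.mem_normalizer_iff.mpr fun y => by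
      constructor
      · intro hy; rw [← Subgroup.mem_centralizer_iff.mp hx y hy, mul_inv_cancel_right]; exact hy
      · intro hy
        have h1 := Subgroup.mem_centralizer_iff.mp hx _ hy
        rw [inv_mul_cancel_right] at h1
        exact (mul_left_cancel h1).symm ▸ hy
  obtain ⟨h1, -⟩ := local_index h le_rfl h.W_le hCN (by rw [Subgroup.relIndex_self]; norm_num) hcon
  rw [h6, Subgroup.relIndex_self] at h1
  omega

/-! ## Through an embedding of a model -/

section Embedding

variable {M : Type*} [Group M] [Finite M]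

theorem mem_normalizer_of_forall {P : Type*} [Group P] [Finite P] {H : Subgroup P} {g : P}
    (h : ∀ x ∈ H, g * x * g⁻¹ ∈ H) : g ∈ Subgroup.normalizer (H : Set P) := by
  refine mem_normalizer_iff_map_conj.mpr (Subgroup.eq_of_le_of_card_ge ?_ (card_map_conj H g).ge)
  rintro _ ⟨x, hx, rfl⟩
  exact h x hx

theorem map_normalizer_inf (ι : M →* G) (hι : Function.Injective ι) (D : Subgroup M) :
    ∀ m : M, ι m ∈ Subgroup.normalizer (D.map ι : Set G) ↔ m ∈ Subgroup.normalizer (D : Set M) := by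
  intro m
  constructor
  · intro h
    refine mem_normalizer_of_forall fun x hx => ?_
    obtain ⟨y, hy, he⟩ := (Subgroup.mem_normalizer_iff.mp h (ι x)).mp ⟨x, hx, rfl⟩
    rw [← map_inv, ← map_mul, ← map_mul] at he
    rwa [← hι he]
  · intro h
    refine mem_normalizer_of_forall ?_
    rintro _ ⟨x, hx, rfl⟩
    exact ⟨_, (Subgroup.mem_normalizer_iff.mp h x).mp hx, by simp⟩

theorem mem_centralizer_map_iff' (ι : M →* G) (hι : Function.Injective ι) (D : Subgroup M) (m : M) :
    ι m ∈ Subgroup.centralizer (D.map ι : Set G) ↔ m ∈ Subgroup.centralizer (D : Set M) := by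
  simp only [Subgroup.mem_centralizer_iff, Subgroup.coe_map, Set.forall_mem_image]
  refine forall₂_congr fun a _ => ?_
  rw [← map_mul, ← map_mul, hι.eq_iff]

/-- Bound on 2-subgroups of a normalizer, from the model. -/
theorem bound_of_model (S : Sylow 2 G) (ι : M →* G) (hι : Function.Injective ι)
    (hS : ι.range = (S : Subgroup G)) {X : Subgroup G} (hX : IsPGroup 2 X) (B : ℕ)
    (hB : ∀ D : Subgroup M, Nonempty (D ≃* X) → Nat.card (Subgroup.normalizer (D : Set M)) ≤ B)
    (R : Subgroup G) (hR : IsPGroup 2 R) (hRN : R ≤ Subgroup.normalizer (X : Set G)) : Nat.card R ≤ B := by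
  haveI : Fact (Nat.Prime 2) := ⟨Nat.prime_two⟩
  obtain ⟨g, hg⟩ := CfsgLib.Transfer.exists_conj_mem_sylow S (hX.to_sup_of_normal_left' hR hRN)
  set X' := X.map (MulAut.conj g).toMonoidHom with hX'
  set D := X'.comap ι with hD
  have hX'S : X' ≤ ι.range := by
    rintro _ ⟨x, hx, rfl⟩; rw [hS]; exact hg x (Subgroup.mem_sup_left hx)
  have hDe : D.map ι = X' := Subgroup.map_comap_eq_self hX'S
  have e : D ≃* X := ((D.equivMapOfInjective ι hι).trans (MulEquiv.subgroupCongr hDe)).trans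
    (X.equivMapOfInjective _ (MulAut.conj g).injective).symm
  refine le_trans ?_ (hB D ⟨e⟩)
  have hmem : ∀ r : R, ∃ m : M, m ∈ Subgroup.normalizer (D : Set M) ∧ ι m = g * r * g⁻¹ := by
    intro r
    have hr : g * (r : G) * g⁻¹ ∈ ι.range := hS.symm ▸ hg r (Subgroup.mem_sup_right r.2)
    obtain ⟨m, hm⟩ := hr
    refine ⟨m, (map_normalizer_inf ι hι D m).mp ?_, hm⟩
    rw [hDe, hm, hX']
    refine mem_normalizer_iff_map_conj.mpr ?_
    conv_rhs => rw [← mem_normalizer_iff_map_conj.mp (hRN r.2)]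
    rw [map_conj_map_conj, map_conj_map_conj]
    congr 2; group
  choose m hm hme using hmem
  refine Nat.card_le_card_of_injective (fun r => ⟨m r, hm r⟩) fun a b h => ?_
  have h2 : g * (a : G) * g⁻¹ = g * (b : G) * g⁻¹ := by rw [← hme, ← hme]; exact congrArg ι (congrArg Subtype.val h)
  exact Subtype.ext (mul_left_cancel (mul_right_cancel h2))

/-- A homomorphism on the Sylow subgroup with controlled powers extends to an epimorphism with kernel
of the expected index. -/
theorem exists_kernel (S : Sylow 2 G) (ι : M →* G) (hι : Function.Injective ι)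
    (hS : ι.range = (S : Subgroup G)) {A : Type*} [CommGroup A] [Finite A] (hA : IsPGroup 2 A)
    (χ : M →* A) (m₀ : M) (hgen : ∀ a : A, a ∈ Subgroup.zpowers (χ m₀))
    (hctl : ∀ (k : ℕ) (u : G) (m : M), ι m = u * ι m₀ ^ k * u⁻¹ → χ m = χ m₀ ^ k) :
    ∃ τ : G →* A, Function.Surjective τ ∧ τ.ker.Normal ∧ τ.ker.index = Nat.card A ∧
      τ (ι m₀) = χ m₀ ^ (S : Subgroup G).index := by
  haveI : Fact (Nat.Prime 2) := ⟨Nat.prime_two⟩
  let e : ↥(S : Subgroup G) ≃* M := ((MonoidHom.ofInjective hι).trans (MulEquiv.subgroupCongr hS)).symm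
  let φ : ↥(S : Subgroup G) →* A := χ.comp e.toMonoidHom
  have hsym : ∀ m, (e.symm m : G) = ι m := fun m => rfl
  have hφ : ∀ (m : M) (h : ι m ∈ (S : Subgroup G)), φ ⟨ι m, h⟩ = χ m := fun m h => by
    show χ (e ⟨ι m, h⟩) = χ m
    rw [show (⟨ι m, h⟩ : (S : Subgroup G)) = e.symm m from Subtype.ext (hsym m).symm, e.apply_symm_apply]
  have hmem : ∀ m, ι m ∈ (S : Subgroup G) := fun m => hS ▸ ⟨m, rfl⟩
  have hτ := transfer_eq_map_pow_index φ (ι m₀) (hmem m₀) (fun k g₀ hk => by
    have hk' : g₀⁻¹ * ι m₀ ^ k * g₀ ∈ ι.range := by rw [hS]; exact hk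
    obtain ⟨m, hm⟩ := hk'
    have h1 := hctl k g₀⁻¹ m (by rw [inv_inv]; exact hm)
    rw [hφ m₀]
    calc φ ⟨_, hk⟩ = φ ⟨ι m, hmem m⟩ := congrArg φ (Subtype.ext hm.symm)
      _ = χ m₀ ^ k := by rw [hφ]; exact h1)
  rw [hφ m₀] at hτ
  have hsurj : Function.Surjective (MonoidHom.transfer φ) := by
    intro a
    obtain ⟨j, hj⟩ := hgen a
    obtain ⟨n, hn⟩ : ∃ n, Nat.card A = 2 ^ n := hA.exists_card_eq
    have hcop : (Nat.card A).Coprime (S : Subgroup G).index := by
      rw [hn]; exact Nat.Coprime.pow_left _ ((Nat.prime_two.coprime_iff_not_dvd).mpr S.not_dvd_index)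
    obtain ⟨b, hb⟩ := exists_pow_eq_self_of_coprime (n := (S : Subgroup G).index) (x := χ m₀)
      ((Nat.Coprime.coprime_dvd_left (orderOf_dvd_natCard _) hcop).symm)
    refine ⟨(ι m₀ ^ b) ^ j, ?_⟩
    rw [map_zpow, map_pow, hτ, hb]
    exact hj
  refine ⟨MonoidHom.transfer φ, hsurj, inferInstance, ?_, hτ⟩
  rw [Subgroup.index_ker, MonoidHom.range_eq_top.mpr hsurj, Subgroup.card_top]

/-- A Sylow 2-subgroup of a normal subgroup. -/
theorem sylow_of_normal (S : Sylow 2 G) (K : Subgroup G) [K.Normal] (P : Sylow 2 K) :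
    Nonempty ((P : Subgroup K) ≃* ↥((S : Subgroup G) ⊓ K)) := by
  haveI : Fact (Nat.Prime 2) := ⟨Nat.prime_two⟩
  set T := (S : Subgroup G).subgroupOf K with hT
  have hTp : IsPGroup 2 T := S.2.comap_subtype
  have hidx : ¬ 2 ∣ T.index := by
    obtain ⟨R, hR⟩ := hTp.exists_le_sylow
    obtain ⟨g, hg⟩ := CfsgLib.Transfer.exists_conj_mem_sylow S (R.2.map K.subtype)
    have heq : T = R := by
      refine Subgroup.eq_of_le_of_card_ge hR (Nat.card_le_card_of_injective (fun r =>
        ⟨⟨g * (r : K) * g⁻¹, (inferInstance : K.Normal).conj_mem _ (r : K).2 g⟩, hg _ ⟨(r : K), r.2, rfl⟩⟩) ?_)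
      intro a b h
      have h1 : g * ((a : K) : G) * g⁻¹ = g * ((b : K) : G) * g⁻¹ := congrArg (fun u : T => ((u : K) : G)) h
      exact Subtype.ext (Subtype.ext (mul_left_cancel (mul_right_cancel h1)))
    rw [heq]
    exact R.not_dvd_index
  obtain ⟨c, hc⟩ := MulAction.exists_smul_eq K P (hTp.toSylow hidx)
  refine ⟨(P.equiv (hTp.toSylow hidx)).trans ?_⟩
  rw [IsPGroup.toSylow_coe]
  exact ((T.equivMapOfInjective K.subtype K.subtype_injective).trans
    (MulEquiv.subgroupCongr (Subgroup.subgroupOf_map_subtype (S : Subgroup G) K)))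

end Embedding

end CfsgLib.Invol.QDW
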