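import Mathlib
import Cfsg.Agent.Lib.Invol.KleinSylow
import Cfsg.Agent.Lib.Invol.QDW.LocalIndex
import Cfsg.Agent.Lib.Invol.QDW.ClassCount
import Cfsg.Agent.Lib.Invol.QDW.Transport

/-!
# Helpers for fusion computations through a model of the Sylow subgroup
-/

set_option autoImplicit false

namespace CfsgLib.Invol.QDW

open CfsgLib.Invol

variable {G : Type*} [Group G] [Finite G]

/-- The number of classes of elements of a given order when they are all conjugate. -/
theorem card_classes_eq_one {n : ℕ} {a : G} (ha : orderOf a = n)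
    (hall : ∀ t : G, orderOf t = n → IsConj t a) :
    Nat.card {C : ConjClasses G // ∃ t : G, orderOf t = n ∧ ConjClasses.mk t = C} = 1 := by
  refine Nat.card_eq_one_iff_unique.mpr ⟨⟨?_⟩, ⟨⟨ConjClasses.mk a, a, ha, rfl⟩⟩⟩
  rintro ⟨_, s, hs, rfl⟩ ⟨_, t, ht, rfl⟩
  exact Subtype.ext (ConjClasses.mk_eq_mk_iff_isConj.mpr ((hall s hs).trans (hall t ht).symm))

/-- A cyclic subgroup of index two covers with one more coset. -/
theorem cover_of_card {X : Subgroup G} {c w : G} (hc : c ∈ X) (hw : w ∈ X)
    (hwc : w ∉ Subgroup.zpowers c) (hcard : Nat.card X = 2 * orderOf c) :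
    ∀ x ∈ X, x ∈ Subgroup.zpowers c ∨ w⁻¹ * x ∈ Subgroup.zpowers c := by
  intro x hx
  have hle : Subgroup.zpowers c ≤ X := Subgroup.zpowers_le.mpr hc
  set M := (Subgroup.zpowers c).subgroupOf X with hM
  have hidx : M.index = 2 := by
    have h1 := M.card_mul_index
    rw [Nat.card_congr (Subgroup.subgroupOfEquivOfLe hle).toEquiv, Nat.card_zpowers, hcard, mul_comm 2] at h1
    exact Nat.eq_of_mul_eq_mul_left (orderOf_pos c) h1
  by_cases hxc : x ∈ Subgroup.zpowers c
  · exact Or.inl hxc
  refine Or.inr ?_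
  exact Subgroup.mem_subgroupOf.mp ((Subgroup.mul_mem_iff_of_index_two hidx (a := (⟨w, hw⟩ : X)⁻¹) (b := ⟨x, hx⟩)).mpr
    (iff_of_false (fun h => hwc (by simpa [hM, Subgroup.mem_subgroupOf] using h)) hxc))

variable {M : Type*} [Group M] [Finite M]

/-- An embedding of the model onto the Sylow subgroup. -/
theorem exists_embedding (S : Sylow 2 G) (e : (S : Subgroup G) ≃* M) :
    ∃ ι : M →* G, Function.Injective ι ∧ ι.range = (S : Subgroup G) := by
  refine ⟨(S : Subgroup G).subtype.comp e.symm.toMonoidHom,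
    Subtype.val_injective.comp e.symm.injective, ?_⟩
  ext x
  constructor
  · rintro ⟨m, rfl⟩; exact (e.symm m).2
  · intro hx; exact ⟨e ⟨x, hx⟩, congrArg Subtype.val (e.symm_apply_apply ⟨x, hx⟩)⟩

theorem relIndex_map_inj (ι : M →* G) (hι : Function.Injective ι) (A B : Subgroup M) :
    (A.map ι).relIndex (B.map ι) = A.relIndex B := by
  rw [← Subgroup.relIndex_comap, Subgroup.comap_map_eq_self_of_injective hι]

theorem card_map_inj (ι : M →* G) (hι : Function.Injective ι) (A : Subgroup M) :
    Nat.card (A.map ι) = Nat.card A := Subgroup.card_map_of_injective hι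

theorem orderOf_inj (ι : M →* G) (hι : Function.Injective ι) (m : M) : orderOf (ι m) = orderOf m :=
  orderOf_injective ι hι m

/-- A 2-element of `G` is conjugate into the model. -/
theorem exists_conj_model (S : Sylow 2 G) (ι : M →* G) (hS : ι.range = (S : Subgroup G)) {x : G} {j : ℕ}
    (hx : orderOf x = 2 ^ j) : ∃ m : M, IsConj x (ι m) := by
  haveI : Fact (Nat.Prime 2) := ⟨Nat.prime_two⟩
  obtain ⟨g, hg⟩ := CfsgLib.Transfer.exists_conj_mem_sylow S (S := Subgroup.zpowers x)
    (IsPGroup.of_card (n := j) (by rw [Nat.card_zpowers, hx]))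
  obtain ⟨m, hm⟩ : g * x * g⁻¹ ∈ ι.range := hS ▸ hg x (Subgroup.mem_zpowers x)
  exact ⟨m, isConj_iff.mpr ⟨g, hm.symm⟩⟩

/-- A local index is invariant under conjugation. -/
theorem index_conj (X : Subgroup G) (g : G) :
    (X.map (MulAut.conj g).toMonoidHom ⊔ Subgroup.centralizer (X.map (MulAut.conj g).toMonoidHom : Set G)).relIndex
      (Subgroup.normalizer (X.map (MulAut.conj g).toMonoidHom : Set G)) =
    (X ⊔ Subgroup.centralizer (X : Set G)).relIndex (Subgroup.normalizer (X : Set G)) := by
  have hc : Subgroup.centralizer (X.map (MulAut.conj g).toMonoidHom : Set G) =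
      (Subgroup.centralizer (X : Set G)).map (MulAut.conj g).toMonoidHom := by
    ext y
    obtain ⟨y, rfl⟩ := (MulAut.conj g).surjective y
    rw [← mem_centralizer_map (MulAut.conj g)]
    exact (Subgroup.mem_map_iff_mem (MulAut.conj g).injective).symm
  rw [hc, ← Subgroup.map_sup, ← map_normalizer, relIndex_map]

/-- Subgroups of the model conjugate in the model have the same local index. -/
theorem index_model_conj (ι : M →* G) {D D' : Subgroup M} (h : ∃ s : M, D.map (MulAut.conj s).toMonoidHom = D') :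
    (D'.map ι ⊔ Subgroup.centralizer (D'.map ι : Set G)).relIndex (Subgroup.normalizer (D'.map ι : Set G)) =
      (D.map ι ⊔ Subgroup.centralizer (D.map ι : Set G)).relIndex (Subgroup.normalizer (D.map ι : Set G)) := by
  obtain ⟨s, rfl⟩ := h
  have e : (D.map (MulAut.conj s).toMonoidHom).map ι = (D.map ι).map (MulAut.conj (ι s)).toMonoidHom := by
    rw [Subgroup.map_map, Subgroup.map_map]
    congr 1
    ext x
    simp
  rw [e, index_conj]

/-- A subgroup of the Sylow subgroup is the image of its preimage. -/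
theorem eq_map_comap (S : Sylow 2 G) (ι : M →* G) (hS : ι.range = (S : Subgroup G)) {X : Subgroup G}
    (h : X ≤ (S : Subgroup G)) : X = (X.comap ι).map ι :=
  (Subgroup.map_comap_eq_self (hS ▸ h)).symm

/-- The preimage of a subgroup of the Sylow subgroup is isomorphic to it. -/
noncomputable def comapEquiv (ι : M →* G) (hι : Function.Injective ι) {X : Subgroup G} (h : X ≤ ι.range) :
    X.comap ι ≃* X :=
  ((X.comap ι).equivMapOfInjective ι hι).trans (MulEquiv.subgroupCongr (Subgroup.map_comap_eq_self h))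

/-- An index-two subgroup of a normal subgroup cannot contain its Sylow subgroup. -/
theorem false_of_inf_le (S : Sylow 2 G) (K : Subgroup G) [K.Normal] (L : Subgroup K) (hL : L.index = 2)
    (h : (S : Subgroup G) ⊓ K ≤ L.map K.subtype) : False := by
  haveI : Fact (Nat.Prime 2) := ⟨Nat.prime_two⟩
  set T := (S : Subgroup G).subgroupOf K with hT
  have hTp : IsPGroup 2 T := S.2.comap_subtype
  obtain ⟨P, hP⟩ := hTp.exists_le_sylow
  obtain ⟨e⟩ := sylow_of_normal S K P
  have heq : T = P := Subgroup.eq_of_le_of_card_ge hP (by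
    rw [Nat.card_congr e.toEquiv, ← Subgroup.subgroupOf_map_subtype,
      Subgroup.card_map_of_injective K.subtype_injective])
  have hle : (P : Subgroup K) ≤ L := by
    rw [← heq]
    intro x hx
    exact (Subgroup.mem_map_iff_mem K.subtype_injective).mp (h ⟨hx, x.2⟩)
  have := Subgroup.index_dvd_of_le hle
  rw [hL] at this
  exact P.not_dvd_index this

/-- Squares lie in every subgroup of index two; commutators of elements too. -/
theorem commutator_mem_map {K : Subgroup G} {L : Subgroup K} (hL : L.index = 2) {n x : G} (hn : n ∈ K)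
    (hx : x ∈ K) : n * x * n⁻¹ * x⁻¹ ∈ L.map K.subtype := by
  refine ⟨⟨n, hn⟩ * ⟨x, hx⟩ * ⟨n, hn⟩⁻¹ * ⟨x, hx⟩⁻¹, ?_, rfl⟩
  rw [SetLike.mem_coe, Subgroup.mul_mem_iff_of_index_two hL, Subgroup.mul_mem_iff_of_index_two hL,
    Subgroup.mul_mem_iff_of_index_two hL, inv_mem_iff, inv_mem_iff]
  tauto

theorem sq_mem_map {K : Subgroup G} {L : Subgroup K} (hL : L.index = 2) {x : G} (hx : x ∈ K) :
    x * x ∈ L.map K.subtype :=
  ⟨⟨x, hx⟩ * ⟨x, hx⟩, Subgroup.mul_self_mem_of_index_two hL _, rfl⟩

/-- An element of odd order dies in a 2-group. -/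
theorem map_eq_one_of_odd {A : Type*} [Group A] (hA : IsPGroup 2 A) (τ : G →* A) {n : G}
    (hn : Odd (orderOf n)) : τ n = 1 := by
  obtain ⟨t, ht⟩ := hA (τ n)
  exact orderOf_eq_one_iff.mp (Nat.eq_one_of_dvd_coprimes
    (Nat.Coprime.pow_right t (Nat.coprime_two_right.mpr hn)) (orderOf_map_dvd τ n) (orderOf_dvd_of_pow_eq_one ht))

end CfsgLib.Invol.QDW
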