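import Mathlib
import Cfsg.Agent.Lib.Invol.QDW.Semidihedral

/-!
# Subgroups of the quasi-dihedral groups
-/

set_option autoImplicit false

namespace CfsgLib.Invol.QDW.Sd

variable {k : ℕ}

/-- The parity map. -/
def par (k : ℕ) : ZMod (2 ^ (k + 3)) →+* ZMod 2 := ZMod.castHom (dvd_pow_self 2 (by omega)) (ZMod 2)

theorem even_or_odd (i : ZMod (2 ^ (k + 3))) : (∃ m, i = 2 * m) ∨ ∃ m, i = 2 * m + 1 := by
  rcases Nat.even_or_odd i.val with ⟨m, hm⟩ | ⟨m, hm⟩
  · exact Or.inl ⟨(m : ℕ), by rw [← ZMod.natCast_rightInverse i, hm]; push_cast; ring⟩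
  · exact Or.inr ⟨(m : ℕ), by rw [← ZMod.natCast_rightInverse i, hm]; push_cast; ring⟩

theorem par_two : par k 2 = 0 := by
  rw [map_ofNat]; decide

theorem par_two_mul (m : ZMod (2 ^ (k + 3))) : par k (2 * m) = 0 := by
  rw [map_mul, par_two, zero_mul]

theorem even_iff_par {i : ZMod (2 ^ (k + 3))} : (∃ m, i = 2 * m) ↔ par k i = 0 := by
  refine ⟨fun ⟨m, hm⟩ => hm ▸ par_two_mul m, fun h => ?_⟩
  refine (even_or_odd i).resolve_right ?_
  rintro ⟨m, rfl⟩
  rw [map_add, par_two_mul, map_one, zero_add] at h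
  exact absurd h (by decide)

theorem even_half : ∃ m, (half k : ZMod (2 ^ (k + 3))) = 2 * m :=
  ⟨((2 ^ (k + 1) : ℕ) : ZMod (2 ^ (k + 3))), by
    rw [show half k = 2 * 2 ^ (k + 1) by rw [half, ← pow_succ'], Nat.cast_mul]; norm_num⟩

theorem half_mul_of_odd (m : ZMod (2 ^ (k + 3))) :
    (half k : ZMod (2 ^ (k + 3))) * (2 * m + 1) = half k := by
  linear_combination m * (two_half (k := k))

theorem half_mul_eq_zero_iff {i : ZMod (2 ^ (k + 3))} :
    (half k : ZMod (2 ^ (k + 3))) * i = 0 ↔ ∃ m, i = 2 * m := by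
  constructor
  · intro h
    refine (even_or_odd i).resolve_right ?_
    rintro ⟨m, rfl⟩
    exact half_ne_zero ((half_mul_of_odd m).symm.trans h)
  · rintro ⟨m, rfl⟩
    linear_combination m * (two_half (k := k))

theorem two_mul_odd_ne_half (l : ZMod (2 ^ (k + 3))) : 2 * (2 * l + 1) ≠ (half k : ZMod (2 ^ (k + 3))) := by
  intro h2
  have hx : (half k : ZMod (2 ^ (k + 3))) = 2 * ((2 ^ (k + 1) : ℕ) : ZMod (2 ^ (k + 3))) := by
    rw [show half k = 2 * 2 ^ (k + 1) by rw [half, ← pow_succ'], Nat.cast_mul]; norm_num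
  have h5 : ((2 ^ (k + 1) : ℕ) : ZMod (2 ^ (k + 3))) * half k = 0 := by
    rw [show half k = 2 * 2 ^ (k + 1) by rw [half, ← pow_succ'], ← Nat.cast_mul,
      show 2 ^ (k + 1) * (2 * 2 ^ (k + 1)) = 2 ^ k * 2 ^ (k + 3) by ring, Nat.cast_mul,
      ZMod.natCast_self, mul_zero]
  apply half_ne_zero (k := k)
  rw [← half_mul_of_odd l]
  linear_combination h5 + ((2 ^ (k + 1) : ℕ) : ZMod (2 ^ (k + 3))) * h2 + (2 * l + 1) * hx

theorem pow_two_mul_half {m : ℕ} (hm : 1 ≤ m) :
    (2 : ZMod (2 ^ (k + 3))) ^ m * half k = 0 := by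
  obtain ⟨m, rfl⟩ : ∃ j, m = j + 1 := ⟨m - 1, by omega⟩
  linear_combination (2 : ZMod (2 ^ (k + 3))) ^ m * (two_half (k := k))

theorem exists_pow_two_eq_half {m : ℕ} (hm : m ≤ k + 2) :
    ∃ u : ZMod (2 ^ (k + 3)), (2 : ZMod (2 ^ (k + 3))) ^ m * u = half k := by
  refine ⟨(2 : ZMod (2 ^ (k + 3))) ^ (k + 2 - m), ?_⟩
  rw [← pow_add, Nat.add_sub_cancel' hm, half]
  push_cast; rfl

theorem orderOf_two_iff {a : Sd k} :
    orderOf a = 2 ↔ (a.e = false ∧ a.i = half k) ∨ (a.e = true ∧ ∃ m, a.i = 2 * m) := by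
  obtain ⟨i, e⟩ := a
  rw [orderOf_eq_prime_iff, pow_two, Sd.ext_iff, Ne, Sd.ext_iff]
  cases e
  · simp only [mul_i, mul_e, one_i, one_e, cond_false, Bool.xor_self, and_true, true_and,
      Bool.false_eq_true, false_and, or_false]
    constructor
    · rintro ⟨h, hne⟩
      exact (two_cancel (by rw [two_mul]; exact h)).resolve_left hne
    · rintro rfl
      exact ⟨by rw [← two_mul, two_half], half_ne_zero⟩
  · simp only [mul_i, mul_e, one_i, one_e, cond_true, Bool.xor_self, and_true, true_and,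
      Bool.true_eq_false, false_and, false_or, and_false, not_false_eq_true]
    rw [show i + c k * i = half k * i by rw [c]; ring, half_mul_eq_zero_iff]

theorem orderOf_four_iff {a : Sd k} :
    orderOf a = 4 ↔ (a.e = false ∧ 2 * a.i = half k) ∨ (a.e = true ∧ ∃ m, a.i = 2 * m + 1) := by
  obtain ⟨i, e⟩ := a
  have h4 : orderOf (⟨i, e⟩ : Sd k) = 4 ↔ orderOf ((⟨i, e⟩ : Sd k) * ⟨i, e⟩) = 2 := by
    constructor
    · intro h
      rw [← pow_two, orderOf_pow' _ (by norm_num), h]; norm_num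
    · intro h
      refine orderOf_eq_prime_pow (p := 2) (n := 1) ?_ ?_
      · intro h1
        rw [pow_one, pow_two] at h1
        rw [h1, orderOf_one] at h; omega
      · rw [show 2 ^ (1 + 1) = 2 * 2 by norm_num, pow_mul, pow_two (⟨i, e⟩ : Sd k), ← h]
        exact pow_orderOf_eq_one _
  rw [h4, orderOf_two_iff]
  cases e
  · simp [two_mul]
  · simp only [mul_i, mul_e, cond_true, Bool.xor_self, true_and, Bool.false_eq_true, false_and,
      or_false, Bool.true_eq_false, false_or]
    rw [show i + c k * i = half k * i by rw [c]; ring]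
    constructor
    · intro h
      refine (even_or_odd i).resolve_left fun he => half_ne_zero (k := k) ?_
      rw [← h]; exact half_mul_eq_zero_iff.mpr he
    · rintro ⟨m, rfl⟩; exact half_mul_of_odd m

/-- Conjugating a reflection. -/
theorem conj_refl (n : Sd k) (i : ZMod (2 ^ (k + 3))) :
    ∃ s, n * ⟨i, true⟩ * n⁻¹ = ⟨i + (1 - c k) * s, true⟩ ∧ n.i - cond n.e i 0 = s := by
  refine ⟨_, ?_, rfl⟩
  obtain ⟨j, e⟩ := n
  cases e
  · ext <;> simp; ring
  · ext <;> simp <;> ring_nf <;> simp [← mul_pow, pow_two, c_mul_c, mul_assoc]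

theorem conj_rot (n : Sd k) (i : ZMod (2 ^ (k + 3))) :
    n * ⟨i, false⟩ * n⁻¹ = ⟨cond n.e (c k * i) i, false⟩ := by
  obtain ⟨j, e⟩ := n
  cases e <;> ext <;> simp
  linear_combination -j * (c_mul_c (k := k))

theorem even_conj_sub (s : ZMod (2 ^ (k + 3))) : ∃ m, (1 - c k) * s = 2 * m := by
  obtain ⟨m, hm⟩ := even_half (k := k)
  exact ⟨s - m * s, by rw [c, hm]; ring⟩

theorem exists_conj_sub (m : ZMod (2 ^ (k + 3))) : ∃ j, (1 - c k) * j = 2 * m := by
  rcases even_or_odd m with ⟨l, rfl⟩ | ⟨l, rfl⟩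
  · exact ⟨2 * l, by rw [c]; linear_combination (-l) * (two_half (k := k))⟩
  · obtain ⟨u, hu⟩ := exists_pow_two_eq_half (k := k) (m := 1) (by omega)
    obtain ⟨v, hv⟩ : ∃ v, u = 2 * v := by
      refine (even_or_odd u).resolve_right ?_
      rintro ⟨w, rfl⟩
      exact two_mul_odd_ne_half w (by simpa using hu)
    refine ⟨2 * l + 1 + u, ?_⟩
    rw [c]
    linear_combination hu + (-(l : ZMod (2 ^ (k + 3))) - v) * (two_half (k := k)) - (half k : ZMod (2 ^ (k + 3))) * hv

theorem isConj_refl_iff {i i' : ZMod (2 ^ (k + 3))} :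
    IsConj (⟨i, true⟩ : Sd k) ⟨i', true⟩ ↔ ∃ m, i' - i = 2 * m := by
  rw [isConj_iff]
  constructor
  · rintro ⟨n, hn⟩
    obtain ⟨s, hs, -⟩ := conj_refl n i
    rw [hs] at hn
    obtain ⟨m, hm⟩ := even_conj_sub s
    exact ⟨m, by rw [← show i + (1 - c k) * s = i' from congrArg Sd.i hn, hm]; ring⟩
  · rintro ⟨m, hm⟩
    obtain ⟨j, hj⟩ := exists_conj_sub m
    refine ⟨⟨j, false⟩, ?_⟩
    obtain ⟨s, hs, hs'⟩ := conj_refl (⟨j, false⟩ : Sd k) i
    simp only [cond_false, sub_zero] at hs'
    subst hs'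
    rw [hs, hj, ← hm]; simp

/-- The subgroups of order `2 ^ (m + 1)` through the reflection `⟨i, true⟩`. -/
def D (m : ℕ) (hm : 1 ≤ m) (i : ZMod (2 ^ (k + 3))) : Subgroup (Sd k) where
  carrier := {a | 2 ^ m * (a.i - cond a.e i 0) = 0}
  one_mem' := by simp
  mul_mem' := by
    rintro ⟨a, e⟩ ⟨b, f⟩ ha hb
    simp only [Set.mem_ofPred_eq] at *
    have h1 := pow_two_mul_half (k := k) hm
    cases e <;> cases f <;> simp only [mul_i, mul_e, cond_true, cond_false, Bool.xor_self,
      Bool.false_xor, Bool.xor_false, Bool.true_xor, Bool.not_false, Bool.not_true, sub_zero, c] at *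
    · linear_combination ha + hb
    · linear_combination ha + hb
    · linear_combination ha - hb + b * h1
    · linear_combination ha - hb + b * h1
  inv_mem' := by
    rintro ⟨a, e⟩ ha
    simp only [Set.mem_ofPred_eq] at *
    have h1 := pow_two_mul_half (k := k) hm
    cases e <;> simp only [inv_i, inv_e, cond_true, cond_false, sub_zero, c] at *
    · linear_combination -ha
    · linear_combination ha - a * h1

variable {m : ℕ} {hm : 1 ≤ m} {i : ZMod (2 ^ (k + 3))}

theorem mem_D {a : Sd k} : a ∈ D m hm i ↔ 2 ^ m * (a.i - cond a.e i 0) = 0 := Iff.rfl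

theorem refl_mem_D : (⟨i, true⟩ : Sd k) ∈ D m hm i := by simp [mem_D]

theorem D_le_succ : D m hm i ≤ D (m + 1) (by omega) i := fun a ha => by
  rw [mem_D] at *
  linear_combination 2 * ha

theorem D_eq_of {i' : ZMod (2 ^ (k + 3))} (h : 2 ^ m * (i' - i) = 0) : D m hm i' = D m hm i := by
  ext ⟨a, e⟩
  rw [mem_D, mem_D]
  cases e <;> simp only [cond_true, cond_false]
  constructor <;> intro h1
  · linear_combination h1 + h
  · linear_combination h1 - h

theorem relIndex_D (hk : m ≤ k + 2) : (D m hm i).relIndex (D (m + 1) (by omega) i) = 2 := by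
  rw [Subgroup.relIndex, Subgroup.index_eq_two_iff]
  obtain ⟨u, hu⟩ := exists_pow_two_eq_half (k := k) hk
  have hu' : (⟨u, false⟩ : Sd k) ∈ D (m + 1) (by omega) i := by
    rw [mem_D]; simp only [cond_false, sub_zero]
    linear_combination 2 * hu + (two_half (k := k))
  refine ⟨⟨_, hu'⟩, ?_⟩
  rintro ⟨⟨a, e⟩, ha⟩
  simp only [Subgroup.mem_subgroupOf, Subgroup.coe_mul, mem_D, mul_i, mul_e, Bool.xor_false] at *
  have h2 : 2 * (2 ^ m * (a - cond e i 0)) = 0 := by rw [← mul_assoc, ← pow_succ']; exact ha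
  have hh := pow_two_mul_half (k := k) hm
  have e1 : 2 ^ m * (a + cond e (c k * u) u - cond e i 0) = 2 ^ m * (a - cond e i 0) + half k := by
    cases e <;> simp only [cond_true, cond_false, c]
    · linear_combination hu
    · linear_combination -hu + u * hh - (two_half (k := k))
  rw [e1]
  rcases two_cancel h2 with h | h
  · exact Or.inr ⟨h, by rw [h, zero_add]; exact half_ne_zero⟩
  · refine Or.inl ⟨by rw [h, ← two_mul, two_half], ?_⟩
    rw [h]; exact half_ne_zero

theorem card_D (hk : m ≤ k + 3) : Nat.card (D m hm i) = 2 ^ (m + 1) := by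
  induction m with
  | zero => omega
  | succ m ih =>
    rcases Nat.eq_zero_or_pos m with rfl | hm'
    · have e : D 1 le_rfl i ≃ Bool × Bool :=
      { toFun := fun a => (a.1.e, decide (a.1.i - cond a.1.e i 0 = half k))
        invFun := fun p => ⟨⟨cond p.1 i 0 + cond p.2 (half k : ZMod (2 ^ (k + 3))) 0, p.1⟩, by
          rw [mem_D]; simp only [add_sub_cancel_left, pow_one]; cases p.2 <;> simp [two_half]⟩
        left_inv := by
          rintro ⟨⟨a, e⟩, ha⟩
          rw [mem_D, pow_one] at ha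
          refine Subtype.ext (Sd.ext ?_ rfl)
          rcases two_cancel ha with h | h <;> simp only at h ⊢
          · rw [h, decide_eq_false half_ne_zero.symm, cond_false, add_zero, sub_eq_zero.mp h]
          · rw [decide_eq_true h, cond_true, ← h, add_sub_cancel]
        right_inv := by
          rintro ⟨f, g⟩
          cases g <;> simp [half_ne_zero.symm] }
      rw [Nat.card_congr e]; simp
    · have h1 := Subgroup.card_mul_index ((D m hm' i).subgroupOf (D (m + 1) hm i))
      rw [Nat.card_congr (Subgroup.subgroupOfEquivOfLe D_le_succ).toEquiv, ih (hm := hm') (by omega),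
        show ((D m hm' i).subgroupOf (D (m + 1) hm i)).index = 2 from relIndex_D (by omega)] at h1
      rw [← h1]; ring

theorem normalizer_D (hk : m ≤ k + 2) :
    Subgroup.normalizer (D m hm i : Set (Sd k)) = D (m + 1) (by omega) i := by
  refine le_antisymm (fun n hn => ?_) ?_
  · have h1 := (Subgroup.mem_normalizer_iff.mp hn ⟨i, true⟩).mp refl_mem_D
    obtain ⟨s, hs, hs'⟩ := conj_refl n i
    rw [hs, mem_D] at h1
    simp only [cond_true, add_sub_cancel_left] at h1
    rw [mem_D, hs']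
    have hh := pow_two_mul_half (k := k) hm
    rw [c] at h1
    linear_combination h1 + s * hh
  · haveI : ((D m hm i).subgroupOf (D (m + 1) (by omega) i)).Normal :=
      Subgroup.normal_of_index_eq_two (relIndex_D hk)
    exact Subgroup.le_normalizer_of_normal_subgroupOf D_le_succ

theorem le_centralizer_D {a : Sd k} (h2 : 2 ≤ m)
    (ha : a ∈ Subgroup.centralizer (D m hm i : Set (Sd k))) (hk : m ≤ k + 3) :
    a ∈ Subgroup.center (Sd k) := by
  obtain ⟨u, hu⟩ := exists_pow_two_eq_half (k := k) (m := 1) (by omega)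
  have hu' : (⟨u, false⟩ : Sd k) ∈ D m hm i := by
    obtain ⟨j, rfl⟩ : ∃ j, m = j + 2 := ⟨m - 2, by omega⟩
    rw [mem_D]; simp only [cond_false, sub_zero]
    rw [pow_one] at hu
    linear_combination (2 : ZMod (2 ^ (k + 3))) ^ (j + 1) * hu + (2 : ZMod (2 ^ (k + 3))) ^ j * (two_half (k := k))
  have e1 := congrArg Sd.i (Subgroup.mem_centralizer_iff.mp ha _ hu')
  have e2 := congrArg Sd.i (Subgroup.mem_centralizer_iff.mp ha _ (refl_mem_D (m := m) (hm := hm) (i := i)))
  obtain ⟨x, e⟩ := a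
  cases e <;> simp only [mul_i, cond_true, cond_false] at e1 e2
  · rw [mem_center_iff]
    refine ⟨rfl, ?_⟩
    rcases even_or_odd x with ⟨l, rfl⟩ | ⟨l, rfl⟩
    · exact two_cancel (by rw [c] at e2; linear_combination -e2 + l * (two_half (k := k)))
    · exfalso
      rw [c] at e2
      exact two_mul_odd_ne_half l (by linear_combination -e2 + l * (two_half (k := k)))
  · exfalso
    apply half_ne_zero (k := k)
    rw [c] at e1
    rw [pow_one] at hu
    have hev : (half k : ZMod (2 ^ (k + 3))) * u = 0 := half_mul_eq_zero_iff.mpr (by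
      refine (even_or_odd u).resolve_right ?_
      rintro ⟨w, rfl⟩
      exact two_mul_odd_ne_half w hu)
    linear_combination -hu + hev + e1

theorem refl_centralizer {a : Sd k} (ha : a * ⟨i, true⟩ = ⟨i, true⟩ * a) : a ∈ D 1 le_rfl i := by
  have e := congrArg Sd.i ha
  obtain ⟨x, f⟩ := a
  rw [mem_D, pow_one]
  cases f <;> simp only [mul_i, cond_true, cond_false, c] at e ⊢
  · rcases even_or_odd x with ⟨l, rfl⟩ | ⟨l, rfl⟩
    · linear_combination -(-e) + l * (two_half (k := k))
    · exfalso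
      exact two_mul_odd_ne_half l (by linear_combination e + l * (two_half (k := k)))
  · rcases even_or_odd (x - i) with ⟨l, hl⟩ | ⟨l, hl⟩
    · linear_combination e + (half k : ZMod (2 ^ (k + 3))) * hl + l * (two_half (k := k))
    · exfalso
      exact two_mul_odd_ne_half l (by linear_combination e + (half k : ZMod (2 ^ (k + 3))) * hl + l * (two_half (k := k)) - 2 * hl)

end CfsgLib.Invol.QDW.Sd
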