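import Mathlib
import Cfsg.Agent.Lib.Invol.QDW.SdStructure

/-!
# Four-groups, quaternion groups and maximal subgroups of the quasi-dihedral groups
-/

set_option autoImplicit false

namespace CfsgLib.Invol.QDW.Sd

variable {k : ℕ}

theorem card_rot_sq (T : Subgroup (Sd k)) (hrot : ∀ a ∈ T, a.e = false) (hsq : ∀ a ∈ T, a * a = 1) :
    Nat.card T ≤ 2 := by
  have : Nat.card T ≤ Nat.card Bool :=
    Nat.card_le_card_of_injective (fun a => decide (a.1.i = half k)) (by
      intro a b h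
      have ha : a.1.i = 0 ∨ a.1.i = half k := two_cancel (by
        have := congrArg Sd.i (hsq _ a.2); simp [hrot _ a.2] at this; rw [two_mul]; exact this)
      have hb : b.1.i = 0 ∨ b.1.i = half k := two_cancel (by
        have := congrArg Sd.i (hsq _ b.2); simp [hrot _ b.2] at this; rw [two_mul]; exact this)
      refine Subtype.ext (Sd.ext ?_ (by rw [hrot _ a.2, hrot _ b.2]))
      rcases ha with ha | ha <;> rcases hb with hb | hb <;>
        simp [half_ne_zero, half_ne_zero.symm, ha, hb] at h ⊢)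
  simpa using this

theorem eq_D_one_of_klein {T : Subgroup (Sd k)} (hT : IsKleinFour T) :
    ∃ i, (∃ m, i = 2 * m) ∧ T = D 1 le_rfl i := by
  haveI := hT
  have hsq : ∀ a ∈ T, a * a = 1 := fun a ha =>
    congrArg Subtype.val (IsKleinFour.mul_self (⟨a, ha⟩ : T))
  have hcomm : ∀ a ∈ T, ∀ b ∈ T, a * b = b * a := fun a ha b hb => by
    have h1 := hsq _ (mul_mem ha hb)
    calc a * b = a⁻¹ * b⁻¹ := by rw [inv_eq_of_mul_eq_one_left (hsq a ha), inv_eq_of_mul_eq_one_left (hsq b hb)]
      _ = (b * a)⁻¹ := (mul_inv_rev b a).symm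
      _ = b * a := inv_eq_of_mul_eq_one_left (hsq _ (mul_mem hb ha))
  obtain ⟨⟨i, e⟩, hb, he⟩ : ∃ b ∈ T, b.e = true := by
    by_contra h
    push Not at h
    have := card_rot_sq T (fun a ha => by simpa using h a ha) hsq
    rw [IsKleinFour.card_four] at this; omega
  simp only at he; subst he
  refine ⟨i, ?_, ?_⟩
  · have := congrArg Sd.i (hsq _ hb)
    simp only [mul_i, cond_true, one_i] at this
    refine half_mul_eq_zero_iff.mp ?_
    rw [c] at this; linear_combination this
  · refine Subgroup.eq_of_le_of_card_ge (fun a ha => refl_centralizer (hcomm a ha _ hb)) ?_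
    rw [card_D (by omega), IsKleinFour.card_four]; norm_num

theorem isKleinFour_D_one {i : ZMod (2 ^ (k + 3))} (hi : ∃ m, i = 2 * m) :
    IsKleinFour (D 1 le_rfl i : Subgroup (Sd k)) := by
  have hc : Nat.card (D 1 le_rfl i : Subgroup (Sd k)) = 4 := by rw [card_D (by omega)]; norm_num
  refine ⟨hc, ?_⟩
  haveI : Nontrivial (D 1 le_rfl i : Subgroup (Sd k)) := Finite.one_lt_card_iff_nontrivial.mp (by omega)
  refine Monoid.exponent_eq_prime_iff Nat.prime_two |>.mpr ?_
  rintro ⟨⟨a, e⟩, ha⟩ hne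
  refine orderOf_eq_prime ?_ hne
  apply Subtype.ext
  rw [mem_D, pow_one] at ha
  cases e <;> simp only [cond_true, cond_false, sub_zero] at ha <;>
    ext <;> simp [pow_two]
  · rw [← two_mul]; exact ha
  · obtain ⟨m, rfl⟩ := hi
    rw [c]
    rcases two_cancel ha with h | h
    · rw [sub_eq_zero.mp h]; linear_combination m * (two_half (k := k))
    · rw [sub_eq_iff_eq_add.mp h]; linear_combination m * (two_half (k := k)) + half_sq (k := k)

theorem eq_D_two_of_quaternion {Q : Subgroup (Sd k)} (e : Q ≃* QuaternionGroup 2) :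
    ∃ i, (∃ m, i = 2 * m + 1) ∧ Q = D 2 (by omega) i := by
  have hQ : Nat.card Q = 8 := by
    rw [Nat.card_congr e.toEquiv, Nat.card_eq_fintype_card, QuaternionGroup.card]
  have h4 : ∀ a ∈ Q, a * a * (a * a) = 1 := by
    intro a ha
    have h : ∀ u : QuaternionGroup 2, u * u * (u * u) = 1 := by decide
    exact congrArg Subtype.val (e.injective (a₁ := (⟨a, ha⟩ : Q) * ⟨a, ha⟩ * (⟨a, ha⟩ * ⟨a, ha⟩)) (a₂ := 1)
      (by rw [map_mul, map_mul, map_one]; exact h _))
  have hcen : ∀ a ∈ Q, a * a = 1 → ∀ b ∈ Q, a * b = b * a := by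
    intro a ha haa b hb
    have h : ∀ u v : QuaternionGroup 2, u * u = 1 → u * v = v * u := by decide
    exact congrArg Subtype.val (e.injective (a₁ := (⟨a, ha⟩ : Q) * ⟨b, hb⟩) (a₂ := ⟨b, hb⟩ * ⟨a, ha⟩)
      (by rw [map_mul, map_mul]; exact h _ _ (by rw [← map_mul, ← map_one e]; exact congrArg e (Subtype.ext haa))))
  obtain ⟨⟨i, f⟩, hb, he⟩ : ∃ b ∈ Q, b.e = true := by
    by_contra h
    push Not at h
    obtain ⟨u, v, huv⟩ : ∃ u v : QuaternionGroup 2, u * v ≠ v * u := by decide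
    apply huv
    have hc : (e.symm u : Q) * e.symm v = e.symm v * e.symm u := by
      refine Subtype.ext (Sd.ext ?_ ?_)
      · simp [show (e.symm u : Sd k).e = false by simpa using h _ (e.symm u).2,
          show (e.symm v : Sd k).e = false by simpa using h _ (e.symm v).2, add_comm]
      · simp [Bool.xor_comm]
    simpa using congrArg e hc
  simp only at he; subst he
  have hodd : ∃ m, i = 2 * m + 1 := by
    refine (even_or_odd i).resolve_left fun hi => ?_
    have hbb : (⟨i, true⟩ : Sd k) * ⟨i, true⟩ = 1 := by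
      ext <;> simp
      rw [c]; linear_combination half_mul_eq_zero_iff.mpr hi
    have hle : Q ≤ D 1 le_rfl i := fun a ha => refl_centralizer (hcen _ hb hbb a ha).symm
    have := Subgroup.card_le_of_le hle
    rw [card_D (by omega), hQ] at this; norm_num at this
  refine ⟨i, hodd, Subgroup.eq_of_le_of_card_ge (fun a ha => ?_) ?_⟩
  · obtain ⟨a, f⟩ := a
    rw [mem_D]
    cases f <;> simp only [cond_true, cond_false, sub_zero]
    · have := congrArg Sd.i (h4 _ ha)
      simp at this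
      linear_combination this
    · have := congrArg Sd.i (h4 _ (mul_mem ha hb))
      simp [c] at this
      linear_combination this - i * (pow_two_mul_half (k := k) (m := 2) (by omega))
  · rw [card_D (by omega), hQ]; norm_num

theorem map_conj_D {m : ℕ} {hm : 1 ≤ m} {i i' : ZMod (2 ^ (k + 3))} (hk : m ≤ k + 3)
    (h : ∃ l, i' - i = 2 * l) :
    ∃ s : Sd k, (D m hm i).map (MulAut.conj s).toMonoidHom = D m hm i' := by
  obtain ⟨l, hl⟩ := h
  obtain ⟨j, hj⟩ := exists_conj_sub l
  refine ⟨⟨j, false⟩, Subgroup.eq_of_le_of_card_ge ?_ ?_⟩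
  · rintro _ ⟨⟨a, e⟩, ha, rfl⟩
    rw [SetLike.mem_coe, mem_D] at ha
    show (⟨j, false⟩ : Sd k) * ⟨a, e⟩ * (⟨j, false⟩ : Sd k)⁻¹ ∈ D m hm i'
    cases e
    · rw [conj_rot]; simpa [mem_D] using ha
    · obtain ⟨s, hs, hs'⟩ := conj_refl (⟨j, false⟩ : Sd k) a
      simp only [cond_false, sub_zero] at hs'
      subst hs'
      rw [hs, mem_D]
      simp only [cond_true] at ha ⊢
      rw [hj]
      linear_combination ha - (2 : ZMod (2 ^ (k + 3))) ^ m * hl
  · rw [card_D hk, Subgroup.card_map_of_injective (MulAut.conj _).injective, card_D hk]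

/-- The rotations. -/
def rot (k : ℕ) : Subgroup (Sd k) where
  carrier := {a | a.e = false}
  one_mem' := rfl
  mul_mem' := by intro a b ha hb; simp only [Set.mem_ofPred_eq, mul_e] at *; simp [ha, hb]
  inv_mem' := by intro a ha; simpa using ha

theorem mem_rot {a : Sd k} : a ∈ rot k ↔ a.e = false := Iff.rfl

theorem zpow_rot (i : ZMod (2 ^ (k + 3))) (n : ℕ) : (⟨i, false⟩ : Sd k) ^ n = ⟨n * i, false⟩ := by
  induction n with
  | zero => ext <;> simp
  | succ n ih => rw [pow_succ, ih]; ext <;> simp; ring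

theorem rot_eq_zpowers : rot k = Subgroup.zpowers (⟨1, false⟩ : Sd k) := by
  refine le_antisymm ?_ (Subgroup.zpowers_le.mpr rfl)
  rintro ⟨a, e⟩ ha
  rw [mem_rot] at ha; simp only at ha; subst ha
  refine ⟨(a.val : ℤ), ?_⟩
  show (⟨1, false⟩ : Sd k) ^ (a.val : ℤ) = _
  rw [zpow_natCast, zpow_rot, mul_one, ZMod.natCast_rightInverse a]

theorem mem_D_top {i : ZMod (2 ^ (k + 3))} {a : Sd k} :
    a ∈ D (k + 2) (by omega) i ↔ ∃ m, a.i - cond a.e i 0 = 2 * m := by
  rw [mem_D, show (2 : ZMod (2 ^ (k + 3))) ^ (k + 2) = (half k : ZMod (2 ^ (k + 3))) by rw [half]; push_cast; rfl]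
  exact half_mul_eq_zero_iff

theorem index_rot : (rot k).index = 2 := by
  rw [Subgroup.index_eq_two_iff]
  refine ⟨⟨0, true⟩, fun b => ?_⟩
  simp only [mem_rot, mul_e]
  cases b.e
  · exact Or.inr ⟨rfl, by simp⟩
  · exact Or.inl ⟨rfl, by simp⟩

theorem index_D_top {i : ZMod (2 ^ (k + 3))} : (D (k + 2) (by omega) i : Subgroup (Sd k)).index = 2 := by
  have h1 := (D (k + 2) (by omega) i : Subgroup (Sd k)).card_mul_index
  rw [card_D (by omega), card_eq] at h1
  refine Nat.eq_of_mul_eq_mul_left (show 0 < 2 ^ (k + 2 + 1) by positivity) ?_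
  rw [h1]; ring

theorem isCoatom_of_index_two {G : Type*} [Group G] {M : Subgroup G} (h : M.index = 2) :
    IsCoatom M := by
  refine ⟨fun ht => by simp [ht] at h, fun K hK => ?_⟩
  have h1 := Subgroup.relIndex_mul_index hK.le
  rw [h] at h1
  rcases (Nat.dvd_prime Nat.prime_two).mp (Dvd.intro_left _ h1) with h2 | h2
  · exact Subgroup.index_eq_one.mp h2
  · exfalso
    rw [h2] at h1
    exact hK.not_ge (Subgroup.relIndex_eq_one.mp (by omega))

theorem index_two_of_isCoatom {G : Type*} [Group G] [Finite G] (hG : IsPGroup 2 G) {M : Subgroup G}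
    (hM : IsCoatom M) : M.index = 2 := by
  haveI := hG.isNilpotent
  haveI : M.Normal := Subgroup.NormalizerCondition.normal_of_coatom M Group.normalizerCondition_of_isNilpotent hM
  haveI : Fact (Nat.Prime 2) := ⟨Nat.prime_two⟩
  have hq : IsPGroup 2 (G ⧸ M) := hG.to_quotient M
  obtain ⟨n, hn⟩ := hq.exists_card_eq
  have hn1 : n ≠ 0 := fun h => hM.1 (Subgroup.index_eq_one.mp (by rw [Subgroup.index_eq_card, hn, h, pow_zero]))
  obtain ⟨z, hz⟩ := exists_prime_orderOf_dvd_card' (G := G ⧸ M) 2 (hn ▸ dvd_pow_self 2 hn1)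
  have hK : (Subgroup.zpowers z).comap (QuotientGroup.mk' M) = ⊤ := by
    refine hM.2 _ (lt_of_le_of_ne ?_ fun h => ?_)
    · intro x hx
      rw [Subgroup.mem_comap, QuotientGroup.mk'_apply, (QuotientGroup.eq_one_iff x).mpr hx]
      exact one_mem _
    · obtain ⟨x, rfl⟩ := QuotientGroup.mk'_surjective M z
      have hx : x ∈ M := h.symm ▸ (Subgroup.mem_zpowers _ : _)
      rw [QuotientGroup.mk'_apply, (QuotientGroup.eq_one_iff x).mpr hx, orderOf_one] at hz
      omega
  rw [Subgroup.index_eq_card, ← hz, ← Nat.card_zpowers, ← Subgroup.card_top]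
  congr 1
  rw [← Subgroup.map_comap_eq_self_of_surjective (QuotientGroup.mk'_surjective M) (Subgroup.zpowers z), hK,
    Subgroup.map_top_of_surjective _ (QuotientGroup.mk'_surjective M)]

theorem isPGroup_sd : IsPGroup 2 (Sd k) := IsPGroup.of_card card_eq

theorem coatom_cases {M : Subgroup (Sd k)} (hM : IsCoatom M) :
    M = rot k ∨ M = D (k + 2) (by omega) 0 ∨ M = D (k + 2) (by omega) 1 := by
  have h2 := index_two_of_isCoatom isPGroup_sd hM
  have heven : ∀ m, (⟨2 * m, false⟩ : Sd k) ∈ M := fun m => by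
    have := Subgroup.mul_self_mem_of_index_two h2 (⟨m, false⟩ : Sd k)
    convert this using 1
    ext <;> simp [two_mul]
  have hle : ∀ r b : Bool → Prop, True := fun _ _ => trivial
  by_cases hr : (⟨1, false⟩ : Sd k) ∈ M
  · refine Or.inl ((((isCoatom_of_index_two index_rot).le_iff).mp ?_).resolve_left hM.1)
    rw [rot_eq_zpowers]; exact Subgroup.zpowers_le.mpr hr
  have key : ∀ i, (⟨i, true⟩ : Sd k) ∈ M → M = D (k + 2) (by omega) i := by
    intro i hi
    refine (((isCoatom_of_index_two index_D_top).le_iff).mp ?_).resolve_left hM.1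
    rintro ⟨a, e⟩ ha
    obtain ⟨m, hm⟩ := mem_D_top.mp ha
    cases e <;> simp only [cond_true, cond_false, sub_zero] at hm
    · exact hm ▸ heven m
    · convert mul_mem (heven m) hi using 1
      ext <;> simp [← hm]
  by_cases hb : (⟨0, true⟩ : Sd k) ∈ M
  · exact Or.inr (Or.inl (key 0 hb))
  · refine Or.inr (Or.inr (key 1 ?_))
    convert ((Subgroup.mul_mem_iff_of_index_two h2).mpr (iff_of_false hr hb)) using 1
    ext <;> simp

/-- Doubling. -/
def dbl (k : ℕ) : ZMod (2 ^ (k + 2)) →+ ZMod (2 ^ (k + 3)) :=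
  ZMod.lift _ ⟨(AddMonoidHom.mulLeft (2 : ZMod (2 ^ (k + 3)))).comp (Int.castAddHom _), by
    show (2 : ZMod (2 ^ (k + 3))) * (((2 ^ (k + 2) : ℕ) : ℤ) : ZMod (2 ^ (k + 3))) = 0
    rw [Int.cast_natCast]; exact two_half⟩

theorem dbl_natCast (n : ℕ) : dbl k (n : ZMod (2 ^ (k + 2))) = 2 * n := by
  rw [show ((n : ℕ) : ZMod (2 ^ (k + 2))) = ((n : ℤ) : ZMod (2 ^ (k + 2))) by norm_cast, dbl, ZMod.lift_coe]
  simp

theorem dbl_injective : Function.Injective (dbl k) := by
  refine (injective_iff_map_eq_zero _).mpr fun x hx => ?_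
  rw [← ZMod.natCast_rightInverse x, dbl_natCast] at hx
  have hlt := ZMod.val_lt x
  rcases two_cancel hx with h | h
  · rw [ZMod.natCast_eq_zero_iff] at h
    rw [← ZMod.natCast_rightInverse x, Nat.eq_zero_of_dvd_of_lt h (hlt.trans (by simp [pow_succ]))]
    simp
  · rw [ZMod.natCast_eq_natCast_iff', Nat.mod_eq_of_lt (hlt.trans (by simp [pow_succ])),
      Nat.mod_eq_of_lt (by simp [half, pow_succ])] at h
    simp [half] at h
    omega

theorem dbl_even (x : ZMod (2 ^ (k + 2))) : ∃ m, dbl k x = 2 * m :=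
  ⟨x.val, by rw [← dbl_natCast, ZMod.natCast_rightInverse x]⟩

theorem c_mul_dbl (x : ZMod (2 ^ (k + 2))) : c k * dbl k x = -dbl k x := by
  obtain ⟨m, hm⟩ := dbl_even x
  rw [hm]; exact c_mul_even m

/-- The dihedral maximal subgroup. -/
noncomputable def equivDihedral : DihedralGroup (2 ^ (k + 2)) ≃* (D (k + 2) (by omega) 0 : Subgroup (Sd k)) := by
  let f : DihedralGroup (2 ^ (k + 2)) →* (D (k + 2) (by omega) 0 : Subgroup (Sd k)) :=
  MonoidHom.mk' (fun x => match x with
    | .r j => ⟨⟨dbl k j, false⟩, mem_D_top.mpr (by simpa using dbl_even j)⟩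
    | .sr j => ⟨⟨-dbl k j, true⟩, mem_D_top.mpr (by obtain ⟨m, hm⟩ := dbl_even j; exact ⟨-m, by simp [hm]⟩)⟩) (by
    rintro (a | a) (b | b) <;> apply Subtype.ext <;> ext <;> simp [mul_neg, c_mul_dbl] <;> ring)
  refine MulEquiv.ofBijective f ((Nat.bijective_iff_injective_and_card _).mpr ⟨?_, ?_⟩)
  · rintro (a | a) (b | b) h <;> simp [f, dbl_injective.eq_iff] at h <;> rw [h]
  · rw [card_D (by omega), DihedralGroup.nat_card]; ring

/-- The quaternion maximal subgroup. -/
noncomputable def equivQuaternion : QuaternionGroup (2 ^ (k + 1)) ≃* (D (k + 2) (by omega) 1 : Subgroup (Sd k)) := by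
  have e2 : 2 * 2 ^ (k + 1) = 2 ^ (k + 2) := by rw [pow_succ' 2 (k + 1)]
  let u : ZMod (2 * 2 ^ (k + 1)) ≃+* ZMod (2 ^ (k + 2)) := ZMod.ringEquivCongr e2
  have hu : dbl k (u ((2 ^ (k + 1) : ℕ) : ZMod (2 * 2 ^ (k + 1)))) = half k := by
    rw [map_natCast, dbl_natCast, half, pow_succ' 2 (k + 1)]; push_cast; ring
  let f : QuaternionGroup (2 ^ (k + 1)) →* (D (k + 2) (by omega) 1 : Subgroup (Sd k)) :=
  MonoidHom.mk' (fun x => match x with
    | .a j => ⟨⟨dbl k (u j), false⟩, mem_D_top.mpr (by simpa using dbl_even (u j))⟩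
    | .xa j => ⟨⟨1 - dbl k (u j), true⟩, mem_D_top.mpr (by obtain ⟨m, hm⟩ := dbl_even (u j); exact ⟨-m, by simp [hm]⟩)⟩) (by
    have hc : c k = (half k : ZMod (2 ^ (k + 3))) - 1 := rfl
    rintro (a | a) (b | b) <;> apply Subtype.ext <;> ext <;>
      simp only [QuaternionGroup.a_mul_a, QuaternionGroup.a_mul_xa, QuaternionGroup.xa_mul_a,
        QuaternionGroup.xa_mul_xa, map_add, map_sub, hu, Subgroup.coe_mul, mul_i, mul_e, cond_true,
        cond_false, Bool.xor_self, Bool.xor_false, Bool.false_xor, mul_sub, c_mul_dbl, mul_one] <;>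
      (try simp only [hc]) <;> ring)
  refine MulEquiv.ofBijective f ((Nat.bijective_iff_injective_and_card _).mpr ⟨?_, ?_⟩)
  · rintro (a | a) (b | b) h <;> simp [f, dbl_injective.eq_iff] at h <;> rw [h]
  · rw [card_D (by omega), Nat.card_eq_fintype_card, QuaternionGroup.card]; ring

end CfsgLib.Invol.QDW.Sd
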