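import Mathlib
import Cfsg.Agent.Lib.Invol.QDW.SdSubgroups
import Cfsg.Agent.Lib.Invol.QDW.FusionTools

/-!
# Fusion in groups with quasi-dihedral Sylow 2-subgroups
-/

set_option autoImplicit false

namespace CfsgLib.Invol.QDW.Sd

open CfsgLib.Invol

variable {k : ℕ}

/-- The central involution. -/
def zS (k : ℕ) : Sd k := ⟨half k, false⟩
/-- An involution outside the centre. -/
def bS (k : ℕ) : Sd k := ⟨0, true⟩
/-- A reflection of order 4. -/
def dS (k : ℕ) : Sd k := ⟨1, true⟩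
/-- A rotation of order 4. -/
def qS (k : ℕ) : Sd k := ⟨(2 : ZMod (2 ^ (k + 3))) ^ (k + 1), false⟩

theorem two_q : 2 * (qS k).i = (half k : ZMod (2 ^ (k + 3))) := by
  simp only [qS, half]
  push_cast
  ring

theorem q_even : ∃ m, (qS k).i = 2 * m := ⟨(2 : ZMod (2 ^ (k + 3))) ^ k, by simp only [qS]; ring⟩

theorem orderOf_zS : orderOf (zS k) = 2 := orderOf_two_iff.mpr (Or.inl ⟨rfl, rfl⟩)
theorem orderOf_bS : orderOf (bS k) = 2 := orderOf_two_iff.mpr (Or.inr ⟨rfl, 0, by simp [bS]⟩)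
theorem orderOf_dS : orderOf (dS k) = 4 := orderOf_four_iff.mpr (Or.inr ⟨rfl, 0, by simp [dS]⟩)
theorem orderOf_qS : orderOf (qS k) = 4 := orderOf_four_iff.mpr (Or.inl ⟨rfl, two_q⟩)

theorem zS_central (x : Sd k) : x * zS k = zS k * x :=
  Subgroup.mem_center_iff.mp (mem_center_iff.mpr ⟨rfl, Or.inr rfl⟩) x

theorem qS_inv : (qS k)⁻¹ = ⟨(qS k).i + half k, false⟩ := by
  ext <;> simp [qS]
  have := two_q (k := k)
  simp only [qS] at this
  linear_combination -this - (two_half (k := k)) + (0 : ZMod (2 ^ (k + 3))) * this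

theorem eq_qS_or_inv {a : Sd k} (he : a.e = false) (hi : 2 * a.i = half k) :
    a = qS k ∨ a = (qS k)⁻¹ := by
  rcases two_cancel (x := a.i - (qS k).i) (by linear_combination hi - two_q (k := k)) with h | h
  · exact Or.inl (Sd.ext (sub_eq_zero.mp h) he)
  · refine Or.inr ?_
    rw [qS_inv]
    exact Sd.ext (by linear_combination h) he

theorem conj_qS (s : Sd k) : s * qS k * s⁻¹ ∈ Subgroup.zpowers (qS k) := by
  have h1 : (s * qS k * s⁻¹).e = false := by simp [qS]
  have h4 : orderOf (s * qS k * s⁻¹) = 4 := by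
    rw [← MulAut.conj_apply, MulEquiv.orderOf_eq, orderOf_qS]
  rcases orderOf_four_iff.mp h4 with ⟨-, h⟩ | ⟨h, -⟩
  · rcases eq_qS_or_inv h1 h with e | e <;> rw [e]
    · exact Subgroup.mem_zpowers _
    · exact Subgroup.inv_mem _ (Subgroup.mem_zpowers _)
  · rw [h1] at h; exact Bool.noConfusion h

theorem isConj_bS {a : Sd k} (he : a.e = true) (hi : ∃ m, a.i = 2 * m) : IsConj a (bS k) := by
  obtain ⟨i, e⟩ := a; simp only at he hi; subst he
  obtain ⟨m, rfl⟩ := hi
  exact isConj_refl_iff.mpr ⟨-m, by ring⟩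

theorem isConj_dS {a : Sd k} (he : a.e = true) (hi : ∃ m, a.i = 2 * m + 1) : IsConj a (dS k) := by
  obtain ⟨i, e⟩ := a; simp only at he hi; subst he
  obtain ⟨m, rfl⟩ := hi
  exact isConj_refl_iff.mpr ⟨-m, by ring⟩

theorem involution_cases {a : Sd k} (h : orderOf a = 2) : a = zS k ∨ IsConj a (bS k) := by
  rcases orderOf_two_iff.mp h with ⟨he, hi⟩ | ⟨he, hi⟩
  · exact Or.inl (Sd.ext hi he)
  · exact Or.inr (isConj_bS he hi)

theorem four_cases {a : Sd k} (h : orderOf a = 4) : IsConj a (qS k) ∨ IsConj a (dS k) := by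
  rcases orderOf_four_iff.mp h with ⟨he, hi⟩ | ⟨he, hi⟩
  · left
    rcases eq_qS_or_inv he hi with e | e <;> rw [e]
    refine isConj_iff.mpr ⟨⟨0, true⟩, ?_⟩
    rw [qS_inv, conj_rot]
    refine Sd.ext ?_ rfl
    simp only [cond_true, c]
    obtain ⟨m, hm⟩ := q_even (k := k)
    have h2 := two_q (k := k)
    linear_combination -h2 + (half k : ZMod (2 ^ (k + 3))) * hm + m * (two_half (k := k)) + (half_sq (k := k)) - (two_half (k := k))
  · exact Or.inr (isConj_dS he hi)

theorem bd_generate : Subgroup.closure ({bS k, dS k} : Set (Sd k)) = ⊤ := by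
  rw [eq_top_iff]
  set H := Subgroup.closure ({bS k, dS k} : Set (Sd k))
  have hb : bS k ∈ H := Subgroup.subset_closure (Or.inl rfl)
  have hd : dS k ∈ H := Subgroup.subset_closure (Or.inr rfl)
  have hr : (⟨1, false⟩ : Sd k) ∈ H := by
    convert H.mul_mem hd hb using 1
    ext <;> simp [bS, dS]
  rintro ⟨i, e⟩ -
  have hi : (⟨i, false⟩ : Sd k) ∈ H := by
    have := H.pow_mem hr i.val
    rwa [zpow_rot, mul_one, ZMod.natCast_rightInverse i] at this
  cases e
  · exact hi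
  · convert H.mul_mem hi hb using 1
    ext <;> simp [bS]

/-- `D 2 1` is a quaternion group. -/
theorem exists_quaternion_D_two : Nonempty ((D 2 (by omega) 1 : Subgroup (Sd k)) ≃* QuaternionGroup 2) := by
  let ψ : ZMod (2 * 2) →+ ZMod (2 ^ (k + 3)) :=
    ZMod.lift (2 * 2) ⟨(AddMonoidHom.mulLeft (qS k).i).comp (Int.castAddHom _), by
      show (qS k).i * (((2 * 2 : ℕ) : ℤ) : ZMod (2 ^ (k + 3))) = 0
      push_cast; linear_combination 2 * (two_q (k := k)) + (two_half (k := k))⟩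
  have hψn : ∀ n : ℕ, ψ (n : ZMod (2 * 2)) = (qS k).i * n := fun n => by
    rw [show ((n : ℕ) : ZMod (2 * 2)) = ((n : ℤ) : ZMod (2 * 2)) by norm_cast, ZMod.lift_coe]
    simp
  have hψ2 : ψ ((2 : ℕ) : ZMod (2 * 2)) = half k := by
    rw [hψn]; push_cast; linear_combination (two_q (k := k))
  obtain ⟨mq, hmq⟩ := q_even (k := k)
  have hψe : ∀ j, c k * ψ j = -ψ j := fun j => by
    rw [← ZMod.natCast_rightInverse j, hψn, hmq, mul_assoc 2 mq]
    exact c_mul_even _
  have hψ4 : ∀ j, 2 ^ 2 * ψ j = 0 := fun j => by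
    rw [← ZMod.natCast_rightInverse j, hψn]
    linear_combination 2 * (j.val : ZMod (2 ^ (k + 3))) * (two_q (k := k)) + (j.val : ZMod (2 ^ (k + 3))) * (two_half (k := k))
  let f : QuaternionGroup 2 →* (D 2 (by omega) 1 : Subgroup (Sd k)) :=
    MonoidHom.mk' (fun x => match x with
      | .a j => ⟨⟨ψ j, false⟩, by rw [mem_D]; simpa using hψ4 j⟩
      | .xa j => ⟨⟨1 - ψ j, true⟩, by rw [mem_D]; simpa using hψ4 j⟩) (by
      have hc : c k = (half k : ZMod (2 ^ (k + 3))) - 1 := rfl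
      rintro (a | a) (b | b) <;> apply Subtype.ext <;> ext <;>
        simp only [QuaternionGroup.a_mul_a, QuaternionGroup.a_mul_xa, QuaternionGroup.xa_mul_a,
          QuaternionGroup.xa_mul_xa, map_add, map_sub, hψ2, Subgroup.coe_mul, mul_i, mul_e, cond_true,
          cond_false, Bool.xor_self, Bool.xor_false, Bool.false_xor, mul_sub, hψe, mul_one] <;>
        (try simp only [hc]) <;> ring)
  have hinj : Function.Injective ψ := by
    refine (injective_iff_map_eq_zero _).mpr fun x hx => ?_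
    rw [← ZMod.natCast_rightInverse x, hψn] at hx
    have hlt : x.val < 2 * 2 := ZMod.val_lt x
    have : x.val = 0 ∨ x.val = 1 ∨ x.val = 2 ∨ x.val = 3 := by omega
    rcases this with h | h | h | h <;> rw [h] at hx <;> push_cast at hx
    · exact (ZMod.val_eq_zero x).mp h
    · exact absurd (by linear_combination -(two_q (k := k)) + 2 * hx : (half k : ZMod (2 ^ (k + 3))) = 0) half_ne_zero
    · exact absurd (by linear_combination -(two_q (k := k)) + hx : (half k : ZMod (2 ^ (k + 3))) = 0) half_ne_zero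
    · exact absurd (by linear_combination -(two_q (k := k)) + 2 * hx - (2 * (two_q (k := k)) + (two_half (k := k))) : (half k : ZMod (2 ^ (k + 3))) = 0) half_ne_zero
  refine ⟨(MulEquiv.ofBijective f ((Nat.bijective_iff_injective_and_card _).mpr ⟨?_, ?_⟩)).symm⟩
  · rintro (a | a) (b | b) h <;> simp [f, hinj.eq_iff] at h <;> rw [h]
  · rw [card_D (by omega), Nat.card_eq_fintype_card, QuaternionGroup.card]; norm_num

/-! ## The two local indices -/

variable {G : Type*} [Group G] [Finite G] {S : Sylow 2 G} {ι : Sd k →* G}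

theorem localData_T (hι : Function.Injective ι) (hS : ι.range = (S : Subgroup G)) :
    LocalData ((D 1 le_rfl 0 : Subgroup (Sd k)).map ι) ((D 2 (by omega) 0 : Subgroup (Sd k)).map ι) := by
  refine ⟨Subgroup.map_mono D_le_succ, ?_, isPGroup_sd.to_subgroup _ |>.map ι, ?_, ?_, ?_⟩
  · rintro _ ⟨m, hm, rfl⟩
    exact (map_normalizer_inf ι hι _ m).mpr (by rw [normalizer_D (by omega)]; exact hm)
  · rw [relIndex_map_inj ι hι, relIndex_D (by omega)]
  · rintro _ ⟨m, -, rfl⟩ hm
    exact ⟨m, refl_centralizer (Subgroup.mem_centralizer_iff.mp ((mem_centralizer_map_iff' ι hι _ m).mp hm)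
      _ refl_mem_D).symm, rfl⟩
  · intro R hR hRN
    rw [card_map_inj ι hι, card_D (by omega)]
    refine bound_of_model S ι hι hS ((isPGroup_sd.to_subgroup _).map ι) _ (fun E ⟨e⟩ => ?_) R hR hRN
    haveI := isKleinFour_D_one (k := k) (i := 0) ⟨0, by simp⟩
    let e' : E ≃* (D 1 le_rfl 0 : Subgroup (Sd k)) := e.trans (Subgroup.equivMapOfInjective _ ι hι).symm
    haveI : IsKleinFour E := ⟨by rw [Nat.card_congr e'.toEquiv, IsKleinFour.card_four],
      by rw [Monoid.exponent_eq_of_mulEquiv e', IsKleinFour.exponent_two]⟩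
    obtain ⟨i, -, rfl⟩ := eq_D_one_of_klein (T := E) inferInstance
    rw [normalizer_D (by omega), card_D (by omega)]

theorem localData_Q (hι : Function.Injective ι) (hS : ι.range = (S : Subgroup G)) :
    LocalData ((D 2 (by omega) 1 : Subgroup (Sd k)).map ι) ((D 3 (by omega) 1 : Subgroup (Sd k)).map ι) := by
  refine ⟨Subgroup.map_mono D_le_succ, ?_, isPGroup_sd.to_subgroup _ |>.map ι, ?_, ?_, ?_⟩
  · rintro _ ⟨m, hm, rfl⟩
    exact (map_normalizer_inf ι hι _ m).mpr (by rw [normalizer_D (by omega)]; exact hm)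
  · rw [relIndex_map_inj ι hι, relIndex_D (by omega)]
  · rintro _ ⟨m, -, rfl⟩ hm
    obtain ⟨he, hi⟩ := mem_center_iff.mp (le_centralizer_D le_rfl ((mem_centralizer_map_iff' ι hι _ m).mp hm) (by omega))
    refine ⟨m, ?_, rfl⟩
    rw [SetLike.mem_coe, mem_D, he, cond_false, sub_zero]
    rcases hi with h | h <;> rw [h]
    · simp
    · exact pow_two_mul_half (by omega)
  · intro R hR hRN
    rw [card_map_inj ι hι, card_D (by omega)]
    refine bound_of_model S ι hι hS ((isPGroup_sd.to_subgroup _).map ι) _ (fun E ⟨e⟩ => ?_) R hR hRN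
    obtain ⟨eq⟩ := exists_quaternion_D_two (k := k)
    obtain ⟨i, -, rfl⟩ := eq_D_two_of_quaternion ((e.trans (Subgroup.equivMapOfInjective _ ι hι).symm).trans eq)
    rw [normalizer_D (by omega), card_D (by omega)]

/-- The four-group. -/
theorem index_T (hι : Function.Injective ι) (hS : ι.range = (S : Subgroup G)) :
    ((((D 1 le_rfl 0 : Subgroup (Sd k)).map ι) ⊔ Subgroup.centralizer ((D 1 le_rfl 0 : Subgroup (Sd k)).map ι : Set G)).relIndex
        (Subgroup.normalizer ((D 1 le_rfl 0 : Subgroup (Sd k)).map ι : Set G)) = 2 ∧ ¬ IsConj (ι (zS k)) (ι (bS k))) ∨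
    ((((D 1 le_rfl 0 : Subgroup (Sd k)).map ι) ⊔ Subgroup.centralizer ((D 1 le_rfl 0 : Subgroup (Sd k)).map ι : Set G)).relIndex
        (Subgroup.normalizer ((D 1 le_rfl 0 : Subgroup (Sd k)).map ι : Set G)) = 6 ∧ IsConj (ι (zS k)) (ι (bS k))) := by
  haveI : Fact (Nat.Prime 2) := ⟨Nat.prime_two⟩
  set T := (D 1 le_rfl 0 : Subgroup (Sd k)).map ι with hT
  set E := Subgroup.normalizer (T : Set G) ⊓ Subgroup.centralizer ({ι (zS k)} : Set G) with hE
  have hL := localData_T (k := k) hι hS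
  have hzT : zS k ∈ (D 1 le_rfl 0 : Subgroup (Sd k)) := by rw [mem_D]; simp [zS, two_half]
  have hbT : bS k ∈ (D 1 le_rfl 0 : Subgroup (Sd k)) := refl_mem_D
  have hmT : ∀ m, m ∈ (D 1 le_rfl 0 : Subgroup (Sd k)) → ι m ∈ T := fun m h => Subgroup.mem_map_of_mem _ h
  have hzb : bS k ≠ zS k := fun h => Bool.noConfusion (congrArg Sd.e h)
  have hcT : Nat.card T = 4 := by rw [hT, card_map_inj ι hι, card_D (by omega)]; norm_num
  have hkT : IsKleinFour T := by
    haveI := isKleinFour_D_one (k := k) (i := 0) ⟨0, by simp⟩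
    exact ⟨hcT, by rw [← Monoid.exponent_eq_of_mulEquiv ((D 1 le_rfl 0 : Subgroup (Sd k)).equivMapOfInjective ι hι),
      IsKleinFour.exponent_two]⟩
  have hWE : (D 2 (by omega) 0 : Subgroup (Sd k)).map ι ≤ E := fun x hx => by
    refine Subgroup.mem_inf.mpr ⟨hL.W_le hx, ?_⟩
    obtain ⟨m, -, rfl⟩ := hx
    rw [Subgroup.mem_centralizer_singleton_iff, ← map_mul, ← map_mul, zS_central]
  have hCN : Subgroup.centralizer (T : Set G) ≤ E := fun x hx => by
    refine ⟨?_, Subgroup.mem_centralizer_singleton_iff.mpr (Subgroup.mem_centralizer_iff.mp hx _ (hmT _ hzT)).symm⟩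
    refine mem_normalizer_of_forall fun y hy => ?_
    rw [← Subgroup.mem_centralizer_iff.mp hx y hy, mul_inv_cancel_right]; exact hy
  have h3 : E.relIndex (Subgroup.normalizer (T : Set G)) ≤ 3 := by
    rw [← card_kleinFour_ne_one hkT]
    refine relIndex_le_card (fun n => (⟨⟨(n : G) * ι (zS k) * (n : G)⁻¹,
      (Subgroup.mem_normalizer_iff.mp n.2 _).mp (hmT _ hzT)⟩, fun h => ?_⟩ : {a : T // a ≠ 1})) fun a b h => ?_
    · have h1 : ι (zS k) = 1 := conj_eq_one_iff.mp (congrArg Subtype.val h)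
      have := orderOf_inj ι hι (zS k)
      rw [h1, orderOf_one, orderOf_zS] at this; omega
    · have h1 : (a : G) * ι (zS k) * (a : G)⁻¹ = (b : G) * ι (zS k) * (b : G)⁻¹ :=
        congrArg (fun u : {a : T // a ≠ 1} => ((u : T) : G)) h
      refine Subgroup.mem_inf.mpr ⟨Subgroup.mul_mem _ (Subgroup.inv_mem _ a.2) b.2, Subgroup.mem_centralizer_singleton_iff.mpr ?_⟩
      rw [← mul_inv_eq_iff_eq_mul]
      calc (a : G)⁻¹ * b * ι (zS k) * ((a : G)⁻¹ * b)⁻¹ = (a : G)⁻¹ * ((b : G) * ι (zS k) * (b : G)⁻¹) * a := by group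
        _ = ι (zS k) := by rw [← h1]; group
  have hodd : ∀ n ∈ E, Odd (orderOf n) → n ∈ Subgroup.centralizer (T : Set G) := by
    intro n hn ho
    refine centralizes_of_cyclic ((isPGroup_sd.to_subgroup _).map ι) hn.1 ho (hmT _ hzT) (hmT _ hbT)
      (cover_of_card (hmT _ hzT) (hmT _ hbT) ?_ ?_) ?_
    · intro h
      rw [← MonoidHom.map_zpowers] at h
      obtain ⟨y, hy, hye⟩ := h
      have h2 : Subgroup.zpowers (zS k) ≤ Subgroup.center (Sd k) :=
        Subgroup.zpowers_le.mpr (mem_center_iff.mpr ⟨rfl, Or.inr rfl⟩)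
      exact Bool.noConfusion ((congrArg Sd.e (hι hye)).symm.trans (mem_center_iff.mp (h2 hy)).1)
    · rw [hcT, orderOf_inj ι hι, orderOf_zS]
    · rw [mul_inv_eq_iff_eq_mul.mpr (Subgroup.mem_centralizer_singleton_iff.mp hn.2)]
      exact Subgroup.mem_zpowers _
  obtain ⟨hidx, h13⟩ := local_index hL inf_le_left hWE hCN h3 hodd
  rcases h13 with h1 | h1 <;> rw [h1] at hidx
  · refine Or.inl ⟨hidx, fun hconj => ?_⟩
    have hNE : Subgroup.normalizer (T : Set G) ≤ E := Subgroup.relIndex_eq_one.mp h1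
    obtain ⟨g, hg⟩ := isConj_iff.mp hconj.symm
    set C := Subgroup.centralizer ({ι (zS k)} : Set G) with hC
    have hSC : (S : Subgroup G) ≤ C := fun x hx => by
      obtain ⟨m, rfl⟩ := hS.symm ▸ hx
      rw [hC, Subgroup.mem_centralizer_singleton_iff, ← map_mul, ← map_mul, zS_central]
    set T' := T.map (MulAut.conj g).toMonoidHom with hT'
    have hT'C : T' ≤ C := by
      rintro _ ⟨x, hx, rfl⟩
      show g * x * g⁻¹ ∈ C
      rw [hC, Subgroup.mem_centralizer_singleton_iff, ← hg,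
        show g * x * g⁻¹ * (g * ι (bS k) * g⁻¹) = g * (x * ι (bS k)) * g⁻¹ by group,
        commute_of_kleinFour hkT hx (hmT _ hbT)]
      group
    obtain ⟨c, hc, hcT⟩ := CfsgLib.Transfer.exists_conj_mem_sylow_of_le S hSC hT'C ((isPGroup_sd.to_subgroup _).map ι |>.map _)
    set T'' := T'.map (MulAut.conj c).toMonoidHom with hT''
    have hT''S : T'' ≤ ι.range := by
      rintro _ ⟨x, hx, rfl⟩
      rw [hS]; exact hcT x hx
    have hk'' : IsKleinFour T'' := isKleinFour_map (MulAut.conj c) (isKleinFour_map (MulAut.conj g) hkT)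
    haveI := hk''
    have hkD : IsKleinFour (T''.comap ι) := ⟨by rw [Nat.card_congr (comapEquiv ι hι hT''S).toEquiv, IsKleinFour.card_four],
      by rw [Monoid.exponent_eq_of_mulEquiv (comapEquiv ι hι hT''S), IsKleinFour.exponent_two]⟩
    obtain ⟨i, ⟨l, hl⟩, hi⟩ := eq_D_one_of_klein hkD
    obtain ⟨s, hs⟩ := map_conj_D (k := k) (m := 1) (hm := le_rfl) (i := i) (i' := 0) (by omega) ⟨-l, by rw [hl]; ring⟩
    set n := ι s * c * g with hn
    have hnN : n ∈ Subgroup.normalizer (T : Set G) := by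
      refine mem_normalizer_of_forall fun x hx => ?_
      have h2 : c * (g * x * g⁻¹) * c⁻¹ ∈ T'' := ⟨_, ⟨x, hx, rfl⟩, rfl⟩
      obtain ⟨m, hm⟩ := hT''S h2
      have hm' : m ∈ T''.comap ι := Subgroup.mem_comap.mpr (hm ▸ h2)
      rw [hi] at hm'
      have h3 : s * m * s⁻¹ ∈ (D 1 le_rfl 0 : Subgroup (Sd k)) := hs ▸ ⟨m, hm', rfl⟩
      have h4 := hmT _ h3
      rw [map_mul, map_mul, map_inv, hm] at h4
      convert h4 using 1
      rw [hn]; group
    have hb : n * ι (bS k) * n⁻¹ = ι (zS k) := by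
      calc n * ι (bS k) * n⁻¹ = ι s * (c * (g * ι (bS k) * g⁻¹) * c⁻¹) * (ι s)⁻¹ := by rw [hn]; group
        _ = ι (s * zS k * s⁻¹) := by
          rw [hg, mul_inv_eq_iff_eq_mul.mpr (Subgroup.mem_centralizer_singleton_iff.mp hc), map_mul, map_mul, map_inv]
        _ = ι (zS k) := by rw [zS_central, mul_inv_cancel_right]
    have hzfix := Subgroup.mem_centralizer_singleton_iff.mp (hNE hnN).2
    exact hzb (hι (mul_left_cancel (mul_right_cancel (hb.trans (mul_inv_eq_iff_eq_mul.mpr hzfix).symm))))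
  · refine Or.inr ⟨hidx, ?_⟩
    obtain ⟨n, hnN, hnE⟩ : ∃ n ∈ Subgroup.normalizer (T : Set G), n ∉ E := by
      by_contra h
      push Not at h
      rw [Subgroup.relIndex_eq_one.mpr h] at h1
      omega
    obtain ⟨m, hm, hme⟩ := (Subgroup.mem_normalizer_iff.mp hnN _).mp (hmT _ hzT)
    have hmo : orderOf m = 2 := by rw [← orderOf_inj ι hι, hme, ← MulAut.conj_apply, MulEquiv.orderOf_eq, orderOf_inj ι hι, orderOf_zS]
    rcases involution_cases hmo with rfl | h
    · exact absurd ⟨hnN, Subgroup.mem_centralizer_singleton_iff.mpr (mul_inv_eq_iff_eq_mul.mp hme.symm)⟩ hnE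
    · exact (isConj_iff.mpr ⟨n, hme.symm⟩ : IsConj (ι (zS k)) (ι m)).trans (MonoidHom.map_isConj ι h)

/-- The class of an element of order 4 in `D 2 1`. -/
def qClass (a : Sd k) : Fin 3 :=
  if a.e = false then 0 else if 2 * (a.i - 1) = 0 then 1 else 2

theorem qClass_eq {a b : Sd k} (ha : a ∈ (D 2 (by omega) 1 : Subgroup (Sd k))) (hb : b ∈ (D 2 (by omega) 1 : Subgroup (Sd k)))
    (ha4 : orderOf a = 4) (hb4 : orderOf b = 4) (h : qClass a = qClass b) : b ∈ Subgroup.zpowers a := by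
  suffices b = a ∨ b = a⁻¹ by
    rcases this with rfl | rfl
    · exact Subgroup.mem_zpowers _
    · exact Subgroup.inv_mem _ (Subgroup.mem_zpowers _)
  rw [mem_D] at ha hb
  rcases orderOf_four_iff.mp ha4 with ⟨hae, hai⟩ | ⟨hae, ma, hma⟩ <;>
    rcases orderOf_four_iff.mp hb4 with ⟨hbe, hbi⟩ | ⟨hbe, mb, hmb⟩
  · rcases eq_qS_or_inv hae hai with rfl | rfl <;> rcases eq_qS_or_inv hbe hbi with rfl | rfl <;> simp
  · exfalso; simp [qClass, hae, hbe] at h; split_ifs at h <;> exact absurd h (by decide)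
  · exfalso; simp [qClass, hae, hbe] at h; split_ifs at h <;> exact absurd h (by decide)
  · simp only [hae, hbe, cond_true] at ha hb
    have hd : 2 * (b.i - a.i) = 0 := by
      rcases two_cancel (x := 2 * (a.i - 1)) (by linear_combination ha) with h1 | h1 <;>
        rcases two_cancel (x := 2 * (b.i - 1)) (by linear_combination hb) with h2 | h2 <;>
        simp [qClass, hae, hbe, h1, h2, half_ne_zero] at h
      · linear_combination h2 - h1
      · linear_combination h2 - h1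
    rcases two_cancel hd with h1 | h1
    · exact Or.inl (Sd.ext (sub_eq_zero.mp h1) (by rw [hae, hbe]))
    · refine Or.inr (Sd.ext ?_ (by simp [hae, hbe]))
      simp only [inv_i, hae, cond_true, c]
      linear_combination h1 + half_mul_of_odd ma + (half k : ZMod (2 ^ (k + 3))) * hma + (two_half (k := k))

/-- The quaternion group. -/
theorem index_Q (hι : Function.Injective ι) (hS : ι.range = (S : Subgroup G)) :
    ((((D 2 (by omega) 1 : Subgroup (Sd k)).map ι) ⊔ Subgroup.centralizer ((D 2 (by omega) 1 : Subgroup (Sd k)).map ι : Set G)).relIndex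
        (Subgroup.normalizer ((D 2 (by omega) 1 : Subgroup (Sd k)).map ι : Set G)) = 2 ∧ ¬ IsConj (ι (qS k)) (ι (dS k))) ∨
    ((((D 2 (by omega) 1 : Subgroup (Sd k)).map ι) ⊔ Subgroup.centralizer ((D 2 (by omega) 1 : Subgroup (Sd k)).map ι : Set G)).relIndex
        (Subgroup.normalizer ((D 2 (by omega) 1 : Subgroup (Sd k)).map ι : Set G)) = 6 ∧ IsConj (ι (qS k)) (ι (dS k))) := by
  haveI : Fact (Nat.Prime 2) := ⟨Nat.prime_two⟩
  set Q := (D 2 (by omega) 1 : Subgroup (Sd k)).map ι with hQ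
  set P := Subgroup.zpowers (ι (qS k)) with hP
  set E := Subgroup.normalizer (Q : Set G) ⊓ Subgroup.normalizer (P : Set G) with hE
  have hL := localData_Q (k := k) hι hS
  have hqQ : qS k ∈ (D 2 (by omega) 1 : Subgroup (Sd k)) := by
    rw [mem_D]; simp only [qS, cond_false, sub_zero]
    have := two_q (k := k); simp only [qS] at this
    linear_combination 2 * this + (two_half (k := k))
  have hdQ : dS k ∈ (D 2 (by omega) 1 : Subgroup (Sd k)) := refl_mem_D
  have hmQ : ∀ m, m ∈ (D 2 (by omega) 1 : Subgroup (Sd k)) → ι m ∈ Q := fun m h => Subgroup.mem_map_of_mem _ h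
  have hdP : ι (dS k) ∉ P := by
    rw [hP, ← MonoidHom.map_zpowers]
    rintro ⟨y, hy, hye⟩
    have h2 : Subgroup.zpowers (qS k) ≤ rot k := Subgroup.zpowers_le.mpr rfl
    exact Bool.noConfusion ((congrArg Sd.e (hι hye)).symm.trans (mem_rot.mp (h2 hy)))
  have hnormP : ∀ n : G, n * ι (qS k) * n⁻¹ ∈ P → n ∈ Subgroup.normalizer (P : Set G) := by
    intro n hn
    refine mem_normalizer_of_forall ?_
    rintro _ ⟨j, rfl⟩
    show n * ι (qS k) ^ j * n⁻¹ ∈ P
    rw [← conj_zpow]; exact P.zpow_mem hn j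
  have hSP : (S : Subgroup G) ≤ Subgroup.normalizer (P : Set G) := fun x hx => by
    obtain ⟨m, rfl⟩ := hS.symm ▸ hx
    apply hnormP
    rw [← map_inv, ← map_mul, ← map_mul, hP, ← MonoidHom.map_zpowers]
    exact Subgroup.mem_map_of_mem _ (conj_qS m)
  have hWE : (D 3 (by omega) 1 : Subgroup (Sd k)).map ι ≤ E := fun x hx =>
    ⟨hL.W_le hx, hSP (hS ▸ (Subgroup.map_le_range ι _ hx))⟩
  have hCN : Subgroup.centralizer (Q : Set G) ≤ E := fun x hx => by
    refine ⟨mem_normalizer_of_forall fun y hy => ?_, hnormP x ?_⟩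
    · rw [← Subgroup.mem_centralizer_iff.mp hx y hy, mul_inv_cancel_right]; exact hy
    · rw [← Subgroup.mem_centralizer_iff.mp hx _ (hmQ _ hqQ), mul_inv_cancel_right]; exact Subgroup.mem_zpowers _
  have hmem : ∀ n : Subgroup.normalizer (Q : Set G), ∃ m ∈ (D 2 (by omega) 1 : Subgroup (Sd k)),
      ι m = (n : G) * ι (qS k) * (n : G)⁻¹ ∧ orderOf m = 4 := by
    intro n
    obtain ⟨m, hm, hme⟩ := (Subgroup.mem_normalizer_iff.mp n.2 _).mp (hmQ _ hqQ)
    refine ⟨m, hm, hme, ?_⟩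
    rw [← orderOf_inj ι hι, hme, ← MulAut.conj_apply, MulEquiv.orderOf_eq, orderOf_inj ι hι, orderOf_qS]
  choose fm hfm hfme hfmo using hmem
  have h3 : E.relIndex (Subgroup.normalizer (Q : Set G)) ≤ 3 := by
    rw [show (3 : ℕ) = Nat.card (Fin 3) by simp]
    refine relIndex_le_card (fun n => qClass (fm n)) fun a b h => Subgroup.mem_inf.mpr ⟨Subgroup.mul_mem _ (Subgroup.inv_mem _ a.2) b.2, hnormP _ ?_⟩
    obtain ⟨j, hj⟩ := qClass_eq (hfm a) (hfm b) (hfmo a) (hfmo b) h
    refine ⟨j, ?_⟩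
    show ι (qS k) ^ j = _
    have h1 : ι (fm a) ^ j = (b : G) * ι (qS k) * (b : G)⁻¹ := by rw [← map_zpow, ← hfme b]; exact congrArg ι hj
    rw [hfme a, conj_zpow] at h1
    calc ι (qS k) ^ j = (a : G)⁻¹ * ((a : G) * ι (qS k) ^ j * (a : G)⁻¹) * a := by group
      _ = _ := by rw [h1]; group
  have hodd : ∀ n ∈ E, Odd (orderOf n) → n ∈ Subgroup.centralizer (Q : Set G) := by
    intro n hn ho
    refine centralizes_of_cyclic ((isPGroup_sd.to_subgroup _).map ι) hn.1 ho (hmQ _ hqQ) (hmQ _ hdQ)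
      (cover_of_card (hmQ _ hqQ) (hmQ _ hdQ) hdP ?_)
      ((Subgroup.mem_normalizer_iff.mp hn.2 _).mp (Subgroup.mem_zpowers _))
    rw [card_map_inj ι hι, card_D (by omega), orderOf_inj ι hι, orderOf_qS]; norm_num
  obtain ⟨hidx, h13⟩ := local_index hL inf_le_left hWE hCN h3 hodd
  rcases h13 with h1 | h1 <;> rw [h1] at hidx
  · refine Or.inl ⟨hidx, fun hconj => ?_⟩
    have hNE : Subgroup.normalizer (Q : Set G) ≤ E := Subgroup.relIndex_eq_one.mp h1
    obtain ⟨g, hg⟩ := isConj_iff.mp hconj.symm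
    set H := Subgroup.normalizer (P : Set G) with hH
    have hQH : Q.map (MulAut.conj g).toMonoidHom ≤ H := by
      rintro _ ⟨x, hx, rfl⟩
      show g * x * g⁻¹ ∈ H
      apply hnormP
      obtain ⟨m, hm, rfl⟩ := hx
      have h4 : orderOf (m * dS k * m⁻¹) = 4 := by rw [← MulAut.conj_apply, MulEquiv.orderOf_eq, orderOf_dS]
      have hmd : m * dS k * m⁻¹ ∈ (D 2 (by omega) 1 : Subgroup (Sd k)) :=
        Subgroup.mul_mem _ (Subgroup.mul_mem _ hm hdQ) (Subgroup.inv_mem _ hm)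
      obtain ⟨j, hj⟩ := qClass_eq hdQ hmd orderOf_dS h4 (by
        rw [SetLike.mem_coe, mem_D] at hm
        obtain ⟨x, f⟩ := m
        have hf : (⟨x, f⟩ * dS k * (⟨x, f⟩ : Sd k)⁻¹).e = true := by cases f <;> simp [dS]
        have he : 2 * ((⟨x, f⟩ * dS k * (⟨x, f⟩ : Sd k)⁻¹).i - 1) = 0 := by
          have hh := two_half (k := k)
          cases f <;> simp [dS, c] at hm ⊢
          · linear_combination hm - x * hh
          · linear_combination hm - x * hh + hh
        simp only [qClass, hf, Bool.true_eq_false, if_false, if_pos he]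
        simp [dS])
      refine ⟨j, ?_⟩
      show ι (qS k) ^ j = _
      rw [← hg]
      calc (g * ι (dS k) * g⁻¹) ^ j = g * ι (dS k ^ j) * g⁻¹ := by rw [conj_zpow, map_zpow]
        _ = g * ι (m * dS k * m⁻¹) * g⁻¹ := by rw [show dS k ^ j = m * dS k * m⁻¹ from hj]
        _ = g * ι m * g⁻¹ * (g * ι (dS k) * g⁻¹) * (g * ι m * g⁻¹)⁻¹ := by
          rw [map_mul, map_mul, map_inv]; group
    obtain ⟨c, hc, hcQ⟩ := CfsgLib.Transfer.exists_conj_mem_sylow_of_le S hSP hQH ((isPGroup_sd.to_subgroup _).map ι |>.map _)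
    set Q'' := (Q.map (MulAut.conj g).toMonoidHom).map (MulAut.conj c).toMonoidHom with hQ''
    have hQ''S : Q'' ≤ ι.range := by
      rintro _ ⟨x, hx, rfl⟩
      rw [hS]; exact hcQ x hx
    obtain ⟨eq⟩ := exists_quaternion_D_two (k := k)
    obtain ⟨i, ⟨l, hl⟩, hi⟩ := eq_D_two_of_quaternion (((comapEquiv ι hι hQ''S).trans
      (((D 2 (by omega) 1 : Subgroup (Sd k)).equivMapOfInjective ι hι).trans ((mapEquiv (MulAut.conj g) Q).trans
        (mapEquiv (MulAut.conj c) _))).symm).trans eq)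
    obtain ⟨s, hs⟩ := map_conj_D (k := k) (m := 2) (hm := by omega) (i := i) (i' := 1) (by omega) ⟨-l, by rw [hl]; ring⟩
    set n := ι s * c * g with hn
    have hnN : n ∈ Subgroup.normalizer (Q : Set G) := by
      refine mem_normalizer_of_forall fun x hx => ?_
      have h2 : c * (g * x * g⁻¹) * c⁻¹ ∈ Q'' := ⟨_, ⟨x, hx, rfl⟩, rfl⟩
      obtain ⟨m, hm⟩ := hQ''S h2
      have hm' : m ∈ Q''.comap ι := Subgroup.mem_comap.mpr (hm ▸ h2)
      rw [hi] at hm'
      have h3 : s * m * s⁻¹ ∈ (D 2 (by omega) 1 : Subgroup (Sd k)) := hs ▸ ⟨m, hm', rfl⟩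
      have h4 := hmQ _ h3
      rw [map_mul, map_mul, map_inv, hm] at h4
      convert h4 using 1
      rw [hn]; group
    have hd' : n * ι (dS k) * n⁻¹ ∈ P := by
      have h5 : ι s * c ∈ H := mul_mem (hSP (hS ▸ ⟨s, rfl⟩)) hc
      have := (Subgroup.mem_normalizer_iff.mp h5 _).mp (Subgroup.mem_zpowers (ι (qS k)))
      convert this using 1
      rw [hn, ← hg]; group
    exact hdP ((Subgroup.mem_normalizer_iff.mp (hNE hnN).2 _).mpr hd')
  · refine Or.inr ⟨hidx, ?_⟩
    obtain ⟨n, hnN, hnE⟩ : ∃ n ∈ Subgroup.normalizer (Q : Set G), n ∉ E := by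
      by_contra h
      push Not at h
      rw [Subgroup.relIndex_eq_one.mpr h] at h1
      omega
    have hme := hfme ⟨n, hnN⟩
    rcases orderOf_four_iff.mp (hfmo ⟨n, hnN⟩) with ⟨he, hi⟩ | ⟨he, hi⟩
    · refine absurd ⟨hnN, hnormP n ?_⟩ hnE
      have h2 : fm ⟨n, hnN⟩ ∈ Subgroup.zpowers (qS k) := by
        rcases eq_qS_or_inv he hi with e | e <;> rw [e]
        · exact Subgroup.mem_zpowers _
        · exact Subgroup.inv_mem _ (Subgroup.mem_zpowers _)
      rw [← show ι (fm ⟨n, hnN⟩) = n * ι (qS k) * n⁻¹ from hme, hP, ← MonoidHom.map_zpowers]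
      exact Subgroup.mem_map_of_mem _ h2
    · exact (isConj_iff.mpr ⟨n, hme.symm⟩).trans (MonoidHom.map_isConj ι (isConj_dS he hi))

end CfsgLib.Invol.QDW.Sd
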