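import Mathlib
import Cfsg.Prelude.Def_CaseTheorems
import Cfsg.Agent.Lib.Invol.QDW.SdFusion

/-!
# The four fusion patterns of a quasi-dihedral Sylow 2-subgroup
-/

set_option autoImplicit false

namespace CfsgLib.Invol.QDW.Sd

open CfsgLib.Invol

variable {k : ℕ} {G : Type*} [Group G] [Finite G] {S : Sylow 2 G} {ι : Sd k →* G}

theorem involution_class (hι : Function.Injective ι) (hS : ι.range = (S : Subgroup G)) {t : G}
    (ht : orderOf t = 2) : IsConj t (ι (zS k)) ∨ IsConj t (ι (bS k)) := by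
  obtain ⟨m, hm⟩ := exists_conj_model S ι hS (x := t) (j := 1) (by rw [ht, pow_one])
  have hmo : orderOf m = 2 := by rw [← orderOf_inj ι hι, ← orderOf_eq_of_isConj hm, ht]
  rcases involution_cases hmo with rfl | h
  · exact Or.inl hm
  · exact Or.inr (hm.trans (MonoidHom.map_isConj ι h))

theorem four_class (hι : Function.Injective ι) (hS : ι.range = (S : Subgroup G)) {t : G}
    (ht : orderOf t = 4) : IsConj t (ι (qS k)) ∨ IsConj t (ι (dS k)) := by
  obtain ⟨m, hm⟩ := exists_conj_model S ι hS (x := t) (j := 2) (by rw [ht]; norm_num)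
  have hmo : orderOf m = 4 := by rw [← orderOf_inj ι hι, ← orderOf_eq_of_isConj hm, ht]
  rcases four_cases hmo with h | h
  · exact Or.inl (hm.trans (MonoidHom.map_isConj ι h))
  · exact Or.inr (hm.trans (MonoidHom.map_isConj ι h))

theorem card_involutions_one (hι : Function.Injective ι) (hS : ι.range = (S : Subgroup G))
    (h : IsConj (ι (zS k)) (ι (bS k))) :
    Nat.card {C : ConjClasses G // ∃ t : G, orderOf t = 2 ∧ ConjClasses.mk t = C} = 1 :=
  card_classes_eq_one (a := ι (zS k)) (by rw [orderOf_inj ι hι, orderOf_zS]) fun _ ht =>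
    (involution_class hι hS ht).elim id fun h' => h'.trans h.symm

theorem card_involutions_two (hι : Function.Injective ι) (hS : ι.range = (S : Subgroup G))
    (h : ¬ IsConj (ι (zS k)) (ι (bS k))) :
    Nat.card {C : ConjClasses G // ∃ t : G, orderOf t = 2 ∧ ConjClasses.mk t = C} = 2 :=
  card_classes_eq_two (MulEquiv.refl G) 2 (by rw [orderOf_inj ι hι, orderOf_zS])
    (by rw [orderOf_inj ι hι, orderOf_bS]) h fun _ ht => involution_class hι hS ht

theorem card_fours_one (hι : Function.Injective ι) (hS : ι.range = (S : Subgroup G))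
    (h : IsConj (ι (qS k)) (ι (dS k))) :
    Nat.card {C : ConjClasses G // ∃ t : G, orderOf t = 4 ∧ ConjClasses.mk t = C} = 1 :=
  card_classes_eq_one (a := ι (qS k)) (by rw [orderOf_inj ι hι, orderOf_qS]) fun _ ht =>
    (four_class hι hS ht).elim id fun h' => h'.trans h.symm

theorem card_fours_two (hι : Function.Injective ι) (hS : ι.range = (S : Subgroup G))
    (h : ¬ IsConj (ι (qS k)) (ι (dS k))) :
    Nat.card {C : ConjClasses G // ∃ t : G, orderOf t = 4 ∧ ConjClasses.mk t = C} = 2 :=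
  card_classes_eq_two (MulEquiv.refl G) 4 (by rw [orderOf_inj ι hι, orderOf_qS])
    (by rw [orderOf_inj ι hι, orderOf_dS]) h fun _ ht => four_class hι hS ht

/-- Roots of the central involution and of the rotation of order 4. -/
theorem exists_sqrt : ∃ u : Sd k, u * u = qS k ∧ qS k * qS k = zS k :=
  ⟨⟨(2 : ZMod (2 ^ (k + 3))) ^ k, false⟩, by
    constructor
    · ext <;> simp [qS]; ring
    · ext <;> simp [qS, zS]
      have := two_q (k := k); simp only [qS] at this
      linear_combination this⟩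

theorem mem_of_conj {K : Subgroup G} [hK : K.Normal] {x y : G} (h : IsConj x y) (hx : x ∈ K) : y ∈ K := by
  obtain ⟨g, rfl⟩ := isConj_iff.mp h
  exact hK.conj_mem x hx g

/-- Both fusions: no subgroup of index two. -/
theorem no_index_two (hS : ι.range = (S : Subgroup G))
    (hb : IsConj (ι (zS k)) (ι (bS k))) (hd : IsConj (ι (qS k)) (ι (dS k))) (H : Subgroup G) :
    H.index ≠ 2 := by
  intro h
  haveI := Subgroup.normal_of_index_eq_two h
  obtain ⟨u, hu, hz⟩ := exists_sqrt (k := k)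
  have hq : ι (qS k) ∈ H := by rw [← hu, map_mul]; exact Subgroup.mul_self_mem_of_index_two h _
  have hz' : ι (zS k) ∈ H := by rw [← hz, map_mul]; exact H.mul_mem hq hq
  have hle : (S : Subgroup G) ≤ H := by
    rw [← hS, MonoidHom.range_eq_map, ← bd_generate, MonoidHom.map_closure, Subgroup.closure_le]
    rintro _ ⟨m, rfl | rfl, rfl⟩
    · exact mem_of_conj hb hz'
    · exact mem_of_conj hd hq
  haveI : Fact (Nat.Prime 2) := ⟨Nat.prime_two⟩
  have := Subgroup.index_dvd_of_le hle
  rw [h] at this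
  exact S.not_dvd_index this

/-- The parity of the first coordinate plus the second. -/
def chiB (k : ℕ) : Sd k →* Multiplicative (ZMod 2) :=
  MonoidHom.mk' (fun a => Multiplicative.ofAdd (par k a.i + cond a.e 1 0)) (by
    rintro ⟨a, e⟩ ⟨b, f⟩
    rw [← ofAdd_add]
    congr 1
    have hc : par k (c k) = 1 := by
      obtain ⟨m, hm⟩ := even_half (k := k)
      rw [c, hm, map_sub, par_two_mul, map_one]; decide
    cases e <;> cases f <;> simp [map_add, map_mul, hc] <;> ring_nf <;> simp [show (2 : ZMod 2) = 0 from rfl])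

/-- The parity of the first coordinate. -/
def chiD (k : ℕ) : Sd k →* Multiplicative (ZMod 2) :=
  MonoidHom.mk' (fun a => Multiplicative.ofAdd (par k a.i)) (by
    rintro ⟨a, e⟩ ⟨b, f⟩
    rw [← ofAdd_add]
    congr 1
    have hc : par k (c k) = 1 := by
      obtain ⟨m, hm⟩ := even_half (k := k)
      rw [c, hm, map_sub, par_two_mul, map_one]; decide
    cases e <;> cases f <;> simp [map_add, map_mul, hc])

theorem chiB_apply (a : Sd k) : chiB k a = Multiplicative.ofAdd (par k a.i + cond a.e 1 0) := rfl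
theorem chiD_apply (a : Sd k) : chiD k a = Multiplicative.ofAdd (par k a.i) := rfl

theorem ker_chiB : (chiB k).ker = D (k + 2) (by omega) 1 := by
  ext a
  rw [MonoidHom.mem_ker, chiB_apply, ofAdd_eq_one, mem_D_top, even_iff_par, map_sub]
  cases a.e <;> simp only [cond_true, cond_false, map_zero, map_one, sub_zero, add_zero]
  generalize par k a.i = u
  revert u; decide

theorem ker_chiD : (chiD k).ker = D (k + 2) (by omega) 0 := by
  ext a
  rw [MonoidHom.mem_ker, chiD_apply, ofAdd_eq_one, mem_D_top, even_iff_par, map_sub]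
  cases a.e <;> simp

theorem gen_two {a : Multiplicative (ZMod 2)} (ha : a ≠ 1) : ∀ x, x ∈ Subgroup.zpowers a := by
  intro x
  have : ∀ a x : Multiplicative (ZMod 2), a ≠ 1 → x = 1 ∨ x = a := by decide
  rcases this a x ha with rfl | rfl
  · exact one_mem _
  · exact Subgroup.mem_zpowers _

theorem isPGroup_two : IsPGroup 2 (Multiplicative (ZMod 2)) :=
  IsPGroup.of_card (n := 1) (by rw [Nat.card_congr Multiplicative.toAdd, Nat.card_zmod, pow_one])

theorem card_two : Nat.card (Multiplicative (ZMod 2)) = 2 := by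
  rw [Nat.card_congr Multiplicative.toAdd, Nat.card_zmod]

theorem pow_odd_two (a : Multiplicative (ZMod 2)) {n : ℕ} (hn : Odd n) : a ^ n = a := by
  obtain ⟨j, rfl⟩ := hn
  rw [pow_succ, pow_mul, show a ^ 2 = 1 by revert a; decide, one_pow, one_mul]

theorem sq_two (a : Multiplicative (ZMod 2)) : a ^ 2 = 1 := by revert a; decide

theorem chi_conj (χ : Sd k →* Multiplicative (ZMod 2)) {m m' : Sd k} (h : IsConj m m') : χ m = χ m' := by
  obtain ⟨s, rfl⟩ := isConj_iff.mp h
  rw [map_mul, map_mul, map_inv, mul_inv_cancel_comm]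

/-- The index-two subgroup avoiding the noncentral involutions. -/
theorem exists_kernel_b (hι : Function.Injective ι) (hS : ι.range = (S : Subgroup G))
    (h : ¬ IsConj (ι (zS k)) (ι (bS k))) :
    ∃ τ : G →* Multiplicative (ZMod 2), Function.Surjective τ ∧ τ.ker.index = 2 ∧ τ (ι (bS k)) ≠ 1 := by
  haveI : Fact (Nat.Prime 2) := ⟨Nat.prime_two⟩
  have hb1 : chiB k (bS k) ≠ 1 := by rw [chiB_apply]; simp [bS]
  obtain ⟨τ, h1, -, h3, h4⟩ := exists_kernel S ι hι hS isPGroup_two (chiB k) (bS k) (gen_two hb1) (by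
    intro j u m hm
    have hb2 : bS k * bS k = 1 := by ext <;> simp [bS]
    rcases Nat.even_or_odd j with ⟨i, rfl⟩ | hj
    · have hp : bS k ^ (i + i) = 1 := by rw [← two_mul, pow_mul, pow_two, hb2, one_pow]
      rw [← map_pow, hp, map_one, mul_one, mul_inv_cancel] at hm
      rw [hι (hm.trans (map_one ι).symm), map_one, ← map_pow, hp, map_one]
    · have hp : bS k ^ j = bS k := by
        obtain ⟨i, rfl⟩ := hj
        rw [pow_succ, pow_mul, pow_two, hb2, one_pow, one_mul]
      rw [← map_pow, hp] at hm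
      rw [← map_pow, hp]
      have hc : IsConj (ι (bS k)) (ι m) := isConj_iff.mpr ⟨u, hm.symm⟩
      have hmo : orderOf m = 2 := by rw [← orderOf_inj ι hι, ← orderOf_eq_of_isConj hc, orderOf_inj ι hι, orderOf_bS]
      rcases involution_cases hmo with rfl | hmb
      · exact absurd hc.symm h
      · exact chi_conj _ hmb)
  refine ⟨τ, h1, by rw [h3, card_two], ?_⟩
  rw [h4, pow_odd_two _ (Nat.not_even_iff_odd.mp fun he => S.not_dvd_index he.two_dvd)]
  exact hb1

/-- The index-two subgroup avoiding the reflections of order 4. -/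
theorem exists_kernel_d (hι : Function.Injective ι) (hS : ι.range = (S : Subgroup G))
    (h : ¬ IsConj (ι (qS k)) (ι (dS k))) :
    ∃ τ : G →* Multiplicative (ZMod 2), Function.Surjective τ ∧ τ.ker.index = 2 ∧ τ (ι (dS k)) ≠ 1 := by
  haveI : Fact (Nat.Prime 2) := ⟨Nat.prime_two⟩
  have hd1 : chiD k (dS k) ≠ 1 := by rw [chiD_apply]; simp [dS]
  obtain ⟨τ, h1, -, h3, h4⟩ := exists_kernel S ι hι hS isPGroup_two (chiD k) (dS k) (gen_two hd1) (by
    intro j u m hm
    rw [← map_pow] at hm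
    have hc : IsConj (ι (dS k ^ j)) (ι m) := isConj_iff.mpr ⟨u, hm.symm⟩
    have hord : orderOf m = orderOf (dS k ^ j) := by
      rw [← orderOf_inj ι hι, ← orderOf_eq_of_isConj hc, orderOf_inj ι hι]
    have hsq : dS k ^ 2 = zS k := by
      ext <;> simp [pow_two, dS, zS, c]
    rcases Nat.even_or_odd j with ⟨i, rfl⟩ | hj
    · rw [← two_mul, pow_mul, hsq] at hc hord
      rw [← two_mul, pow_mul, sq_two (chiD k (dS k)), one_pow]
      rcases Nat.even_or_odd i with ⟨l, rfl⟩ | ⟨l, rfl⟩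
      · rw [← two_mul, pow_mul, ← orderOf_zS (k := k), pow_orderOf_eq_one, one_pow, map_one] at hc
        rw [hι ((isConj_one_right.mp hc).trans (map_one ι).symm), map_one]
      · rw [pow_succ, pow_mul, show zS k ^ 2 = 1 from orderOf_zS (k := k) ▸ pow_orderOf_eq_one _, one_pow,
          one_mul, orderOf_zS] at hord
        rcases involution_cases hord with rfl | hmb
        · rw [chiD_apply, zS, (even_iff_par).mp even_half, ofAdd_zero]
        · rw [chi_conj _ hmb, chiD_apply]; simp [bS]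
    · obtain ⟨i, rfl⟩ := hj
      have h4 : dS k ^ (2 * i + 1) = dS k ∨ dS k ^ (2 * i + 1) = dS k * zS k := by
        rw [pow_succ', pow_mul, hsq]
        rcases Nat.even_or_odd i with ⟨l, rfl⟩ | ⟨l, rfl⟩
        · left; rw [← two_mul, pow_mul, show zS k ^ 2 = 1 from orderOf_zS (k := k) ▸ pow_orderOf_eq_one _, one_pow, mul_one]
        · right; rw [pow_succ, pow_mul, show zS k ^ 2 = 1 from orderOf_zS (k := k) ▸ pow_orderOf_eq_one _, one_pow, one_mul]
      have hdc : IsConj (dS k) (dS k ^ (2 * i + 1)) := by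
        rcases h4 with e | e <;> rw [e]
        exact (isConj_dS (a := dS k * zS k) (by simp [dS, zS]) (by
          obtain ⟨l, hl⟩ := even_half (k := k)
          refine ⟨c k * l, ?_⟩
          simp [dS, zS, hl]; ring)).symm
      rw [← map_pow, ← chi_conj _ hdc]
      have hmo : orderOf m = 4 := by rw [hord, ← orderOf_eq_of_isConj hdc, orderOf_dS]
      rcases four_cases hmo with hq | hd
      · exact absurd (((MonoidHom.map_isConj ι hdc).trans hc).trans (MonoidHom.map_isConj ι hq)).symm h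
      · exact chi_conj _ hd)
  refine ⟨τ, h1, by rw [h3, card_two], ?_⟩
  rw [h4, pow_odd_two _ (Nat.not_even_iff_odd.mp fun he => S.not_dvd_index he.two_dvd)]
  exact hd1

theorem tau_q_z (τ : G →* Multiplicative (ZMod 2)) :
    τ (ι (qS k)) = 1 ∧ τ (ι (zS k)) = 1 := by
  obtain ⟨u, hu, hz⟩ := exists_sqrt (k := k)
  have hsq : ∀ a : Multiplicative (ZMod 2), a * a = 1 := by decide
  exact ⟨by rw [← hu, map_mul, map_mul, hsq], by rw [← hz, map_mul, map_mul, hsq]⟩

theorem tau_conj {A : Type*} [CommGroup A] (τ : G →* A) {x y : G} (h : IsConj x y) : τ x = τ y := by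
  obtain ⟨g, rfl⟩ := isConj_iff.mp h
  rw [map_mul, map_mul, map_inv, mul_inv_cancel_comm]

/-- The intersection of the Sylow subgroup with a kernel. -/
theorem inf_ker (hS : ι.range = (S : Subgroup G)) {A : Type*} [Group A] (τ : G →* A) :
    (S : Subgroup G) ⊓ τ.ker = (τ.comp ι).ker.map ι := by
  ext x
  constructor
  · rintro ⟨hx, hk⟩
    obtain ⟨m, rfl⟩ := hS.symm ▸ hx
    exact ⟨m, hk, rfl⟩
  · rintro ⟨m, hm, rfl⟩
    exact ⟨hS ▸ ⟨m, rfl⟩, hm⟩

theorem comp_eq_chi (τ : G →* Multiplicative (ZMod 2)) (χ : Sd k →* Multiplicative (ZMod 2))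
    (hb : τ (ι (bS k)) = χ (bS k)) (hd : τ (ι (dS k)) = χ (dS k)) : τ.comp ι = χ := by
  refine MonoidHom.eq_of_eqOn_dense bd_generate ?_
  rintro m (rfl | rfl)
  · exact hb
  · exact hd

theorem eq_of_ne_one {a b : Multiplicative (ZMod 2)} (ha : a ≠ 1) (hb : b ≠ 1) : a = b := by
  revert a b; decide

/-- The case of quaternion type. -/
theorem case_quaternion (hι : Function.Injective ι) (hS : ι.range = (S : Subgroup G))
    (hb : ¬ IsConj (ι (zS k)) (ι (bS k))) (hd : IsConj (ι (qS k)) (ι (dS k))) :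
    ∃ K : Subgroup G, K.Normal ∧ K.index = 2 ∧
      (∀ P : Sylow 2 ↥K, ∃ m : ℕ, 1 ≤ m ∧ Nonempty ((P : Subgroup ↥K) ≃* QuaternionGroup (2 ^ m))) ∧
      (∀ H : Subgroup ↥K, H.index ≠ 2) := by
  obtain ⟨τ, -, hidx, hτb⟩ := exists_kernel_b hι hS hb
  obtain ⟨hτq, hτz⟩ := tau_q_z (k := k) (ι := ι) τ
  have hτd : τ (ι (dS k)) = 1 := (tau_conj τ hd).symm.trans hτq
  have hchi : τ.comp ι = chiB k := comp_eq_chi τ _
    (eq_of_ne_one hτb (by rw [chiB_apply]; simp [bS])) (hτd.trans (by rw [chiB_apply]; simp [dS]; decide))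
  have hY : (S : Subgroup G) ⊓ τ.ker = (D (k + 2) (by omega) 1 : Subgroup (Sd k)).map ι := by
    rw [inf_ker hS, hchi, ker_chiB]
  refine ⟨τ.ker, inferInstance, hidx, fun P => ?_, fun L hL => ?_⟩
  · obtain ⟨e⟩ := sylow_of_normal S τ.ker P
    exact ⟨k + 1, by omega, ⟨((e.trans (MulEquiv.subgroupCongr hY)).trans
      ((D (k + 2) (by omega) 1 : Subgroup (Sd k)).equivMapOfInjective ι hι).symm).trans equivQuaternion.symm⟩⟩
  -- an odd element moving the quaternion group
  have h6 : (((D 2 (by omega) 1 : Subgroup (Sd k)).map ι) ⊔ Subgroup.centralizer ((D 2 (by omega) 1 : Subgroup (Sd k)).map ι : Set G)).relIndex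
        (Subgroup.normalizer ((D 2 (by omega) 1 : Subgroup (Sd k)).map ι : Set G)) = 6 :=
    ((index_Q hι hS).resolve_left fun h => h.2 hd).1
  obtain ⟨n, hnN, hno, hnC⟩ := exists_odd_of_six (localData_Q hι hS) h6
  set L' := L.map τ.ker.subtype with hL'
  have hmemK : ∀ m, m ∈ (D (k + 2) (by omega) 1 : Subgroup (Sd k)) → ι m ∈ τ.ker := fun m hm => by
    have : ι m ∈ (S : Subgroup G) ⊓ τ.ker := hY ▸ Subgroup.mem_map_of_mem _ hm
    exact this.2
  have hD2 : ∀ i : ZMod (2 ^ (k + 3)), (D 2 (by omega) i : Subgroup (Sd k)) ≤ D (k + 2) (by omega) i := by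
    intro i a ha
    rw [mem_D] at ha ⊢
    linear_combination (2 : ZMod (2 ^ (k + 3))) ^ k * ha
  have hrefl : ∀ i : ZMod (2 ^ (k + 3)), (∃ l, i = 2 * l + 1) → ι ⟨i, true⟩ ∈ L' := by
    intro i hi
    obtain ⟨l, hl⟩ := hi
    obtain ⟨s, hs⟩ := map_conj_D (k := k) (m := 2) (hm := by omega) (i := 1) (i' := i) (by omega) ⟨l, by rw [hl]; ring⟩
    set X := (D 2 (by omega) i : Subgroup (Sd k)).map ι with hX
    have hXmap : X = ((D 2 (by omega) 1 : Subgroup (Sd k)).map ι).map (MulAut.conj (ι s)).toMonoidHom := by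
      rw [hX, ← hs, Subgroup.map_map, Subgroup.map_map]; congr 1; ext x; simp
    set n' := ι s * n * (ι s)⁻¹ with hn'
    have hn'N : n' ∈ Subgroup.normalizer (X : Set G) := by
      rw [hXmap, ← map_normalizer]; exact ⟨n, hnN, rfl⟩
    have hn'o : Odd (orderOf n') := by rw [hn', ← MulAut.conj_apply, MulEquiv.orderOf_eq]; exact hno
    have hn'C : n' ∉ Subgroup.centralizer (X : Set G) := by
      rw [hXmap]
      intro h
      exact hnC ((mem_centralizer_map (MulAut.conj (ι s))).mpr h)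
    have hn'K : n' ∈ τ.ker := map_eq_one_of_odd isPGroup_two τ hn'o
    have hXK : X ≤ τ.ker := by
      rintro _ ⟨m, hm, rfl⟩
      refine hmemK m ?_
      rw [← D_eq_of (m := k + 2) (i' := i) (i := 1) (by
        have h0 : (2 : ZMod (2 ^ (k + 3))) ^ (k + 2) * 2 = 0 := by
          rw [← pow_succ]; exact_mod_cast ZMod.natCast_self (2 ^ (k + 3))
        rw [hl]; linear_combination l * h0)]
      exact hD2 i hm
    have hqX : ι (qS k) ∈ X := Subgroup.mem_map_of_mem _ (by
      rw [mem_D]; simp only [qS, cond_false, sub_zero]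
      have := two_q (k := k); simp only [qS] at this
      linear_combination 2 * this + (two_half (k := k)))
    have hiX : ι ⟨i, true⟩ ∈ X := Subgroup.mem_map_of_mem _ refl_mem_D
    have hXp : IsPGroup 2 X := (isPGroup_sd.to_subgroup _).map ι
    have hcom : ∀ x ∈ X, n' * x * n'⁻¹ * x⁻¹ ∈ L' := fun x hx => commutator_mem_map hL hn'K (hXK hx)
    have hcard : Nat.card X = 8 := by rw [hX, card_map_inj ι hι, card_D (by omega)]; norm_num
    have hnot : ∀ u w : Sd k, u.e = false → w.e = true → ι w ∉ Subgroup.zpowers (ι u) := by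
      intro u w hu hw h
      rw [← MonoidHom.map_zpowers] at h
      obtain ⟨y, hy, hye⟩ := h
      have h2 : Subgroup.zpowers u ≤ rot k := Subgroup.zpowers_le.mpr hu
      rw [hι hye] at hy
      rw [show w.e = false from mem_rot.mp (h2 hy)] at hw
      exact Bool.noConfusion hw
    by_cases hq : ι (qS k) ∈ L'
    · refine mem_of_commutators hXp hn'N hn'o hn'C hcom hqX hiX hq (cover_of_card hqX hiX (hnot _ _ rfl rfl) ?_)
      rw [hcard, orderOf_inj ι hι, orderOf_qS]
    · by_contra hni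
      apply hq
      have hc : ι (qS k * ⟨i, true⟩) ∈ L' := by
        obtain ⟨a, ha⟩ : ∃ a : τ.ker, (a : G) = ι (qS k) := ⟨⟨_, hXK hqX⟩, rfl⟩
        obtain ⟨b, hb⟩ : ∃ b : τ.ker, (b : G) = ι ⟨i, true⟩ := ⟨⟨_, hXK hiX⟩, rfl⟩
        refine ⟨a * b, ?_, by simp [ha, hb]⟩
        exact (Subgroup.mul_mem_iff_of_index_two hL).mpr (iff_of_false (fun h => hq ⟨a, h, ha⟩) (fun h => hni ⟨b, h, hb⟩))
      have hcX : ι (qS k * ⟨i, true⟩) ∈ X := by rw [map_mul]; exact X.mul_mem hqX hiX
      have ho4 : orderOf (qS k * ⟨i, true⟩ : Sd k) = 4 := by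
        obtain ⟨m, hm⟩ := q_even (k := k)
        refine orderOf_four_iff.mpr (Or.inr ⟨by simp [qS], m + l, ?_⟩)
        simp only [mul_i, show (qS k).e = false from rfl, cond_false]
        rw [hm, hl]; ring
      refine mem_of_commutators hXp hn'N hn'o hn'C hcom hcX hqX hc (cover_of_card hcX hqX ?_ ?_)
      · intro h
        have hp : ∀ x ∈ Subgroup.zpowers (ι (qS k * ⟨i, true⟩)), x = ι (qS k) → False := by
          intro x hx hxq
          subst hxq
          rw [← MonoidHom.map_zpowers] at hx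
          obtain ⟨y, hy, hye⟩ := hx
          rw [hι hye] at hy
          have h2 : Subgroup.zpowers (qS k * ⟨i, true⟩ : Sd k) ≤ D 1 le_rfl ((qS k).i + i) :=
            Subgroup.zpowers_le.mpr (by rw [mem_D]; simp [qS])
          have h3 := h2 hy
          rw [mem_D, show (qS k).e = false from rfl, cond_false, sub_zero, pow_one, two_q] at h3
          exact half_ne_zero h3
        exact hp _ h rfl
      · rw [hcard, orderOf_inj ι hι, ho4]
  refine false_of_inf_le S τ.ker L hL ?_
  rw [hY]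
  rintro _ ⟨⟨a, f⟩, ha, rfl⟩
  obtain ⟨m, hm⟩ := mem_D_top.mp ha
  cases f <;> simp only [cond_true, cond_false, sub_zero] at hm
  · obtain ⟨v, hv⟩ := even_half (k := k)
    have e : (⟨a, false⟩ : Sd k) = ⟨1, true⟩ * ⟨1 + 2 * (v - m), true⟩ := by
      ext <;> simp
      rw [hm, c]
      have h0 : (half k : ZMod (2 ^ (k + 3))) * (1 + 2 * (v - m)) = half k := by
        linear_combination half_mul_of_odd (v - m)
      linear_combination -h0 - hv + 2 * (0 : ZMod (2 ^ (k + 3)))
    rw [e, map_mul]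
    exact L'.mul_mem (hrefl _ ⟨0, by ring⟩) (hrefl _ ⟨v - m, by ring⟩)
  · exact hrefl a ⟨m, by linear_combination hm⟩

/-- The case of dihedral type. -/
theorem case_dihedral (hι : Function.Injective ι) (hS : ι.range = (S : Subgroup G))
    (hb : IsConj (ι (zS k)) (ι (bS k))) (hd : ¬ IsConj (ι (qS k)) (ι (dS k))) :
    ∃ K : Subgroup G, K.Normal ∧ K.index = 2 ∧
      (∀ P : Sylow 2 ↥K, ∃ m : ℕ, Nonempty ((P : Subgroup ↥K) ≃* DihedralGroup m)) ∧
      (∀ H : Subgroup ↥K, H.index ≠ 2) := by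
  obtain ⟨τ, -, hidx, hτd⟩ := exists_kernel_d hι hS hd
  obtain ⟨hτq, hτz⟩ := tau_q_z (k := k) (ι := ι) τ
  have hτb : τ (ι (bS k)) = 1 := (tau_conj τ hb).symm.trans hτz
  have hchi : τ.comp ι = chiD k := comp_eq_chi τ _
    (hτb.trans (by rw [chiD_apply]; simp [bS])) (eq_of_ne_one hτd (by rw [chiD_apply]; simp [dS]))
  have hY : (S : Subgroup G) ⊓ τ.ker = (D (k + 2) (by omega) 0 : Subgroup (Sd k)).map ι := by
    rw [inf_ker hS, hchi, ker_chiD]
  refine ⟨τ.ker, inferInstance, hidx, fun P => ?_, fun L hL => ?_⟩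
  · obtain ⟨e⟩ := sylow_of_normal S τ.ker P
    exact ⟨_, ⟨((e.trans (MulEquiv.subgroupCongr hY)).trans
      ((D (k + 2) (by omega) 0 : Subgroup (Sd k)).equivMapOfInjective ι hι).symm).trans equivDihedral.symm⟩⟩
  have h6 : (((D 1 le_rfl 0 : Subgroup (Sd k)).map ι) ⊔ Subgroup.centralizer ((D 1 le_rfl 0 : Subgroup (Sd k)).map ι : Set G)).relIndex
        (Subgroup.normalizer ((D 1 le_rfl 0 : Subgroup (Sd k)).map ι : Set G)) = 6 :=
    ((index_T hι hS).resolve_left fun h => h.2 hb).1
  obtain ⟨n, hnN, hno, hnC⟩ := exists_odd_of_six (localData_T hι hS) h6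
  set L' := L.map τ.ker.subtype with hL'
  have hzL : ι (zS k) ∈ L' := by
    obtain ⟨u, -, hz⟩ := exists_sqrt (k := k)
    rw [← hz, map_mul]
    exact sq_mem_map hL hτq
  have hrefl : ∀ i : ZMod (2 ^ (k + 3)), (∃ l, i = 2 * l) → ι ⟨i, true⟩ ∈ L' := by
    intro i hi
    obtain ⟨l, hl⟩ := hi
    obtain ⟨s, hs⟩ := map_conj_D (k := k) (m := 1) (hm := le_rfl) (i := 0) (i' := i) (by omega) ⟨l, by rw [hl]; ring⟩
    set X := (D 1 le_rfl i : Subgroup (Sd k)).map ι with hX
    have hXmap : X = ((D 1 le_rfl 0 : Subgroup (Sd k)).map ι).map (MulAut.conj (ι s)).toMonoidHom := by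
      rw [hX, ← hs, Subgroup.map_map, Subgroup.map_map]; congr 1; ext x; simp
    set n' := ι s * n * (ι s)⁻¹ with hn'
    have hn'N : n' ∈ Subgroup.normalizer (X : Set G) := by
      rw [hXmap, ← map_normalizer]; exact ⟨n, hnN, rfl⟩
    have hn'o : Odd (orderOf n') := by rw [hn', ← MulAut.conj_apply, MulEquiv.orderOf_eq]; exact hno
    have hn'C : n' ∉ Subgroup.centralizer (X : Set G) := by
      rw [hXmap]
      intro h
      exact hnC ((mem_centralizer_map (MulAut.conj (ι s))).mpr h)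
    have hn'K : n' ∈ τ.ker := map_eq_one_of_odd isPGroup_two τ hn'o
    have hXK : X ≤ τ.ker := by
      rintro _ ⟨⟨a, f⟩, hm, rfl⟩
      have : ι ⟨a, f⟩ ∈ (S : Subgroup G) ⊓ τ.ker := by
        rw [hY]; refine Subgroup.mem_map_of_mem _ ?_
        rw [SetLike.mem_coe, mem_D, pow_one] at hm
        rw [mem_D_top]
        obtain ⟨v, hv⟩ := even_half (k := k)
        cases f <;> simp only [cond_true, cond_false, sub_zero] at hm ⊢
        · rcases two_cancel hm with h | h
          · exact ⟨0, by rw [h]; ring⟩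
          · exact ⟨v, by rw [h, hv]⟩
        · rcases two_cancel hm with h | h
          · exact ⟨l, by rw [sub_eq_zero.mp h, hl]⟩
          · exact ⟨l + v, by rw [sub_eq_iff_eq_add.mp h, hv, hl]; ring⟩
      exact this.2
    have hzX : ι (zS k) ∈ X := Subgroup.mem_map_of_mem _ (by rw [mem_D]; simp [zS, two_half])
    have hiX : ι ⟨i, true⟩ ∈ X := Subgroup.mem_map_of_mem _ refl_mem_D
    refine mem_of_commutators ((isPGroup_sd.to_subgroup _).map ι) hn'N hn'o hn'C
      (fun x hx => commutator_mem_map hL hn'K (hXK hx)) hzX hiX hzL (cover_of_card hzX hiX ?_ ?_)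
    · intro h
      rw [← MonoidHom.map_zpowers] at h
      obtain ⟨y, hy, hye⟩ := h
      rw [hι hye] at hy
      have h2 : Subgroup.zpowers (zS k) ≤ rot k := Subgroup.zpowers_le.mpr rfl
      exact Bool.noConfusion (mem_rot.mp (h2 hy))
    · rw [card_map_inj ι hι, card_D (by omega), orderOf_inj ι hι, orderOf_zS]; norm_num
  refine false_of_inf_le S τ.ker L hL ?_
  rw [hY]
  rintro _ ⟨⟨a, f⟩, ha, rfl⟩
  obtain ⟨m, hm⟩ := mem_D_top.mp ha
  cases f <;> simp only [cond_true, cond_false, sub_zero] at hm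
  · have e : (⟨a, false⟩ : Sd k) = ⟨0, true⟩ * ⟨2 * (-m), true⟩ := by
      ext <;> simp
      rw [hm, c]
      linear_combination m * (two_half (k := k))
    rw [e, map_mul]
    exact L'.mul_mem (hrefl _ ⟨0, by ring⟩) (hrefl _ ⟨-m, by ring⟩)
  · exact hrefl a ⟨m, hm⟩

theorem parity_key (x y p q : Multiplicative (ZMod 2)) (j : ℕ) (g : Bool) (hy : y ≠ 1) (hp : p ≠ 1)
    (h1 : (x * y) ^ (j % 2) * cond g y 1 = 1) (h2 : (p * q) ^ (j % 2) * cond g q 1 = 1) :
    g = false := by
  cases g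
  · rfl
  · exfalso
    rw [cond_true] at h1 h2
    rcases Nat.mod_two_eq_zero_or_one j with h | h
    · rw [h, pow_zero, one_mul] at h1; exact hy h1
    · rw [h, pow_one, mul_assoc, ← pow_two, sq_two, mul_one] at h2; exact hp h2

/-- The nilpotent case. -/
theorem case_nilpotent (hι : Function.Injective ι) (hS : ι.range = (S : Subgroup G))
    (hb : ¬ IsConj (ι (zS k)) (ι (bS k))) (hd : ¬ IsConj (ι (qS k)) (ι (dS k))) :
    Cfsg.HasNormalPComplement 2 G := by
  haveI : Fact (Nat.Prime 2) := ⟨Nat.prime_two⟩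
  obtain ⟨τ, -, -, hτb⟩ := exists_kernel_b hι hS hb
  obtain ⟨σ, -, -, hσd⟩ := exists_kernel_d hι hS hd
  obtain ⟨hτq, hτz⟩ := tau_q_z (k := k) (ι := ι) τ
  let ρ : G →* Multiplicative (ZMod 2) × Multiplicative (ZMod 2) := τ.prod σ
  have hcyc : ∀ a : Sd k, a ∈ (ρ.comp ι).ker → a ∈ Subgroup.zpowers (⟨1, false⟩ : Sd k) := by
    intro a ha
    have h1 : τ (ι a) = 1 := congrArg Prod.fst ha
    have h2 : σ (ι a) = 1 := congrArg Prod.snd ha
    obtain ⟨u, f⟩ := a
    -- the values on the generators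
    have hr : ∀ j : ℕ, τ (ι (⟨1, false⟩ ^ j)) = (τ (ι (dS k)) * τ (ι (bS k))) ^ j ∧
        σ (ι (⟨1, false⟩ ^ j)) = (σ (ι (dS k)) * σ (ι (bS k))) ^ j := by
      intro j
      have e : (⟨1, false⟩ : Sd k) = dS k * bS k := by ext <;> simp [dS, bS]
      constructor <;> rw [e, map_pow, map_pow, map_mul, map_mul]
    have hu : (⟨u, f⟩ : Sd k) = ⟨1, false⟩ ^ u.val * (cond f (bS k) 1) := by
      rw [zpow_rot, mul_one, ZMod.natCast_rightInverse u]
      cases f <;> ext <;> simp [bS]
    rw [hu, map_mul, map_mul, (hr _).1] at h1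
    rw [hu, map_mul, map_mul, (hr _).2] at h2
    have hev : f = false := by
      have key := parity_key
      have hmod : ∀ (a : Multiplicative (ZMod 2)) (j : ℕ), a ^ j = a ^ (j % 2) := fun a j => by
        conv_lhs => rw [← Nat.mod_add_div j 2, pow_add, pow_mul, sq_two a, one_pow, mul_one]
      rw [hmod] at h1 h2
      have hcb : τ (ι (cond f (bS k) 1)) = cond f (τ (ι (bS k))) 1 := by cases f <;> simp
      have hcb2 : σ (ι (cond f (bS k) 1)) = cond f (σ (ι (bS k))) 1 := by cases f <;> simp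
      rw [hcb] at h1
      rw [hcb2] at h2
      exact key _ _ _ _ _ _ hτb hσd h1 h2
    subst hev
    refine ⟨(u.val : ℤ), ?_⟩
    show (⟨1, false⟩ : Sd k) ^ (u.val : ℤ) = _
    rw [zpow_natCast, zpow_rot]
    refine Sd.ext ?_ rfl
    rw [mul_one, ZMod.natCast_rightInverse u]
  set K := ρ.ker with hK
  have hPG : IsPGroup 2 (Multiplicative (ZMod 2) × Multiplicative (ZMod 2)) :=
    IsPGroup.of_card (n := 2) (by rw [Nat.card_prod, card_two]; norm_num)
  obtain ⟨P⟩ : Nonempty (Sylow 2 K) := inferInstance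
  obtain ⟨e⟩ := sylow_of_normal S K P
  haveI : IsCyclic (ρ.comp ι).ker :=
    (Subgroup.subgroupOfEquivOfLe (hcyc : (ρ.comp ι).ker ≤ _)).isCyclic.mp inferInstance
  haveI hPc : IsCyclic (P : Subgroup K) :=
    ((e.trans (MulEquiv.subgroupCongr (inf_ker hS ρ))).trans
      ((ρ.comp ι).ker.equivMapOfInjective ι hι).symm).isCyclic.mpr inferInstance
  have hKc : Cfsg.HasNormalPComplement 2 K := by
    by_cases hev : Even (Nat.card K)
    · exact CfsgLib.Transfer.hasNormalPComplement_of_normalizer_le_centralizer P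
        (hPc.normalizer_le_centralizer (P := P) ((Nat.minFac_eq_two_iff _).mpr hev.two_dvd))
    · exact CfsgLib.Transfer.hasNormalPComplement_of (N := ⊤) inferInstance
        (by rw [Subgroup.card_top]; exact Nat.coprime_two_right.mpr (Nat.not_even_iff_odd.mp hev)) (k := 0)
        (by rw [Subgroup.index_top, pow_zero])
  rw [CfsgLib.Transfer.hasNormalPComplement_iff_pResidual] at hKc ⊢
  refine Nat.Coprime.coprime_dvd_left ?_ hKc
  rw [← Subgroup.card_map_of_injective K.subtype_injective]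
  refine Subgroup.card_dvd_of_le ((Subgroup.closure_le _).mpr fun g hg => ?_)
  have hgK : g ∈ K := map_eq_one_of_odd hPG ρ (Nat.coprime_two_right.mp hg)
  refine ⟨⟨g, hgK⟩, CfsgLib.Transfer.mem_pResidual_of_coprime ?_, rfl⟩
  rw [Subgroup.orderOf_mk]; exact hg

/-- The centre is weakly closed when the involution classes differ. -/
theorem center_weaklyClosed (hι : Function.Injective ι) (hS : ι.range = (S : Subgroup G))
    (hb : ¬ IsConj (ι (zS k)) (ι (bS k))) :
    Cfsg.IsWeaklyClosed ((Subgroup.center (S : Subgroup G)).map (S : Subgroup G).subtype) (S : Subgroup G) := by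
  refine ⟨Subgroup.map_subtype_le _, fun g hg => ?_⟩
  set Z := (Subgroup.center (S : Subgroup G)).map (S : Subgroup G).subtype with hZ
  have hmem : ∀ x, x ∈ Z ↔ x = 1 ∨ x = ι (zS k) := by
    intro x
    constructor
    · rintro ⟨⟨x, hx⟩, hc, rfl⟩
      obtain ⟨m, rfl⟩ := hS.symm ▸ hx
      have hmc : m ∈ Subgroup.center (Sd k) := Subgroup.mem_center_iff.mpr fun y => hι (by
        rw [map_mul, map_mul]
        exact congrArg Subtype.val (Subgroup.mem_center_iff.mp hc ⟨ι y, hS ▸ ⟨y, rfl⟩⟩))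
      obtain ⟨he, hi | hi⟩ := mem_center_iff.mp hmc
      · exact Or.inl (show ι m = 1 by rw [show m = 1 from Sd.ext hi he, map_one])
      · exact Or.inr (show ι m = ι (zS k) by rw [show m = zS k from Sd.ext hi he])
    · rintro (rfl | rfl)
      · exact one_mem Z
      · refine ⟨⟨ι (zS k), hS ▸ ⟨_, rfl⟩⟩, Subgroup.mem_center_iff.mpr ?_, rfl⟩
        rintro ⟨y, hy⟩
        obtain ⟨m, rfl⟩ := hS.symm ▸ hy
        exact Subtype.ext (by simp only [Subgroup.coe_mul]; rw [← map_mul, ← map_mul, zS_central])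
  have hz : g * ι (zS k) * g⁻¹ = ι (zS k) := by
    obtain ⟨m, hm⟩ : g * ι (zS k) * g⁻¹ ∈ ι.range := hS ▸ hg ⟨_, (hmem _).mpr (Or.inr rfl), rfl⟩
    have hc : IsConj (ι (zS k)) (ι m) := isConj_iff.mpr ⟨g, hm.symm⟩
    have hmo : orderOf m = 2 := by rw [← orderOf_inj ι hι, ← orderOf_eq_of_isConj hc, orderOf_inj ι hι, orderOf_zS]
    rcases involution_cases hmo with rfl | h
    · exact hm.symm
    · exact absurd (hc.trans (MonoidHom.map_isConj ι h)) hb
  ext x
  constructor
  · rintro ⟨y, hy, rfl⟩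
    show g * y * g⁻¹ ∈ Z
    rcases (hmem y).mp hy with rfl | rfl
    · simp
    · rw [hz]; exact hy
  · intro hx
    refine ⟨x, hx, ?_⟩
    show g * x * g⁻¹ = x
    rcases (hmem x).mp hx with rfl | rfl
    · simp
    · exact hz

end CfsgLib.Invol.QDW.Sd
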