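import Mathlib
import Cfsg.Prelude.Def_CaseTheorems
import Cfsg.Agent.Lib.Invol.QDW.SdCases

/-!
# Local indices of an abstract quasi-dihedral Sylow 2-subgroup in model terms
-/

set_option autoImplicit false

namespace CfsgLib.Invol.QDW.Sd

open CfsgLib.Invol

variable {G : Type*} [Group G] [Finite G]

omit [Finite G] in
theorem klein_le_centralizer {T : Subgroup G} (hT : IsKleinFour T) : T ≤ Subgroup.centralizer (T : Set G) := by
  intro x hx
  refine Subgroup.mem_centralizer_iff.mpr fun y hy => ?_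
  haveI := hT
  have h := fun z : T => inv_eq_of_mul_eq_one_left (IsKleinFour.mul_self z)
  have hc : (⟨y, hy⟩ : T) * ⟨x, hx⟩ = ⟨x, hx⟩ * ⟨y, hy⟩ := by rw [← h (_ * _), mul_inv_rev, h, h]
  exact congrArg Subtype.val hc

/-- The model of the Sylow subgroup, with both local indices as dichotomies. -/
theorem setup (S : Sylow 2 G) (hS : Cfsg.IsQuasiDihedral (S : Subgroup G)) (T : Subgroup G) (hT : IsKleinFour T)
    (hTS : T ≤ S) (Q : Subgroup G) (hQS : Q ≤ S) (eQ : Q ≃* QuaternionGroup 2) :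
    ∃ (k : ℕ) (ι : Sd k →* G), Function.Injective ι ∧ ι.range = (S : Subgroup G) ∧
      (((Subgroup.centralizer (T : Set G)).relIndex (Subgroup.normalizer (T : Set G)) = 2 ∧
          ¬ IsConj (ι (zS k)) (ι (bS k))) ∨
        ((Subgroup.centralizer (T : Set G)).relIndex (Subgroup.normalizer (T : Set G)) = 6 ∧
          IsConj (ι (zS k)) (ι (bS k)))) ∧
      (((Q ⊔ Subgroup.centralizer (Q : Set G)).relIndex (Subgroup.normalizer (Q : Set G)) = 2 ∧
          ¬ IsConj (ι (qS k)) (ι (dS k))) ∨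
        ((Q ⊔ Subgroup.centralizer (Q : Set G)).relIndex (Subgroup.normalizer (Q : Set G)) = 6 ∧
          IsConj (ι (qS k)) (ι (dS k)))) := by
  obtain ⟨k, -, ⟨e⟩⟩ := exists_equiv_sd hS
  obtain ⟨ι, hι, hr⟩ := exists_embedding S e
  have hTr : T ≤ ι.range := hr ▸ hTS
  have hQr : Q ≤ ι.range := hr ▸ hQS
  have hT' : IsKleinFour (T.comap ι) := by
    haveI := hT
    let f := comapEquiv ι hι hTr
    exact ⟨by rw [Nat.card_congr f.toEquiv]; exact IsKleinFour.card_four,
      by rw [Monoid.exponent_eq_of_mulEquiv f]; exact IsKleinFour.exponent_two⟩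
  obtain ⟨i, ⟨m, hm⟩, eT⟩ := eq_D_one_of_klein hT'
  obtain ⟨j, ⟨l, hl⟩, eD⟩ := eq_D_two_of_quaternion ((comapEquiv ι hι hQr).trans eQ)
  refine ⟨k, ι, hι, hr, ?_, ?_⟩
  · have h1 : T ⊔ Subgroup.centralizer (T : Set G) = Subgroup.centralizer (T : Set G) :=
      sup_eq_right.mpr (klein_le_centralizer hT)
    rw [← h1, eq_map_comap S ι hr hTS, eT,
      index_model_conj ι (D := D 1 le_rfl 0) (map_conj_D (i' := i) (by omega) ⟨m, by rw [hm, sub_zero]⟩)]
    exact index_T hι hr
  · rw [eq_map_comap S ι hr hQS, eD,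
      index_model_conj ι (D := D 2 (by omega) 1) (map_conj_D (i' := j) (by omega) ⟨l, by rw [hl]; ring⟩)]
    exact index_Q hι hr

end CfsgLib.Invol.QDW.Sd
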