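import Mathlib
import Cfsg.Prelude.Def_CaseTheorems
import Cfsg.Agent.Lib.Invol.QDW.WrAut
import Cfsg.Agent.Lib.Invol.QDW.FusionTools

/-!
# Facts about the wreathed model needed for fusion
-/

set_option autoImplicit false

namespace CfsgLib.Invol.QDW.Wr

variable {r : ℕ}

local notation "𝕂" => ZMod (2 ^ (r + 2))
local notation "𝕎" => Wr (2 ^ (r + 2))

/-- The central involution. -/
def zW (r : ℕ) : Wr (2 ^ (r + 2)) := ⟨hf r, hf r, false⟩
/-- A noncentral involution of the base. -/
def cW (r : ℕ) : Wr (2 ^ (r + 2)) := ⟨hf r, 0, false⟩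
/-- The swap. -/
def tW (r : ℕ) : Wr (2 ^ (r + 2)) := ⟨0, 0, true⟩

theorem zW_mem_center : zW r ∈ Subgroup.center 𝕎 := (mem_center_iff two_le_N).mpr ⟨rfl, rfl⟩

theorem zW_central (a : 𝕎) : a * zW r = zW r * a := Subgroup.mem_center_iff.mp zW_mem_center a

theorem orderOf_zW : orderOf (zW r) = 2 :=
  orderOf_two_iff.mpr (Or.inl ⟨rfl, two_hf, two_hf, fun h => hf_ne_zero h.1⟩)

theorem orderOf_cW : orderOf (cW r) = 2 :=
  orderOf_two_iff.mpr (Or.inl ⟨rfl, two_hf, by simp [cW], fun h => hf_ne_zero h.1⟩)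

theorem orderOf_tW : orderOf (tW r) = 2 := orderOf_two_iff.mpr (Or.inr ⟨rfl, by simp [tW]⟩)

theorem involution_cases {m : 𝕎} (h : orderOf m = 2) :
    m = zW r ∨ IsConj m (cW r) ∨ IsConj m (tW r) := by
  obtain ⟨i, j, f⟩ := m
  rcases orderOf_two_iff.mp h with ⟨he, h1, h2, hne⟩ | ⟨he, hs⟩ <;> simp only at he <;> subst he
  · simp only at h1 h2 hne
    rcases two_cancel h1 with rfl | rfl <;> rcases two_cancel h2 with rfl | rfl
    · exact absurd ⟨rfl, rfl⟩ hne
    · right; left
      exact isConj_iff.mpr ⟨⟨0, 0, true⟩, by rw [conj_base]; rfl⟩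
    · exact Or.inr (Or.inl (IsConj.refl _))
    · exact Or.inl rfl
  · right; right
    obtain ⟨s, hs'⟩ := exists_conj_swap (r := r) 0 hs
    exact isConj_iff.mpr ⟨s, hs'⟩

theorem base_map_conj (s : 𝕎) {a : 𝕎} (ha : a.e = false) : (s * a * s⁻¹).e = false := by
  obtain ⟨i, j, e⟩ := a
  simp only at ha; subst ha
  rw [conj_base]

theorem e_eq_of_isConj {a b : 𝕎} (h : IsConj a b) : a.e = b.e := by
  obtain ⟨s, rfl⟩ := isConj_iff.mp h
  simp only [mul_e, inv_e]
  cases s.e <;> cases a.e <;> rfl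

theorem center_le_diffTwo : Subgroup.center 𝕎 ≤ diffTwo r := fun a ha => by
  rw [mem_diffTwo, ((mem_center_iff two_le_N).mp ha).2, sub_self, mul_zero]

theorem cW_mem_diffTwo : cW r ∈ diffTwo r := by
  rw [mem_diffTwo]; simp only [cW, sub_zero]; exact two_hf

theorem tW_mem_diffTwo : tW r ∈ diffTwo r := by rw [mem_diffTwo]; simp [tW]

theorem diffTwo_noncomm : ¬ IsMulCommutative (diffTwo r) := by
  intro h
  have h1 := congrArg (fun u : diffTwo r => (u : 𝕎).i)
    (mul_comm' (⟨cW r, cW_mem_diffTwo⟩ : diffTwo r) ⟨tW r, tW_mem_diffTwo⟩)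
  simp [cW, tW] at h1
  exact hf_ne_zero h1

theorem center_diffTwo : (Subgroup.center (diffTwo r)).map (diffTwo r).subtype = Subgroup.center 𝕎 := by
  refine le_antisymm (center_le_of_nonabelian diffTwo_noncomm) fun a ha => ?_
  exact ⟨⟨a, center_le_diffTwo ha⟩, Subgroup.mem_center_iff.mpr fun g =>
    Subtype.ext (Subgroup.mem_center_iff.mp ha g), rfl⟩

theorem diffTwo_normalizes_swapCentre {a x : 𝕎} (ha : a ∈ diffTwo r) (hx : x ∈ swapCentre r) :
    a * x * a⁻¹ ∈ swapCentre r := by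
  rw [mem_diffTwo] at ha
  obtain ⟨i, j, e⟩ := x
  rw [mem_swapCentre] at hx; simp only at hx; subst hx
  cases e
  · simp [conj_base, mem_swapCentre]
  · rw [conj_swap, mem_swapCentre]; cases a.e <;> simp <;> linear_combination ha

theorem swapCentre_le_diffTwo : swapCentre r ≤ diffTwo r := fun a ha => by
  rw [mem_swapCentre] at ha; rw [mem_diffTwo, ha, sub_self, mul_zero]

theorem card_swapCentre : Nat.card (swapCentre r) = 2 * 2 ^ (r + 2) := by
  rw [show Nat.card (swapCentre r) = Nat.card (Bool × 𝕂) from Nat.card_congr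
    { toFun := fun a => (a.1.e, a.1.i)
      invFun := fun p => ⟨⟨p.2, p.2, p.1⟩, rfl⟩
      left_inv := fun a => Subtype.ext (Wr.ext rfl a.2 rfl)
      right_inv := fun _ => rfl }, Nat.card_prod, Nat.card_zmod, Nat.card_eq_fintype_card, Fintype.card_bool]

/-- The class of a noncentral element of `diffTwo` modulo the centre. -/
def vClass (a : 𝕎) : Fin 3 := if a.e = false then 0 else if a.i = a.j then 1 else 2

theorem vClass_eq {a b : 𝕎} (ha : a ∈ diffTwo r) (hb : b ∈ diffTwo r) (ha' : a ∉ Subgroup.center 𝕎)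
    (hb' : b ∉ Subgroup.center 𝕎) (h : vClass a = vClass b) : a⁻¹ * b ∈ Subgroup.center 𝕎 := by
  rw [mem_center_iff two_le_N] at ha' hb' ⊢
  rw [mem_diffTwo] at ha hb
  have key : ∀ x : 𝕎, 2 * (x.i - x.j) = 0 → x.i ≠ x.j → x.i - x.j = hf r := fun x h1 h2 =>
    (two_cancel h1).resolve_left fun h0 => h2 (sub_eq_zero.mp h0)
  have hs : a.e = b.e ∧ a.i - a.j = b.i - b.j := by
    cases hae : a.e <;> cases hbe : b.e <;> simp [vClass, hae, hbe] at h
    · exact ⟨rfl, (key a ha fun h => ha' ⟨hae, h⟩).trans (key b hb fun h => hb' ⟨hbe, h⟩).symm⟩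
    · split_ifs at h <;> exact absurd h (by decide)
    · split_ifs at h <;> exact absurd h (by decide)
    · refine ⟨rfl, ?_⟩
      by_cases h1 : a.i = a.j <;> by_cases h2 : b.i = b.j <;> simp [h1, h2] at h
      · rw [sub_eq_zero.mpr h1, sub_eq_zero.mpr h2]
      · exact (key a ha h1).trans (key b hb h2).symm
  obtain ⟨he, hd⟩ := hs
  refine ⟨by simp [he], ?_⟩
  simp only [mul_i, mul_j, inv_i, inv_j, inv_e]
  cases hbe : b.e <;> simp [he, hbe] <;> first | linear_combination hd | linear_combination -hd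

/-- The quaternion group of order 8 in `diffTwo`. -/
def quatEight (r : ℕ) : Subgroup (Wr (2 ^ (r + 2))) := sumEq r ⊓ diffTwo r

/-- Its element of order 4 in the base. -/
def xQ (r : ℕ) : Wr (2 ^ (r + 2)) := ⟨qt r, -qt r, false⟩
/-- Its swap. -/
def yQ (r : ℕ) : Wr (2 ^ (r + 2)) := ⟨0, hf r, true⟩

theorem xQ_mem : xQ r ∈ quatEight r := by
  refine Subgroup.mem_inf.mpr ⟨by rw [mem_sumEq]; simp [xQ], ?_⟩
  rw [mem_diffTwo]; simp only [xQ]
  linear_combination 2 * (two_qt (r := r)) + (two_hf (r := r))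

theorem yQ_mem : yQ r ∈ quatEight r := by
  refine Subgroup.mem_inf.mpr ⟨by rw [mem_sumEq]; simp [yQ], ?_⟩
  rw [mem_diffTwo]; simp only [yQ]
  linear_combination -(two_hf (r := r))

theorem four_torsion {i : 𝕂} (h : 4 * i = 0) : i = 0 ∨ i = qt r ∨ i = hf r ∨ i = qt r + hf r := by
  rcases two_cancel (x := 2 * i) (by linear_combination h) with h1 | h1
  · rcases two_cancel h1 with h2 | h2
    · exact Or.inl h2
    · exact Or.inr (Or.inr (Or.inl h2))
  · rcases two_cancel (x := i - qt r) (by linear_combination h1 - (two_qt (r := r))) with h2 | h2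
    · exact Or.inr (Or.inl (sub_eq_zero.mp h2))
    · exact Or.inr (Or.inr (Or.inr (by linear_combination h2)))

theorem mem_quatEight {a : 𝕎} : a ∈ quatEight r ↔ a.i + a.j = cond a.e (hf r) 0 ∧ 4 * a.i = 0 := by
  rw [quatEight, Subgroup.mem_inf, mem_sumEq, mem_diffTwo]
  refine and_congr_right fun h => ?_
  cases he : a.e <;> simp only [he, cond_true, cond_false] at h
  · constructor <;> intro h'
    · linear_combination h' + 2 * h
    · linear_combination h' - 2 * h
  · constructor <;> intro h'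
    · linear_combination h' + 2 * h + (two_hf (r := r))
    · linear_combination h' - 2 * h - (two_hf (r := r))

theorem card_quatEight : Nat.card (quatEight r) = 8 := by
  have h4 : Nat.card {i : 𝕂 // 4 * i = 0} = 4 := by
    have hq : 2 * qt r ≠ (0 : 𝕂) := by rw [two_qt]; exact hf_ne_zero
    have hset : {i : 𝕂 | 4 * i = 0} = {0, qt r, hf r, qt r + hf r} := by
      ext i
      simp only [Set.mem_ofPred_eq, Set.mem_insert_iff, Set.mem_singleton_iff]
      constructor
      · exact four_torsion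
      · rintro (rfl | rfl | rfl | rfl)
        · simp
        · linear_combination 2 * (two_qt (r := r)) + (two_hf (r := r))
        · linear_combination 2 * (two_hf (r := r))
        · linear_combination 2 * (two_qt (r := r)) + 3 * (two_hf (r := r))
    have n1 : (0 : 𝕂) ≠ qt r := fun h => hq (by rw [← h, mul_zero])
    have n2 : (0 : 𝕂) ≠ hf r := fun h => hf_ne_zero h.symm
    have n3 : (0 : 𝕂) ≠ qt r + hf r := fun h => hq (by linear_combination -2 * h - (two_hf (r := r)))
    have n4 : qt r ≠ hf r := fun h => hq (by rw [h, two_hf])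
    have n5 : qt r ≠ qt r + hf r := fun h => n2 (by linear_combination h)
    have n6 : hf r ≠ qt r + hf r := fun h => n1 (by linear_combination h)
    rw [show Nat.card {i : 𝕂 // 4 * i = 0} = {i : 𝕂 | 4 * i = 0}.ncard from rfl, hset,
      Set.ncard_insert_of_notMem (by simp [n1, n2, n3]), Set.ncard_insert_of_notMem (by simp [n4, n5]),
      Set.ncard_pair n6]
  rw [show Nat.card (quatEight r) = Nat.card ({i : 𝕂 // 4 * i = 0} × Bool) from Nat.card_congr
    { toFun := fun a => (⟨a.1.i, (mem_quatEight.mp a.2).2⟩, a.1.e)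
      invFun := fun p => ⟨⟨p.1.1, cond p.2 (hf r) 0 - p.1.1, p.2⟩, mem_quatEight.mpr ⟨by simp, p.1.2⟩⟩
      left_inv := fun a => Subtype.ext (Wr.ext rfl (by
        have h := (mem_quatEight.mp a.2).1
        simp only; rw [← h]; simp) rfl)
      right_inv := fun _ => rfl }, Nat.card_prod, h4, Nat.card_eq_fintype_card, Fintype.card_bool]

/-- The two generators of a quaternion subgroup of order 8. -/
theorem quat_pair_eight {x y : 𝕎} (hx : x.e = false) (hy : y.e = true) (hx2 : x * x ≠ 1)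
    (hconj : y * x * y⁻¹ = x⁻¹) (hsq : y * y = x * x) :
    (∀ u, (⟨u, 0, false⟩ : 𝕎) * x * (⟨u, 0, false⟩ : 𝕎)⁻¹ = x) ∧ x ∈ quatEight r ∧ x.i + x.i = hf r ∧
      (⟨-y.i, 0, false⟩ : 𝕎) * y * (⟨-y.i, 0, false⟩ : 𝕎)⁻¹ = yQ r := by
  obtain ⟨a, b, e⟩ := x
  obtain ⟨c, d, f⟩ := y
  simp only at hx hy; subst hx hy
  rw [conj_base] at hconj
  have h1 := congrArg Wr.i hconj
  have h2 := congrArg Wr.i hsq
  simp at h1 h2
  have h3 : a + a = hf r := by
    have h4 := congrArg Wr.j hsq
    simp at h4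
    have h5 : 2 * (a + a) = 0 := by linear_combination h4 - h2 + 2 * h1
    rcases two_cancel h5 with h | h
    · refine absurd ?_ hx2
      ext <;> simp
      · linear_combination h
      · linear_combination -h + 2 * h1
    · exact h
  refine ⟨fun u => by rw [conj_base]; rfl, mem_quatEight.mpr ⟨by simp; linear_combination h1, ?_⟩, h3, ?_⟩
  · simp only; linear_combination 2 * h3 + (two_hf (r := r))
  · rw [conj_swap, yQ]
    ext <;> simp
    linear_combination h2 + h3

theorem diffTwo_le_of {A : Subgroup 𝕎} (hZ : Subgroup.center 𝕎 ≤ A) {x : 𝕎} (hxe : x.e = false) (hxA : x ∈ A)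
    (hx : x.i + x.j = 0) (hxi : x.i + x.i = hf r) (hy : yQ r ∈ A) : diffTwo r ≤ A := by
  have hd : ∀ c : 𝕂, (⟨c, c, false⟩ : 𝕎) ∈ A := fun c => hZ ((mem_center_iff two_le_N).mpr ⟨rfl, rfl⟩)
  have hh : (⟨hf r, 0, false⟩ : 𝕎) ∈ A := by
    convert A.mul_mem hxA (hd x.i) using 1
    ext <;> simp [hxe]
    · linear_combination -hxi
    · linear_combination -hx
  have h0 : (⟨0, 0, true⟩ : 𝕎) ∈ A := by
    convert A.mul_mem (A.mul_mem (hd (hf r)) hh) hy using 1
    ext <;> simp [yQ]
    · linear_combination -(two_hf (r := r))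
    · linear_combination -(two_hf (r := r))
  rintro ⟨a, b, e⟩ hab
  rw [mem_diffTwo] at hab
  have hpart : (⟨a, b, false⟩ : 𝕎) ∈ A := by
    rcases two_cancel hab with h1 | h1 <;> simp only at h1
    · rw [sub_eq_zero.mp h1]; exact hd b
    · convert A.mul_mem hh (hd b) using 1
      ext <;> simp
      linear_combination h1
  cases e
  · exact hpart
  · convert A.mul_mem hpart h0 using 1
    ext <;> simp

/-- All quaternion subgroups of order 8 are conjugate. -/
theorem quat_eight_cases {Q : Subgroup 𝕎} (q : Q ≃* QuaternionGroup 2) :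
    ∃ s : 𝕎, Q.map (MulAut.conj s).toMonoidHom = quatEight r ∧
      (Q ⊔ Subgroup.center 𝕎).map (MulAut.conj s).toMonoidHom = diffTwo r := by
  let f : QuaternionGroup 2 →* 𝕎 := Q.subtype.comp q.symm.toMonoidHom
  have hinj : Function.Injective f := Subtype.val_injective.comp q.symm.injective
  have hrange : f.range = Q := by
    ext u
    constructor
    · rintro ⟨v, rfl⟩; exact (q.symm v).2
    · intro hu; exact ⟨q ⟨u, hu⟩, congrArg Subtype.val (q.symm_apply_apply ⟨u, hu⟩)⟩
  obtain ⟨x, y, hx, hy, hconj, hsq, hx2, hgen⟩ : ∃ x y : 𝕎, x.e = false ∧ y.e = true ∧ y * x * y⁻¹ = x⁻¹ ∧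
      y * y = x * x ∧ x * x ≠ 1 ∧ Subgroup.closure {x, y} = Q := by
    have hall : ∀ g h : QuaternionGroup 2, h * g * h⁻¹ = g⁻¹ → h * h = g * g → g * g ≠ 1 →
        f (.a 1) ∈ Subgroup.closure {f g, f h} → f (.xa 0) ∈ Subgroup.closure {f g, f h} →
        (f g).e = false → (f h).e = true → ∃ x y : 𝕎, x.e = false ∧ y.e = true ∧ y * x * y⁻¹ = x⁻¹ ∧
          y * y = x * x ∧ x * x ≠ 1 ∧ Subgroup.closure {x, y} = Q := by
      intro g h e1 e2 e3 g1 g2 ge he
      refine ⟨f g, f h, ge, he, by rw [← map_mul, ← map_inv, ← map_mul, e1, map_inv],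
        by rw [← map_mul, e2, map_mul], by rw [← map_mul]; exact fun e => e3 (hinj (e.trans (map_one f).symm)), ?_⟩
      refine le_antisymm ((Subgroup.closure_le _).mpr ?_) ?_
      · rintro _ (rfl | rfl) <;> rw [← hrange] <;> exact ⟨_, rfl⟩
      · rw [← hrange]
        have ha : ∀ j, f (.a j) ∈ Subgroup.closure {f g, f h} := fun j => by
          have := Subgroup.pow_mem _ g1 j.val
          rwa [← map_pow, QuaternionGroup.a_one_pow, ZMod.natCast_rightInverse j] at this
        rintro _ ⟨j | j, rfl⟩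
        · exact ha j
        · have := Subgroup.mul_mem _ g2 (ha j)
          rwa [← map_mul, QuaternionGroup.xa_mul_a, zero_add] at this
    have hmem : ∀ {g h : QuaternionGroup 2}, f g ∈ Subgroup.closure {f g, f h} ∧ f h ∈ Subgroup.closure {f g, f h} :=
      ⟨Subgroup.subset_closure (Or.inl rfl), Subgroup.subset_closure (Or.inr rfl)⟩
    have hprod : f (.xa 1) = f (.xa 0) * f (.a 1) := by rw [← map_mul]; rfl
    cases hA : (f (.a 1)).e <;> cases hB : (f (.xa 0)).e
    · exfalso
      have hcomm := base_comm (mem_base.mpr hA) (mem_base.mpr hB)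
      rw [← map_mul, ← map_mul] at hcomm
      exact absurd (hinj hcomm) (by decide)
    · exact hall (.a 1) (.xa 0) (by decide) (by decide) (by decide) hmem.1 hmem.2 hA hB
    · exact hall (.xa 0) (.a 1) (by decide) (by decide) (by decide) hmem.2 hmem.1 hB hA
    · refine hall (.xa 1) (.xa 0) (by decide) (by decide) (by decide) ?_ hmem.2 (by rw [hprod, mul_e, hA, hB]; rfl) hB
      have h := Subgroup.mul_mem _ (Subgroup.inv_mem _ (hmem (g := .xa 1) (h := .xa 0)).2) (hmem (g := .xa 1) (h := .xa 0)).1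
      rwa [← map_inv, ← map_mul] at h
  obtain ⟨hsx, hxm, hxi, hsy⟩ := quat_pair_eight hx hy hx2 hconj hsq
  refine ⟨⟨-y.i, 0, false⟩, ?_⟩
  set s : 𝕎 := ⟨-y.i, 0, false⟩
  have hxQ : x ∈ Q.map (MulAut.conj s).toMonoidHom := ⟨x, hgen ▸ Subgroup.subset_closure (Or.inl rfl), hsx _⟩
  have hyQ : yQ r ∈ Q.map (MulAut.conj s).toMonoidHom := ⟨y, hgen ▸ Subgroup.subset_closure (Or.inr rfl), hsy⟩
  have hle : Q.map (MulAut.conj s).toMonoidHom ≤ quatEight r := by
    rw [← hgen, MonoidHom.map_closure, Subgroup.closure_le]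
    rintro _ ⟨u, rfl | rfl, rfl⟩
    · show s * u * s⁻¹ ∈ quatEight r
      rw [hsx]; exact hxm
    · show s * u * s⁻¹ ∈ quatEight r
      rw [hsy]; exact yQ_mem
  have heq : Q.map (MulAut.conj s).toMonoidHom = quatEight r := by
    refine Subgroup.eq_of_le_of_card_ge hle ?_
    rw [card_quatEight, ← Nat.card_congr (mapEquiv (MulAut.conj s) Q).toEquiv, Nat.card_congr q.toEquiv,
      Nat.card_eq_fintype_card, QuaternionGroup.card]
  refine ⟨heq, le_antisymm ?_ ?_⟩
  · rw [Subgroup.map_sup, heq]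
    refine sup_le inf_le_right ?_
    rintro _ ⟨u, hu, rfl⟩
    show s * u * s⁻¹ ∈ diffTwo r
    rw [Subgroup.mem_center_iff.mp hu, mul_inv_cancel_right]
    exact center_le_diffTwo hu
  · have hxs : x.i + x.j = 0 := by simpa [hx] using (mem_quatEight.mp hxm).1
    refine diffTwo_le_of (fun u hu => ⟨u, Subgroup.mem_sup_right hu, ?_⟩) hx ?_ hxs hxi ?_
    · show s * u * s⁻¹ = u
      rw [Subgroup.mem_center_iff.mp hu, mul_inv_cancel_right]
    · exact Subgroup.map_mono le_sup_left hxQ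
    · exact Subgroup.map_mono le_sup_left hyQ

/-- Subgroups isomorphic to `diffTwo` are conjugate to it. -/
theorem equiv_diffTwo_conj {E : Subgroup 𝕎} (e : diffTwo r ≃* E) :
    ∃ s : 𝕎, E.map (MulAut.conj s).toMonoidHom = diffTwo r := by
  obtain ⟨Q, ⟨q⟩, hQ⟩ := exists_quaternion_diffTwo (r := r)
  have hQle : Q ≤ diffTwo r := hQ ▸ le_sup_left
  let g : diffTwo r →* 𝕎 := E.subtype.comp e.toMonoidHom
  have hg : Function.Injective g := Subtype.val_injective.comp e.injective
  have q' : (Q.subgroupOf (diffTwo r)).map g ≃* QuaternionGroup 2 :=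
    (((Q.subgroupOf _).equivMapOfInjective g hg).symm.trans (Subgroup.subgroupOfEquivOfLe hQle)).trans q
  obtain ⟨s, -, hs⟩ := quat_eight_cases q'
  have hEn : ¬ IsMulCommutative E := fun h => diffTwo_noncomm ⟨⟨fun a b =>
    e.injective (by rw [map_mul, map_mul]; exact mul_comm' _ _)⟩⟩
  have hZE : Subgroup.center 𝕎 ≤ E := by
    have h1 : (Subgroup.center E).map E.subtype = Subgroup.center 𝕎 := by
      refine Subgroup.eq_of_le_of_card_ge (center_le_of_nonabelian hEn) ?_
      rw [← center_diffTwo, Subgroup.card_map_of_injective Subtype.val_injective,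
        Subgroup.card_map_of_injective Subtype.val_injective, Nat.card_congr (Subgroup.centerCongr e).toEquiv]
    exact h1 ▸ Subgroup.map_subtype_le _
  refine ⟨s, (Subgroup.eq_of_le_of_card_ge ?_ ?_).symm⟩
  · rw [← hs]
    refine Subgroup.map_mono (sup_le ?_ hZE)
    rintro _ ⟨u, -, rfl⟩; exact (e u).2
  · rw [← Nat.card_congr (mapEquiv (MulAut.conj s) E).toEquiv, Nat.card_congr e.toEquiv]

end CfsgLib.Invol.QDW.Wr
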