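import Mathlib
import Cfsg.Agent.Lib.Invol.QDW.Wreath
import Cfsg.Agent.Lib.Invol.Isolated
import Cfsg.Agent.Lib.Transfer.Fusion
import Cfsg.Agent.S0111

/-!
# Wreathed Sylow 2-subgroup with an isolated involution: the centre is fusion-fixed
-/

set_option autoImplicit false

namespace CfsgLib.Invol.QDW

open Cfsg
open scoped Pointwise

variable {G : Type*} [Group G] [Finite G]

/-- A cyclic group has at most one involution. -/
theorem eq_of_isCyclic_involutions {C : Type*} [Group C] [Finite C] [IsCyclic C] (a b : C)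
    (ha : orderOf a = 2) (hb : orderOf b = 2) : a = b := by
  classical
  haveI := Fintype.ofFinite C
  by_contra hne
  have h := IsCyclic.card_pow_eq_one_le (α := C) (show 0 < 2 by norm_num)
  have h3 : ({1, a, b} : Finset C) ⊆ Finset.univ.filter (fun x : C => x ^ 2 = 1) := by
    intro x hx
    simp only [Finset.mem_insert, Finset.mem_singleton] at hx
    rw [Finset.mem_filter]
    rcases hx with rfl | rfl | rfl
    · simp
    · exact ⟨Finset.mem_univ _, ha ▸ pow_orderOf_eq_one _⟩
    · exact ⟨Finset.mem_univ _, hb ▸ pow_orderOf_eq_one _⟩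
  have h4 : ({1, a, b} : Finset C).card = 3 := by
    have ha1 : (1 : C) ≠ a := fun h => by rw [← h, orderOf_one] at ha; omega
    have hb1 : (1 : C) ≠ b := fun h => by rw [← h, orderOf_one] at hb; omega
    simp [ha1, hb1, hne]
  have := (Finset.card_le_card h3).trans h
  omega

/-- If a wreathed Sylow 2-subgroup contains an isolated involution, the elements of its centre have
no other conjugates in it. -/
theorem wreathed_center_fixed (S : Sylow 2 G) (hS : IsWreathed (S : Subgroup G)) {z : G}
    (hzS : z ∈ (S : Subgroup G)) (hz : IsIsolatedInvolution z) {a : G} (haS : a ∈ (S : Subgroup G))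
    (hac : ∀ s ∈ (S : Subgroup G), s * a = a * s) (g : G)
    (hg : g * a * g⁻¹ ∈ (S : Subgroup G)) : g * a * g⁻¹ = a := by
  classical
  obtain ⟨n, hn, hcard, ⟨e⟩⟩ := exists_equiv_wr hS
  set N := 2 ^ n with hN
  have hN4 : 4 ≤ N := by
    calc 4 = 2 ^ 2 := rfl
      _ ≤ N := Nat.pow_le_pow_right (by norm_num) hn
  haveI : NeZero N := ⟨by omega⟩
  set A := ((Wr.base N).comap e.toMonoidHom).map (S : Subgroup G).subtype with hAdef
  have hAS : A ≤ (S : Subgroup G) := Subgroup.map_subtype_le _
  have memA : ∀ {x : G} (hx : x ∈ (S : Subgroup G)), x ∈ A ↔ (e ⟨x, hx⟩).e = false := by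
    intro x hx
    constructor
    · rintro ⟨y, hy, rfl⟩; exact hy
    · exact fun h => ⟨⟨x, hx⟩, h, rfl⟩
  have hAcard : Nat.card A = N * N := by
    rw [hAdef, Subgroup.card_map_of_injective (Subgroup.subtype_injective _),
      Subgroup.comap_equiv_eq_map_symm', Subgroup.card_map_of_injective e.symm.injective, Wr.card_base]
  have hAcomm : ∀ x ∈ A, ∀ y ∈ A, x * y = y * x := by
    intro x hx y hy
    have := Wr.base_comm ((memA (hAS hx)).mp hx) ((memA (hAS hy)).mp hy)
    rw [← map_mul, ← map_mul] at this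
    exact congrArg Subtype.val (e.injective this)
  -- an element of `S` outside `A` commutes only with central elements of `A`
  have hout : ∀ t ∈ (S : Subgroup G), t ∉ A → ∀ x ∈ A, t * x = x * t →
      ∀ s ∈ (S : Subgroup G), s * x = x * s := by
    intro t ht htA x hx htx s hs
    have h1 : e ⟨x, hAS hx⟩ ∈ Subgroup.center (Wr N) := by
      refine (Wr.mem_center_iff (by omega)).mpr ⟨(memA (hAS hx)).mp hx, ?_⟩
      refine (Wr.commute_swap_iff (a := e ⟨t, ht⟩) (Bool.not_eq_false _ |>.mp fun h => htA ((memA ht).mpr h))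
        ((memA (hAS hx)).mp hx)).mp ?_
      rw [← map_mul, ← map_mul]
      exact congrArg e (Subtype.ext htx)
    have h2 := Subgroup.mem_center_iff.mp h1 (e ⟨s, hs⟩)
    rw [← map_mul, ← map_mul] at h2
    exact congrArg Subtype.val (e.injective h2)
  have hcenA : ∀ x ∈ (S : Subgroup G), (∀ s ∈ (S : Subgroup G), s * x = x * s) → x ∈ A := by
    intro x hx h
    refine (memA hx).mpr ((Wr.mem_center_iff (by omega)).mp ?_).1
    rw [Subgroup.mem_center_iff]
    intro w
    obtain ⟨⟨s, hs⟩, rfl⟩ := e.surjective w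
    rw [← map_mul, ← map_mul]
    exact congrArg e (Subtype.ext (h s hs))
  -- uniqueness
  have huniq : ∀ B : Subgroup G, B ≤ (S : Subgroup G) → (∀ x ∈ B, ∀ y ∈ B, x * y = y * x) →
      Nat.card B = N * N → B = A := by
    intro B hBS hB hBc
    suffices hle : B ≤ A from Subgroup.eq_of_le_of_card_ge hle (by rw [hAcard, hBc])
    by_contra hle
    obtain ⟨t, htB, htA⟩ := SetLike.not_le_iff_exists.mp hle
    let t' := e ⟨t, hBS htB⟩
    have ht' : t'.e = true := Bool.not_eq_false _ |>.mp fun h => htA ((memA _).mpr h)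
    have h1 : Nat.card B ≤ Nat.card (ZMod N × Bool) := by
      refine Nat.card_le_card_of_injective
        (fun b : B => ((e ⟨b, hBS b.2⟩).i, (e ⟨b, hBS b.2⟩).e)) ?_
      intro b c hbc
      simp only [Prod.mk.injEq] at hbc
      have hcom : ∀ d : B, t' * e ⟨d, hBS d.2⟩ = e ⟨d, hBS d.2⟩ * t' := fun d => by
        rw [← map_mul, ← map_mul]
        exact congrArg e (Subtype.ext (hB t htB d d.2))
      have key : (e ⟨b, hBS b.2⟩).j = (e ⟨c, hBS c.2⟩).j := by
        cases hbe : (e ⟨b, hBS b.2⟩).e
        · have h2 := (Wr.commute_swap_iff ht' hbe).mp (hcom b)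
          have h3 := (Wr.commute_swap_iff ht' (hbc.2 ▸ hbe)).mp (hcom c)
          rw [← h2, ← h3, hbc.1]
        · have h2 := (Wr.commute_swap_swap_iff ht' hbe).mp (hcom b)
          have h3 := (Wr.commute_swap_swap_iff ht' (hbc.2 ▸ hbe)).mp (hcom c)
          linear_combination h2 - h3 + hbc.1
      have := e.injective (Wr.ext hbc.1 key hbc.2)
      exact Subtype.ext (congrArg (fun u : (S : Subgroup G) => (u : G)) this)
    rw [hBc, Nat.card_prod, Nat.card_zmod, Nat.card_eq_fintype_card, Fintype.card_bool] at h1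
    have := Nat.le_of_mul_le_mul_left h1 (by omega)
    omega
  have hzA : z ∈ A := hcenA z hzS fun s hs => by
    have h1 := isolated_eq_of_isPGroup hz S.2 hzS s (mul_mem (mul_mem hs hzS) (Subgroup.inv_mem _ hs))
    exact mul_inv_eq_iff_eq_mul.mp h1
  -- the normalizer of `A` fixes the centre
  have hfix : ∀ w ∈ Subgroup.normalizer (A : Set G), Odd (orderOf w) → ∀ x ∈ A, w * x = x * w := by
    intro w hw hwodd
    have hconjA : ∀ x ∈ A, w * x * w⁻¹ ∈ A := fun x hx => (Subgroup.mem_normalizer_iff.mp hw x).mp hx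
    have hwz : w * z * w⁻¹ = z :=
      isolated_eq_of_isPGroup hz S.2 hzS w (hAS (hconjA z hzA))
    have hcount : ∀ x ∈ A, x * x = 1 → w * x = x * w := by
      intro x hx hxx
      have hom : Nat.card {u : Wr N // u.e = false ∧ u * u = 1} ≤ 4 := by
        have hsol : Nat.card {i : ZMod N // i + i = 0} ≤ 2 := by
          have : ∀ i : {i : ZMod N // i + i = 0}, i.1.val = 0 ∨ i.1.val = N / 2 := by
            intro i
            have h := congrArg ZMod.val i.2
            rw [ZMod.val_add, ZMod.val_zero] at h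
            have h1 := ZMod.val_lt i.1
            rcases Nat.lt_or_ge (i.1.val + i.1.val) N with h2 | h2
            · rw [Nat.mod_eq_of_lt h2] at h; omega
            · rw [Nat.mod_eq_sub_mod h2, Nat.mod_eq_of_lt (by omega)] at h; omega
          let f : {i : ZMod N // i + i = 0} → Bool := fun i => decide (i.1.val = 0)
          refine (Nat.card_le_card_of_injective f ?_).trans (by simp)
          intro i j hij
          simp only [f, decide_eq_decide] at hij
          refine Subtype.ext (ZMod.val_injective N ?_)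
          rcases this i with hi | hi <;> rcases this j with hj | hj <;> omega
        refine (Nat.card_le_card_of_injective
          (β := {i : ZMod N // i + i = 0} × {i : ZMod N // i + i = 0})
          (fun u => (⟨u.1.i, ?_⟩, ⟨u.1.j, ?_⟩)) ?_).trans ?_
        · have := congrArg Wr.i u.2.2; simpa [u.2.1] using this
        · have := congrArg Wr.j u.2.2; simpa [u.2.1] using this
        · intro u v h
          simp only [Prod.mk.injEq, Subtype.mk.injEq] at h
          exact Subtype.ext (Wr.ext h.1 h.2 (u.2.1.trans v.2.1.symm))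
        · rw [Nat.card_prod]
          exact le_trans (Nat.mul_le_mul hsol hsol) le_rfl
      -- four candidates `1, z, x, w x w⁻¹, w² x w⁻²`
      set x1 := w * x * w⁻¹ with hx1
      set x2 := w * x1 * w⁻¹ with hx2
      have hsq : ∀ y, y * y = 1 → (w * y * w⁻¹) * (w * y * w⁻¹) = 1 := fun y hy => by
        rw [show (w * y * w⁻¹) * (w * y * w⁻¹) = w * (y * y) * w⁻¹ by group, hy]; group
      by_contra hne
      have hne1 : x1 ≠ x := fun h => hne (mul_inv_eq_iff_eq_mul.mp h)
      have hinj : ∀ {u v : G}, w * u * w⁻¹ = w * v * w⁻¹ → u = v := fun h => by simpa using h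
      have hne2 : x2 ≠ x1 := fun h => hne1 (hinj h)
      have hne3 : x2 ≠ x := by
        intro h
        obtain ⟨k, hk⟩ := hwodd
        have h2 : Commute (w ^ 2) x := by
          rw [commute_iff_eq, ← mul_inv_eq_iff_eq_mul,
            show w ^ 2 * x * (w ^ 2)⁻¹ = w * (w * x * w⁻¹) * w⁻¹ by simp [pow_two, mul_assoc]]
          exact h
        have h3 : Commute ((w ^ 2) ^ (k + 1)) x := h2.pow_left _
        rw [← pow_mul, show 2 * (k + 1) = 2 * k + 1 + 1 by ring, pow_succ, ← hk, pow_orderOf_eq_one,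
          one_mul] at h3
        exact hne h3.eq
      have hxne1 : x ≠ 1 := fun h => hne (by rw [h, mul_one, one_mul])
      have hxnez : x ≠ z := fun h => hne (by rw [h]; exact mul_inv_eq_iff_eq_mul.mp hwz)
      have hz1 : z ≠ 1 := ne_one_of_orderOf_two hz.1
      have h11 : x1 ≠ 1 := fun h => hxne1 (hinj (by rw [← hx1, h]; group))
      have h1z : x1 ≠ z := fun h => hxnez (hinj (h.trans hwz.symm))
      have h21 : x2 ≠ 1 := fun h => h11 (hinj (by rw [← hx2, h]; group))
      have h2z : x2 ≠ z := fun h => h1z (hinj (h.trans hwz.symm))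
      have hmem : ∀ y ∈ A, y * y = 1 → ∃ u : {u : Wr N // u.e = false ∧ u * u = 1},
          ((e.symm u.1 : (S : Subgroup G)) : G) = y := by
        intro y hy hyy
        refine ⟨⟨e ⟨y, hAS hy⟩, (memA _).mp hy, ?_⟩, by simp⟩
        rw [← map_mul, show (⟨y, hAS hy⟩ : (S : Subgroup G)) * ⟨y, hAS hy⟩ = 1 from Subtype.ext hyy, map_one]
      obtain ⟨u0, hu0⟩ := hmem 1 (one_mem A) (mul_one 1)
      obtain ⟨u1, hu1⟩ := hmem z hzA (mul_self_of_orderOf_two hz.1)
      obtain ⟨u2, hu2⟩ := hmem x hx hxx
      obtain ⟨u3, hu3⟩ := hmem x1 (hconjA x hx) (hsq x hxx)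
      obtain ⟨u4, hu4⟩ := hmem x2 (hconjA _ (hconjA x hx)) (hsq _ (hsq x hxx))
      have hinjv : Function.Injective ![u0, u1, u2, u3, u4] := by
        have hcomp : Function.Injective ![(1 : G), z, x, x1, x2] := by
          intro i j hij
          fin_cases i <;> fin_cases j <;> first
            | rfl
            | exact absurd hij hz1
            | exact absurd hij hz1.symm
            | exact absurd hij hxne1
            | exact absurd hij hxne1.symm
            | exact absurd hij h11
            | exact absurd hij h11.symm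
            | exact absurd hij h21
            | exact absurd hij h21.symm
            | exact absurd hij hxnez
            | exact absurd hij hxnez.symm
            | exact absurd hij h1z
            | exact absurd hij h1z.symm
            | exact absurd hij h2z
            | exact absurd hij h2z.symm
            | exact absurd hij hne1
            | exact absurd hij hne1.symm
            | exact absurd hij hne2
            | exact absurd hij hne2.symm
            | exact absurd hij hne3
            | exact absurd hij hne3.symm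
        refine Function.Injective.of_comp
          (f := fun u : {u : Wr N // u.e = false ∧ u * u = 1} => ((e.symm u.1 : (S : Subgroup G)) : G)) ?_
        convert hcomp using 1
        funext i; fin_cases i <;> simp [hu0, hu1, hu2, hu3, hu4]
      have := Nat.card_le_card_of_injective _ hinjv
      rw [Nat.card_fin] at this
      omega
    -- lift from the involutions to all of `A`
    suffices ∀ m : ℕ, ∀ x ∈ A, x ^ 2 ^ m = 1 → w * x = x * w by
      intro x hx
      obtain ⟨m, hm⟩ := S.2 ⟨x, hAS hx⟩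
      exact this m x hx (by simpa using congrArg Subtype.val hm)
    intro m
    induction m with
    | zero => intro x _ h; rw [pow_zero, pow_one] at h; simp [h]
    | succ m ih =>
      intro x hx h
      have hx2 : w * (x * x) = x * x * w := ih _ (A.mul_mem hx hx) (by
        rw [← pow_two, ← pow_mul, ← pow_succ']; exact h)
      set δ := w * x * w⁻¹ * x⁻¹ with hδ
      have hδA : δ ∈ A := A.mul_mem (hconjA x hx) (A.inv_mem hx)
      have hδ2 : δ * δ = 1 := by
        have hc : Commute (w * x * w⁻¹) x⁻¹ := hAcomm _ (hconjA x hx) _ (A.inv_mem hx)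
        rw [hδ, hc.symm.mul_mul_mul_comm, show w * x * w⁻¹ * (w * x * w⁻¹) = w * (x * x) * w⁻¹ by group,
          hx2]
        group
      have hδw : Commute w δ := hcount δ hδA hδ2
      have hpow : ∀ k : ℕ, w ^ k * x * (w ^ k)⁻¹ = δ ^ k * x := by
        intro k
        induction k with
        | zero => simp
        | succ k ihk =>
          have h1 : w * δ ^ k * w⁻¹ = δ ^ k := by rw [(hδw.pow_right k).eq, mul_inv_cancel_right]
          rw [pow_succ' w k, show w * w ^ k * x * (w * w ^ k)⁻¹ = w * (w ^ k * x * (w ^ k)⁻¹) * w⁻¹ by group,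
            ihk, show w * (δ ^ k * x) * w⁻¹ = (w * δ ^ k * w⁻¹) * (w * x * w⁻¹) by group, h1,
            show w * x * w⁻¹ = δ * x by rw [hδ]; group, ← mul_assoc, ← pow_succ]
      have h2 := hpow (orderOf w)
      rw [pow_orderOf_eq_one, one_mul, inv_one, mul_one] at h2
      obtain ⟨k, hk⟩ := hwodd
      rw [hk, pow_succ, pow_mul, pow_two, hδ2, one_pow, one_mul, right_eq_mul] at h2
      exact mul_inv_eq_iff_eq_mul.mp (mul_inv_eq_one.mp (hδ ▸ h2))
  have hnorm : ∀ a ∈ (S : Subgroup G), (∀ s ∈ (S : Subgroup G), s * a = a * s) →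
      ∀ h ∈ Subgroup.normalizer (A : Set G), h * a * h⁻¹ = a := by
    intro a haS hac
    set M := Subgroup.normalizer (A : Set G) with hM
    have hSM : (S : Subgroup G) ≤ M := by
      have hn' : ∀ s ∈ (S : Subgroup G), ∀ x ∈ A, s * x * s⁻¹ ∈ A := fun s hs x hx => by
        have hm : s * x * s⁻¹ ∈ (S : Subgroup G) := mul_mem (mul_mem hs (hAS hx)) (Subgroup.inv_mem _ hs)
        refine (memA hm).mpr ?_
        rw [show (⟨_, hm⟩ : (S : Subgroup G)) = ⟨s, hs⟩ * ⟨x, hAS hx⟩ * ⟨s, hs⟩⁻¹ from rfl, map_mul,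
          map_mul, map_inv]
        simp [(memA (hAS hx)).mp hx]
      intro s hs
      refine Subgroup.mem_normalizer_iff.mpr fun x => ⟨hn' s hs x, fun hx => ?_⟩
      simpa [mul_assoc] using hn' s⁻¹ (Subgroup.inv_mem _ hs) _ hx
    let C := M ⊓ Subgroup.centralizer ({a} : Set G)
    suffices hC : C = M by
      intro h hh
      rw [← hC] at hh
      exact mul_inv_eq_iff_eq_mul.mpr (Subgroup.mem_centralizer_singleton_iff.mp hh.2)
    refine le_antisymm inf_le_left ?_
    have hSC : (S : Subgroup G) ≤ C := fun s hs =>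
      ⟨hSM hs, Subgroup.mem_centralizer_singleton_iff.mpr (hac s hs)⟩
    let Z := Subgroup.centralizer (A : Set G) ⊓ M
    have hZC : Z ≤ C := fun x hx => ⟨hx.2,
      Subgroup.mem_centralizer_singleton_iff.mpr (Subgroup.mem_centralizer_iff.mp hx.1 a (hcenA a haS hac)).symm⟩
    haveI : (Z.subgroupOf M).Normal := by
      refine (Subgroup.normal_subgroupOf_iff inf_le_right).mpr ?_
      rintro x h ⟨hx, hxM⟩ hh
      refine ⟨Subgroup.mem_centralizer_iff.mpr fun y hy => ?_, M.mul_mem (M.mul_mem hh hxM) (M.inv_mem hh)⟩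
      have h1 := Subgroup.mem_centralizer_iff.mp hx (h⁻¹ * y * h)
        (by simpa using (Subgroup.mem_normalizer_iff.mp (M.inv_mem hh) y).mp hy)
      calc y * (h * x * h⁻¹) = h * (h⁻¹ * y * h * x) * h⁻¹ := by group
        _ = h * (x * (h⁻¹ * y * h)) * h⁻¹ := by rw [h1]
        _ = h * x * h⁻¹ * y := by group
    have hquot : IsPGroup 2 (M ⧸ Z.subgroupOf M) := by
      intro q
      obtain ⟨x, rfl⟩ := QuotientGroup.mk'_surjective _ q
      obtain ⟨l, m, hm, hlm⟩ := Nat.exists_eq_two_pow_mul_odd (orderOf_pos (x : G)).ne'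
      refine ⟨l, ?_⟩
      rw [← map_pow, QuotientGroup.mk'_apply, QuotientGroup.eq_one_iff, Subgroup.mem_subgroupOf,
        Subgroup.coe_pow]
      have hp : ((x : G) ^ 2 ^ l) ∈ M := M.pow_mem x.2 _
      refine ⟨Subgroup.mem_centralizer_iff.mpr fun y hy => ?_, hp⟩
      have hodd : Odd (orderOf ((x : G) ^ 2 ^ l)) := by
        rw [orderOf_pow' _ (by positivity), hlm, Nat.gcd_eq_right (dvd_mul_right _ _),
          Nat.mul_div_cancel_left _ (by positivity)]
        exact hm
      exact (hfix _ hp hodd y hy).symm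
    have hdvd : C.relIndex M ∣ Z.relIndex M := Subgroup.relIndex_dvd_of_le_left M hZC
    obtain ⟨k, hk⟩ := hquot.exists_card_eq
    have hodd : ¬ 2 ∣ C.relIndex M := fun h => S.not_dvd_index
      (h.trans ((Dvd.intro _ (Subgroup.relIndex_mul_index (inf_le_left : C ≤ M))).trans
        (Subgroup.index_dvd_of_le hSC)))
    have ek : Z.relIndex M = 2 ^ k := hk
    rw [ek] at hdvd
    obtain ⟨j, -, hj⟩ := (Nat.dvd_prime_pow Nat.prime_two).mp hdvd
    rcases Nat.eq_zero_or_pos j with rfl | hj'
    · exact Subgroup.relIndex_eq_one.mp (by simpa using hj)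
    · exact absurd (hj ▸ dvd_pow_self 2 hj'.ne') hodd
  have step1 : ∀ a ∈ (S : Subgroup G), (∀ s ∈ (S : Subgroup G), s * a = a * s) →
      ∀ h : G, h * a * h⁻¹ ∈ A → h * a * h⁻¹ = a := by
    intro a haS hac h hh
    set a' := h * a * h⁻¹ with ha'
    set R := h • S
    have hR : ∀ s ∈ (S : Subgroup G), h * s * h⁻¹ ∈ (R : Subgroup G) := fun s hs => by
      show h * s * h⁻¹ ∈ MulAut.conj h • (S : Subgroup G)
      exact ⟨s, hs, by simp⟩
    have hRC : (R : Subgroup G) ≤ Subgroup.centralizer ({a'} : Set G) := by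
      rintro _ ⟨s, hs, rfl⟩
      rw [Subgroup.mem_centralizer_singleton_iff]
      show h * s * h⁻¹ * a' = a' * (h * s * h⁻¹)
      calc h * s * h⁻¹ * a' = h * (s * a) * h⁻¹ := by rw [ha']; group
        _ = h * (a * s) * h⁻¹ := by rw [hac s hs]
        _ = a' * (h * s * h⁻¹) := by rw [ha']; group
    obtain ⟨c, hc, hcA⟩ := CfsgLib.Transfer.exists_conj_mem_sylow_of_le R (S := A) hRC
      (fun x hx => Subgroup.mem_centralizer_singleton_iff.mpr (hAcomm x hx a' hh)) (S.2.to_le hAS)
    have hkA : A.map (MulAut.conj (h⁻¹ * c)).toMonoidHom = A := by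
      refine huniq _ ?_ ?_ (by rw [card_map_conj, hAcard])
      · rintro _ ⟨x, hx, rfl⟩
        obtain ⟨s, hs, hse⟩ := hcA x hx
        show h⁻¹ * c * x * (h⁻¹ * c)⁻¹ ∈ (S : Subgroup G)
        rw [show h⁻¹ * c * x * (h⁻¹ * c)⁻¹ = h⁻¹ * (c * x * c⁻¹) * h by group, ← hse]
        have hs' : s ∈ S := hs
        simp [mul_assoc]
        exact hs'
      · rintro _ ⟨x, hx, rfl⟩ _ ⟨y, hy, rfl⟩
        rw [← map_mul, ← map_mul, hAcomm x hx y hy]
    have hk := mem_normalizer_iff_map_conj.mpr hkA
    have h3 := hnorm a haS hac _ (Subgroup.inv_mem _ hk)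
    have h4 : c⁻¹ * a' * c = a' := by
      rw [mul_assoc, ← Subgroup.mem_centralizer_singleton_iff.mp hc, inv_mul_cancel_left]
    rw [← h4, ← h3, ha']
    group
  by_cases hgA : g * a * g⁻¹ ∈ A
  · exact step1 a haS hac g hgA
  exfalso
  set a' := g * a * g⁻¹ with ha'
  have haA : a ∈ A := hcenA a haS hac
  have hsqA : a' * a' ∈ A := by
    refine (memA (Subgroup.mul_mem _ hg hg)).mpr ?_
    rw [show (⟨_, Subgroup.mul_mem _ hg hg⟩ : (S : Subgroup G)) = ⟨a', hg⟩ * ⟨a', hg⟩ from rfl, map_mul]
    simp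
  have hsq : a' * a' = a * a := by
    have h1 : ∀ s ∈ (S : Subgroup G), s * (a * a) = a * a * s := fun s hs => by
      rw [← mul_assoc, hac s hs, mul_assoc, hac s hs, mul_assoc]
    have e2 : g * (a * a) * g⁻¹ = a' * a' := by rw [ha']; group
    rw [← e2]
    exact step1 _ (Subgroup.mul_mem _ haS haS) h1 g (e2 ▸ hsqA)
  set u := a' * a⁻¹ with hu
  have huS : u ∈ (S : Subgroup G) := Subgroup.mul_mem _ hg (Subgroup.inv_mem _ haS)
  have huA : u ∉ A := fun h => hgA (by simpa [hu] using A.mul_mem h haA)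
  have huu : orderOf u = 2 := by
    refine orderOf_eq_prime ?_ (fun h => huA (h ▸ one_mem A))
    have hc : Commute a' a⁻¹ := (show Commute a' a from hac a' hg).inv_right
    rw [pow_two, hu, hc.symm.mul_mul_mul_comm, hsq]
    group
  have hrel : A.relIndex (S : Subgroup G) = 2 := by
    have h1 := Subgroup.card_mul_index (A.subgroupOf (S : Subgroup G))
    rw [Nat.card_congr (Subgroup.subgroupOfEquivOfLe hAS).toEquiv, hAcard] at h1
    rw [hcard, hN] at h1
    refine Nat.eq_of_mul_eq_mul_left (show 0 < 2 ^ n * 2 ^ n by positivity) ?_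
    show 2 ^ n * 2 ^ n * (A.subgroupOf (S : Subgroup G)).index = _
    rw [h1, pow_succ, two_mul, pow_add]
  rcases Cfsg.Agent.S0111.result S A hAS hrel u huu huS huA with ⟨M, hMn, hMi, huM⟩ | ⟨k, hk⟩
  · apply huM
    rw [hu, Subgroup.mul_mem_iff_of_index_two hMi, inv_mem_iff]
    refine ⟨fun h => ?_, fun h => hMn.conj_mem a h g⟩
    have := hMn.conj_mem a' h g⁻¹
    simpa [ha', mul_assoc] using this
  -- `u` is conjugate to a non-central element of `A`
  set d := k * u * k⁻¹ with hd
  have hdnc : ¬ ∀ s ∈ (S : Subgroup G), s * d = d * s := by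
    intro hcd
    obtain ⟨hde, hdij⟩ := (Wr.mem_center_iff (show 2 ≤ N by omega)).mp (show e ⟨d, hAS hk⟩ ∈ Subgroup.center (Wr N) by
      rw [Subgroup.mem_center_iff]; intro w
      obtain ⟨⟨s, hs⟩, rfl⟩ := e.surjective w
      rw [← map_mul, ← map_mul]; exact congrArg e (Subtype.ext (hcd s hs)))
    have hzc : ∀ s ∈ (S : Subgroup G), s * z = z * s := fun s hs =>
      mul_inv_eq_iff_eq_mul.mp (isolated_eq_of_isPGroup hz S.2 hzS s
        (mul_mem (mul_mem hs hzS) (Subgroup.inv_mem _ hs)))
    haveI := Wr.isCyclic_center (N := N) (by omega)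
    have hd2 : orderOf d = 2 := by rw [hd, orderOf_conj_eq, huu]
    have hdz : d = z := by
      have mc : ∀ {x : G} (hx : x ∈ (S : Subgroup G)), (∀ s ∈ (S : Subgroup G), s * x = x * s) →
          e ⟨x, hx⟩ ∈ Subgroup.center (Wr N) := fun {x} hx hc => by
        rw [Subgroup.mem_center_iff]; intro w
        obtain ⟨⟨s, hs⟩, rfl⟩ := e.surjective w
        rw [← map_mul, ← map_mul]; exact congrArg e (Subtype.ext (hc s hs))
      have hb := eq_of_isCyclic_involutions
        (⟨_, mc (hAS hk) hcd⟩ : Subgroup.center (Wr N)) ⟨_, mc hzS hzc⟩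
        (by rw [← Subgroup.orderOf_coe, MulEquiv.orderOf_eq, ← Subgroup.orderOf_coe]; exact hd2)
        (by rw [← Subgroup.orderOf_coe, MulEquiv.orderOf_eq, ← Subgroup.orderOf_coe]; exact hz.1)
      exact congrArg Subtype.val (e.injective (congrArg Subtype.val hb))
    have huz : u = z := by
      have h1 : k⁻¹ * z * k = u := by rw [← hdz, hd]; group
      have h2 := isolated_eq_of_isPGroup hz S.2 hzS k⁻¹ (by rw [inv_inv, h1]; exact huS)
      rw [inv_inv] at h2
      rw [← h1, h2]
    exact huA (huz ▸ hzA)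
  -- `A` is a Sylow subgroup of the centralizer of `d`
  set Cd := Subgroup.centralizer ({d} : Set G) with hCd
  have hACd : A ≤ Cd := fun x hx => Subgroup.mem_centralizer_singleton_iff.mpr (hAcomm x hx d hk)
  obtain ⟨P, hP⟩ := ((S.2.to_le hAS).of_equiv (Subgroup.subgroupOfEquivOfLe hACd).symm).exists_le_sylow
  have hPA : (P : Subgroup Cd).map Cd.subtype = A := by
    set P0 := (P : Subgroup Cd).map Cd.subtype with hP0
    have hAP : A ≤ P0 := fun x hx => ⟨⟨x, hACd hx⟩, hP hx, rfl⟩
    refine le_antisymm ?_ hAP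
    intro t ht
    by_contra htA
    obtain ⟨q, hq⟩ := CfsgLib.Transfer.exists_conj_mem_sylow S (S := P0) (P.2.map _)
    have hqA : A.map (MulAut.conj q).toMonoidHom = A := by
      refine huniq _ ?_ ?_ (by rw [card_map_conj, hAcard])
      · rintro _ ⟨x, hx, rfl⟩; exact hq x (hAP hx)
      · rintro _ ⟨x, hx, rfl⟩ _ ⟨y, hy, rfl⟩
        rw [← map_mul, ← map_mul, hAcomm x hx y hy]
    have hqN := mem_normalizer_iff_map_conj.mpr hqA
    have hqd : q * d * q⁻¹ ∈ A := (Subgroup.mem_normalizer_iff.mp hqN d).mp hk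
    have hqt : q * t * q⁻¹ ∉ A := fun h => htA ((Subgroup.mem_normalizer_iff.mp hqN t).mpr h)
    have htd : t * d = d * t := by
      obtain ⟨t', -, rfl⟩ := ht
      exact Subgroup.mem_centralizer_singleton_iff.mp t'.2
    have hcen := hout (q * t * q⁻¹) (hq t ht) hqt _ hqd (by
      rw [show q * t * q⁻¹ * (q * d * q⁻¹) = q * (t * d) * q⁻¹ by group, htd]; group)
    -- the central conjugate is fixed by the normalizer, so `d` was central
    apply hdnc
    have hd' : q * d * q⁻¹ = d := by
      have := hnorm _ (hAS hqd) hcen q⁻¹ (Subgroup.inv_mem _ hqN)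
      simpa [mul_assoc] using this.symm
    rwa [hd'] at hcen
  have hau : a ∈ Subgroup.centralizer ({u} : Set G) :=
    Subgroup.mem_centralizer_singleton_iff.mpr (hac u huS).symm
  have hkaC : k * a * k⁻¹ ∈ Cd := by
    rw [hCd, Subgroup.mem_centralizer_singleton_iff, hd,
      show k * a * k⁻¹ * (k * u * k⁻¹) = k * (a * u) * k⁻¹ by group,
      Subgroup.mem_centralizer_singleton_iff.mp hau]
    group
  obtain ⟨m, hm⟩ := S.2 ⟨a, haS⟩
  obtain ⟨c, -, hcP⟩ := CfsgLib.Transfer.exists_conj_mem_of_mem P (H := ⊤) le_top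
    (x := (⟨_, hkaC⟩ : Cd)) (Subgroup.mem_top _) (k := m) (by
      apply Subtype.ext
      simp [conj_pow, show a ^ 2 ^ m = 1 by simpa using congrArg Subtype.val hm])
  have h1 : ((c : G) * k) * a * ((c : G) * k)⁻¹ ∈ A := by
    rw [← hPA]
    refine ⟨_, hcP, ?_⟩
    show (c : G) * (k * a * k⁻¹) * (c : G)⁻¹ = _
    group
  have h2 := step1 a haS hac _ h1
  have h3 : (c : G) * k * u * ((c : G) * k)⁻¹ = d := by
    have hcd : (c : G) * d = d * c := Subgroup.mem_centralizer_singleton_iff.mp c.2
    rw [show (c : G) * k * u * ((c : G) * k)⁻¹ = c * d * (c : G)⁻¹ by rw [hd]; group, hcd,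
      mul_inv_cancel_right]
  have h4 : ((c : G) * k * g) * a * ((c : G) * k * g)⁻¹ = d * a := by
    have e1 : d * a = ((c : G) * k * u * ((c : G) * k)⁻¹) * ((c : G) * k * a * ((c : G) * k)⁻¹) := by
      rw [h2, h3]
    rw [e1, hu, ha']; group
  have h5 := step1 a haS hac ((c : G) * k * g) (h4 ▸ A.mul_mem hk haA)
  rw [h4, mul_eq_right] at h5
  have : u = 1 := by
    rw [← conj_eq_one_iff (a := k), ← hd]; exact h5
  exact huA (this ▸ one_mem A)

end CfsgLib.Invol.QDW
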