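import Mathlib
import Cfsg.Prelude.Def_CaseTheorems
import Cfsg.Agent.Lib.Invol.QDW.WrModel
import Cfsg.Agent.Lib.Invol.QDW.WreathIsolated
import Cfsg.Agent.Lib.Invol.KleinSylow

/-!
# Fusion in a group with wreathed Sylow 2-subgroups
-/

set_option autoImplicit false

namespace CfsgLib.Invol.QDW.Wr

open CfsgLib.Invol

variable {r : ℕ} {G : Type*} [Group G] [Finite G] {S : Sylow 2 G} {ι : Wr (2 ^ (r + 2)) →* G}

/-- The abelian subgroup of index two. -/
abbrev UG (ι : Wr (2 ^ (r + 2)) →* G) : Subgroup G := (base (2 ^ (r + 2))).map ι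

/-- The subgroup generated by the quaternion group and the centre. -/
abbrev VG (ι : Wr (2 ^ (r + 2)) →* G) : Subgroup G := (diffTwo r).map ι

theorem involution_class (hι : Function.Injective ι) (hS : ι.range = (S : Subgroup G)) {t : G}
    (ht : orderOf t = 2) :
    IsConj t (ι (zW r)) ∨ IsConj t (ι (cW r)) ∨ IsConj t (ι (tW r)) := by
  obtain ⟨m, hm⟩ := exists_conj_model S ι hS (x := t) (j := 1) (by rw [ht, pow_one])
  have hmo : orderOf m = 2 := by rw [← orderOf_inj ι hι, ← orderOf_eq_of_isConj hm, ht]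
  rcases involution_cases hmo with rfl | h | h
  · exact Or.inl hm
  · exact Or.inr (Or.inl (hm.trans (MonoidHom.map_isConj ι h)))
  · exact Or.inr (Or.inr (hm.trans (MonoidHom.map_isConj ι h)))

theorem mem_S (hS : ι.range = (S : Subgroup G)) (m : Wr (2 ^ (r + 2))) : ι m ∈ (S : Subgroup G) :=
  hS ▸ ⟨m, rfl⟩

theorem S_le_centralizer_z (hS : ι.range = (S : Subgroup G)) :
    (S : Subgroup G) ≤ Subgroup.centralizer ({ι (zW r)} : Set G) := fun x hx => by
  obtain ⟨m, rfl⟩ := hS.symm ▸ hx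
  rw [Subgroup.mem_centralizer_singleton_iff, ← map_mul, ← map_mul, zW_central]

theorem UG_le_centralizer (ι : Wr (2 ^ (r + 2)) →* G) : UG ι ≤ Subgroup.centralizer (UG ι : Set G) := by
  rintro _ ⟨a, ha, rfl⟩
  refine Subgroup.mem_centralizer_iff.mpr ?_
  rintro _ ⟨b, hb, rfl⟩
  rw [← map_mul, ← map_mul, base_comm hb ha]

theorem sup_UG_centralizer (ι : Wr (2 ^ (r + 2)) →* G) :
    UG ι ⊔ Subgroup.centralizer (UG ι : Set G) = Subgroup.centralizer (UG ι : Set G) :=
  sup_eq_right.mpr (UG_le_centralizer ι)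

/-- The only abelian subgroup of the Sylow subgroup of that order. -/
theorem eq_UG (hι : Function.Injective ι) (hS : ι.range = (S : Subgroup G)) {A : Subgroup G}
    (hA : A ≤ (S : Subgroup G)) (hc : IsMulCommutative A) (hcard : Nat.card A = Nat.card (UG ι)) :
    A = UG ι := by
  rw [eq_map_comap S ι hS hA, UG]
  congr 1
  refine eq_base_of_comm ⟨⟨fun a b => ?_⟩⟩ ?_
  · apply (comapEquiv ι hι (hS ▸ hA)).injective
    rw [map_mul, map_mul, mul_comm']
  · rw [Nat.card_congr (comapEquiv ι hι (hS ▸ hA)).toEquiv, hcard, card_map_inj ι hι, card_base]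

theorem base_normal : (base (2 ^ (r + 2))).Normal := Subgroup.normal_of_index_eq_two index_base

theorem localData_U (hι : Function.Injective ι) (hS : ι.range = (S : Subgroup G)) :
    LocalData (UG ι) (S : Subgroup G) := by
  haveI : Fact (Nat.Prime 2) := ⟨Nat.prime_two⟩
  refine ⟨fun x hx => ?_, ?_, S.2, ?_, ?_, ?_⟩
  · obtain ⟨m, -, rfl⟩ := hx; exact mem_S hS m
  · rw [← hS]
    rintro _ ⟨m, rfl⟩
    haveI := base_normal (r := r)
    exact (map_normalizer_inf ι hι _ m).mpr (by rw [Subgroup.normalizer_eq_top]; trivial)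
  · rw [← hS, MonoidHom.range_eq_map, relIndex_map_inj ι hι, Subgroup.relIndex_top_right, index_base]
  · intro x hx hc
    obtain ⟨m, rfl⟩ := hS.symm ▸ hx
    have h1 := (mem_centralizer_map_iff' ι hι _ m).mp hc
    refine ⟨m, mem_base.mpr ?_, rfl⟩
    by_contra h
    have h2 := Subgroup.mem_centralizer_iff.mp h1 (cW r) (mem_base.mpr rfl)
    exact hf_ne_zero ((commute_swap_iff (by simpa using h) rfl).mp h2.symm)
  · intro R hR _
    obtain ⟨g, hg⟩ := CfsgLib.Transfer.exists_conj_mem_sylow S hR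
    refine Nat.card_le_card_of_injective (fun x => ⟨_, hg x x.2⟩) fun a b h => ?_
    exact Subtype.ext (mul_left_cancel (mul_right_cancel (congrArg Subtype.val h)))

theorem isKleinFour_omega (hι : Function.Injective ι) : IsKleinFour ((omegaBase r).map ι) := by
  have h : IsKleinFour (omegaBase r) := isKleinFour_of_sq card_omegaBase fun a ha => by
    obtain ⟨he, h1, h2⟩ := mem_omegaBase.mp ha
    ext <;> simp [he] <;> first | linear_combination h1 | linear_combination h2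
  haveI := h
  exact ⟨by rw [card_map_inj ι hι, card_omegaBase],
    by rw [← Monoid.exponent_eq_of_mulEquiv ((omegaBase r).equivMapOfInjective ι hι), IsKleinFour.exponent_two]⟩

theorem mem_omega_of_mem (hι : Function.Injective ι) {x : G} (hx : x ∈ UG ι) (h2 : x * x = 1) :
    x ∈ (omegaBase r).map ι := by
  obtain ⟨m, hm, rfl⟩ := hx
  refine ⟨m, mem_omegaBase.mpr ⟨mem_base.mp hm, ?_, ?_⟩, rfl⟩
  · have := congrArg Wr.i (hι ((map_mul ι m m).trans (h2.trans (map_one ι).symm)))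
    simp [mem_base.mp hm] at this; linear_combination this
  · have := congrArg Wr.j (hι ((map_mul ι m m).trans (h2.trans (map_one ι).symm)))
    simp [mem_base.mp hm] at this; linear_combination this

theorem omega_le (ι : Wr (2 ^ (r + 2)) →* G) : (omegaBase r).map ι ≤ UG ι :=
  Subgroup.map_mono fun _ ha => mem_base.mpr (mem_omegaBase.mp ha).1

theorem zW_mem_omega : zW r ∈ omegaBase r := mem_omegaBase.mpr ⟨rfl, two_hf, two_hf⟩

theorem cW_mem_omega : cW r ∈ omegaBase r := mem_omegaBase.mpr ⟨rfl, two_hf, by simp [cW]⟩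

theorem conj_mem_omega (hι : Function.Injective ι) {n x : G} (hn : n ∈ Subgroup.normalizer (UG ι : Set G))
    (hx : x ∈ (omegaBase r).map ι) : n * x * n⁻¹ ∈ (omegaBase r).map ι := by
  refine mem_omega_of_mem hι ((Subgroup.mem_normalizer_iff.mp hn _).mp (omega_le ι hx)) ?_
  haveI := isKleinFour_omega (r := r) hι
  have : x * x = 1 := congrArg Subtype.val (IsKleinFour.mul_self (⟨x, hx⟩ : (omegaBase r).map ι))
  rw [show n * x * n⁻¹ * (n * x * n⁻¹) = n * (x * x) * n⁻¹ by group, this, mul_one, mul_inv_cancel]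

/-- An element of odd order of the normaliser fixing an involution of `U` centralises `U`. -/
theorem odd_fix_U (hι : Function.Injective ι) {n : G} (hn : n ∈ Subgroup.normalizer (UG ι : Set G))
    (ho : Odd (orderOf n)) {y : G} (hy : y ∈ (omegaBase r).map ι) (hy1 : y ≠ 1) (hfix : n * y * n⁻¹ = y) :
    n ∈ Subgroup.centralizer (UG ι : Set G) := by
  haveI hk := isKleinFour_omega (r := r) hι
  have hp : IsPGroup 2 (UG ι) := (isPGroup_wr.to_subgroup _).map ι
  have hΩn : n ∈ Subgroup.normalizer (((omegaBase r).map ι : Subgroup G) : Set G) :=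
    mem_normalizer_of_forall fun x hx => conj_mem_omega hι hn hx
  have hy2 : orderOf y = 2 := by
    refine orderOf_eq_prime ?_ hy1
    rw [pow_two]; exact congrArg Subtype.val (IsKleinFour.mul_self (⟨y, hy⟩ : (omegaBase r).map ι))
  obtain ⟨w, hw, hwy⟩ : ∃ w ∈ (omegaBase r).map ι, w ∉ Subgroup.zpowers y := by
    by_contra h
    push Not at h
    have h2 := Subgroup.card_le_of_le (K := Subgroup.zpowers y) h
    rw [Nat.card_zpowers, hy2, card_map_inj ι hι, card_omegaBase] at h2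
    omega
  have hΩ : n ∈ Subgroup.centralizer (((omegaBase r).map ι : Subgroup G) : Set G) :=
    centralizes_of_cyclic (hp.to_le (omega_le ι)) hΩn ho hy hw
      (cover_of_card hy hw hwy (by rw [hy2, card_map_inj ι hι, card_omegaBase]))
      (by rw [hfix]; exact Subgroup.mem_zpowers _)
  refine centralizer_of_conjRestrict hn (aut_trivial_abelian hp (fun a b => Subtype.ext
    (Subgroup.mem_centralizer_iff.mp (UG_le_centralizer ι b.2) a a.2)) _ ho (conjRestrict_pow_orderOf hn) ?_)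
  intro x hx
  refine Subtype.ext ?_
  rw [conjRestrict_apply, ← Subgroup.mem_centralizer_iff.mp hΩ _ (mem_omega_of_mem hι x.2 (congrArg Subtype.val hx)),
    mul_inv_cancel_right]

theorem E_U_bound (hι : Function.Injective ι) :
    (Subgroup.normalizer (UG ι : Set G) ⊓ Subgroup.centralizer ({ι (zW r)} : Set G)).relIndex
      (Subgroup.normalizer (UG ι : Set G)) ≤ 3 := by
  have hk := isKleinFour_omega (r := r) hι
  have hz : ι (zW r) ∈ (omegaBase r).map ι := Subgroup.mem_map_of_mem _ zW_mem_omega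
  rw [← card_kleinFour_ne_one hk]
  refine relIndex_le_card (fun n => (⟨⟨(n : G) * ι (zW r) * (n : G)⁻¹, conj_mem_omega hι n.2 hz⟩,
    fun h => ?_⟩ : {a : (omegaBase r).map ι // a ≠ 1})) fun a b h => ?_
  · have h1 : ι (zW r) = 1 := conj_eq_one_iff.mp (congrArg Subtype.val h)
    have := orderOf_inj ι hι (zW r)
    rw [h1, orderOf_one, orderOf_zW] at this; omega
  · have h1 : (a : G) * ι (zW r) * (a : G)⁻¹ = (b : G) * ι (zW r) * (b : G)⁻¹ :=
      congrArg (fun u : {a : (omegaBase r).map ι // a ≠ 1} => ((u : (omegaBase r).map ι) : G)) h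
    refine Subgroup.mem_inf.mpr ⟨Subgroup.mul_mem _ (Subgroup.inv_mem _ a.2) b.2, Subgroup.mem_centralizer_singleton_iff.mpr ?_⟩
    rw [← mul_inv_eq_iff_eq_mul]
    calc (a : G)⁻¹ * b * ι (zW r) * ((a : G)⁻¹ * b)⁻¹ = (a : G)⁻¹ * ((b : G) * ι (zW r) * (b : G)⁻¹) * a := by group
      _ = ι (zW r) := by rw [← h1]; group

/-- The abelian subgroup. -/
theorem index_U (hι : Function.Injective ι) (hS : ι.range = (S : Subgroup G)) :
    ((Subgroup.centralizer (UG ι : Set G)).relIndex (Subgroup.normalizer (UG ι : Set G)) = 2 ∧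
      ¬ IsConj (ι (zW r)) (ι (cW r))) ∨
    ((Subgroup.centralizer (UG ι : Set G)).relIndex (Subgroup.normalizer (UG ι : Set G)) = 6 ∧
      IsConj (ι (zW r)) (ι (cW r))) := by
  haveI : Fact (Nat.Prime 2) := ⟨Nat.prime_two⟩
  set E := Subgroup.normalizer (UG ι : Set G) ⊓ Subgroup.centralizer ({ι (zW r)} : Set G) with hE
  have hL := localData_U (r := r) hι hS
  have hWE : (S : Subgroup G) ≤ E := le_inf hL.W_le (S_le_centralizer_z hS)
  have hz : ι (zW r) ∈ UG ι := Subgroup.mem_map_of_mem _ (mem_base.mpr rfl)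
  have hCN : Subgroup.centralizer (UG ι : Set G) ≤ E := fun x hx => by
    refine ⟨mem_normalizer_of_forall fun y hy => ?_,
      Subgroup.mem_centralizer_singleton_iff.mpr (Subgroup.mem_centralizer_iff.mp hx _ hz).symm⟩
    rw [← Subgroup.mem_centralizer_iff.mp hx y hy, mul_inv_cancel_right]; exact hy
  have hz1 : ι (zW r) ≠ 1 := fun h => by
    have := orderOf_inj ι hι (zW r); rw [h, orderOf_one, orderOf_zW] at this; omega
  obtain ⟨hidx, h13⟩ := local_index hL inf_le_left hWE hCN (E_U_bound hι) fun n hn ho =>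
    odd_fix_U hι hn.1 ho (Subgroup.mem_map_of_mem _ zW_mem_omega) hz1
      (mul_inv_eq_iff_eq_mul.mpr (Subgroup.mem_centralizer_singleton_iff.mp hn.2))
  rw [sup_UG_centralizer] at hidx
  rcases h13 with h1 | h1 <;> rw [h1] at hidx
  · refine Or.inl ⟨hidx, fun hconj => ?_⟩
    have hNE : Subgroup.normalizer (UG ι : Set G) ≤ E := Subgroup.relIndex_eq_one.mp h1
    obtain ⟨g, hg⟩ := isConj_iff.mp hconj.symm
    set C := Subgroup.centralizer ({ι (zW r)} : Set G) with hC
    have hT'C : (UG ι).map (MulAut.conj g).toMonoidHom ≤ C := by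
      rintro _ ⟨x, hx, rfl⟩
      show g * x * g⁻¹ ∈ C
      rw [hC, Subgroup.mem_centralizer_singleton_iff, ← hg,
        show g * x * g⁻¹ * (g * ι (cW r) * g⁻¹) = g * (x * ι (cW r)) * g⁻¹ by group,
        Subgroup.mem_centralizer_iff.mp (UG_le_centralizer ι (Subgroup.mem_map_of_mem _ (mem_base.mpr rfl))) x hx]
      group
    obtain ⟨c, hc, hcT⟩ := CfsgLib.Transfer.exists_conj_mem_sylow_of_le S (S_le_centralizer_z hS) hT'C
      (((isPGroup_wr.to_subgroup _).map ι).map _)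
    have hle : ∀ x ∈ UG ι, c * (g * x * g⁻¹) * c⁻¹ ∈ (S : Subgroup G) := fun x hx => hcT _ ⟨x, hx, rfl⟩
    have heq : (UG ι).map (MulAut.conj (c * g)).toMonoidHom = UG ι := by
      refine eq_UG hι hS ?_ ⟨⟨?_⟩⟩ (card_map_conj _ _)
      · rintro _ ⟨x, hx, rfl⟩
        have := hle x hx
        show c * g * x * (c * g)⁻¹ ∈ _
        rwa [show c * g * x * (c * g)⁻¹ = c * (g * x * g⁻¹) * c⁻¹ by group]
      · rintro ⟨_, a, ha, rfl⟩ ⟨_, b, hb, rfl⟩
        refine Subtype.ext ?_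
        simp only [Subgroup.coe_mul]
        rw [← map_mul, ← map_mul, Subgroup.mem_centralizer_iff.mp (UG_le_centralizer ι hb) a ha]
    have hn : c * g ∈ Subgroup.normalizer (UG ι : Set G) := mem_normalizer_iff_map_conj.mpr heq
    have hfix := mul_inv_eq_iff_eq_mul.mpr (Subgroup.mem_centralizer_singleton_iff.mp (hNE hn).2)
    have h2 : c * g * ι (cW r) * (c * g)⁻¹ = ι (zW r) := by
      rw [show c * g * ι (cW r) * (c * g)⁻¹ = c * (g * ι (cW r) * g⁻¹) * c⁻¹ by group, hg,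
        mul_inv_eq_iff_eq_mul.mpr (Subgroup.mem_centralizer_singleton_iff.mp hc)]
    have h3 : cW r = zW r := hι (mul_left_cancel (mul_right_cancel (h2.trans hfix.symm)))
    exact hf_ne_zero (congrArg Wr.j h3).symm
  · refine Or.inr ⟨hidx, ?_⟩
    obtain ⟨n, hnN, hnE⟩ : ∃ n ∈ Subgroup.normalizer (UG ι : Set G), n ∉ E := by
      by_contra h
      push Not at h
      rw [Subgroup.relIndex_eq_one.mpr h] at h1
      omega
    obtain ⟨m, hm, hme⟩ := conj_mem_omega hι hnN (Subgroup.mem_map_of_mem ι zW_mem_omega)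
    have hmo : orderOf m = 2 := by
      rw [← orderOf_inj ι hι, hme, ← MulAut.conj_apply, MulEquiv.orderOf_eq, orderOf_inj ι hι, orderOf_zW]
    rcases involution_cases hmo with rfl | h | h
    · exact absurd ⟨hnN, Subgroup.mem_centralizer_singleton_iff.mpr (mul_inv_eq_iff_eq_mul.mp hme.symm)⟩ hnE
    · exact (isConj_iff.mpr ⟨n, hme.symm⟩ : IsConj (ι (zW r)) (ι m)).trans (MonoidHom.map_isConj ι h)
    · exact absurd ((mem_omegaBase.mp hm).1.symm.trans (e_eq_of_isConj h)) Bool.false_ne_true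

theorem localData_V (hι : Function.Injective ι) (hS : ι.range = (S : Subgroup G)) :
    LocalData (VG ι) ((diffFour r).map ι) := by
  refine ⟨Subgroup.map_mono diffTwo_le, ?_, (isPGroup_wr.to_subgroup _).map ι, ?_, ?_, ?_⟩
  · rintro _ ⟨m, hm, rfl⟩
    exact (map_normalizer_inf ι hι _ m).mpr (by rw [normalizer_diffTwo]; exact hm)
  · rw [relIndex_map_inj ι hι, relIndex_diffTwo]
  · rintro _ ⟨m, -, rfl⟩ hc
    have h1 := Subgroup.mem_centralizer_iff.mp ((mem_centralizer_map_iff' ι hι _ m).mp hc) (tW r) tW_mem_diffTwo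
    refine ⟨m, ?_, rfl⟩
    rw [SetLike.mem_coe, mem_diffTwo]
    cases he : m.e
    · rw [(commute_swap_iff rfl he).mp h1, sub_self, mul_zero]
    · rw [← (commute_swap_swap_iff rfl he).mp h1]; simp [tW]
  · intro R hR hRN
    rw [card_map_inj ι hι]
    refine bound_of_model S ι hι hS ((isPGroup_wr.to_subgroup _).map ι) _ (fun E ⟨e⟩ => ?_) R hR hRN
    obtain ⟨s, hs⟩ := equiv_diffTwo_conj ((e.trans (Subgroup.equivMapOfInjective _ ι hι).symm).symm)
    rw [← normalizer_diffTwo, ← hs, ← map_normalizer, ← Nat.card_congr (mapEquiv (MulAut.conj s) _).toEquiv]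

theorem conj_center_VG (hι : Function.Injective ι) {n : G} (hn : n ∈ Subgroup.normalizer (VG ι : Set G))
    {m : Wr (2 ^ (r + 2))} (hm : m ∈ Subgroup.center (Wr (2 ^ (r + 2)))) :
    ∃ m' ∈ Subgroup.center (Wr (2 ^ (r + 2))), ι m' = n * ι m * n⁻¹ := by
  obtain ⟨m', hm', hme⟩ := (Subgroup.mem_normalizer_iff.mp hn _).mp
    (Subgroup.mem_map_of_mem ι (center_le_diffTwo hm))
  refine ⟨m', ?_, hme⟩
  have h1 : (⟨m', hm'⟩ : diffTwo r) ∈ Subgroup.center (diffTwo r) := by
    refine Subgroup.mem_center_iff.mpr fun y => Subtype.ext (hι ?_)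
    obtain ⟨u, hu, hue⟩ := (Subgroup.mem_normalizer_iff.mp (inv_mem hn) _).mp (Subgroup.mem_map_of_mem ι y.2)
    simp only [Subgroup.coe_mul, map_mul]
    have hcomm : ι m * ι u = ι u * ι m := by rw [← map_mul, ← map_mul, Subgroup.mem_center_iff.mp hm u]
    rw [hue, inv_inv] at hcomm
    rw [hme]
    calc ι (y : Wr (2 ^ (r + 2))) * (n * ι m * n⁻¹) = n * ((n⁻¹ * ι (y : Wr (2 ^ (r + 2))) * n) * ι m) * n⁻¹ := by group
      _ = n * (ι m * (n⁻¹ * ι (y : Wr (2 ^ (r + 2))) * n)) * n⁻¹ := by rw [hcomm]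
      _ = n * ι m * n⁻¹ * ι (y : Wr (2 ^ (r + 2))) := by group
  rw [← center_diffTwo]
  exact ⟨⟨m', hm'⟩, h1, rfl⟩

/-- The elements of the normaliser of `V` preserving its part in the base. -/
def EV (ι : Wr (2 ^ (r + 2)) →* G) : Subgroup G :=
  Subgroup.normalizer (VG ι : Set G) ⊓
    Subgroup.normalizer (((diffTwo r ⊓ base (2 ^ (r + 2))).map ι : Subgroup G) : Set G)

theorem mem_EV_of (hι : Function.Injective ι) {n : G} (hn : n ∈ Subgroup.normalizer (VG ι : Set G))
    {m : Wr (2 ^ (r + 2))} (hm : m.e = false) (hme : ι m = n * ι (cW r) * n⁻¹) : n ∈ EV ι := by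
  refine Subgroup.mem_inf.mpr ⟨hn, mem_normalizer_of_forall ?_⟩
  rintro _ ⟨u, ⟨hu, hub⟩, rfl⟩
  replace hub : u.e = false := mem_base.mp hub
  replace hu : 2 * (u.i - u.j) = 0 := mem_diffTwo.mp hu
  obtain ⟨v, hv, hve⟩ := (Subgroup.mem_normalizer_iff.mp hn _).mp
    (Subgroup.mem_map_of_mem ι (mem_diffTwo.mpr hu) : ι u ∈ VG ι)
  refine ⟨v, ⟨hv, mem_base.mpr ?_⟩, hve⟩
  have hdec : u = cW r ^ (if u.i = u.j then 0 else 1) * (⟨u.j, u.j, false⟩ : Wr (2 ^ (r + 2))) := by
    split_ifs with h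
    · rw [pow_zero, one_mul]; exact Wr.ext h rfl hub
    · rw [pow_one]
      have := (two_cancel hu).resolve_left fun h0 => h (sub_eq_zero.mp h0)
      ext <;> simp [cW, hub]
      linear_combination this
  obtain ⟨w, hw, hwe⟩ := conj_center_VG hι hn ((mem_center_iff two_le_N).mpr ⟨rfl, rfl⟩ :
    (⟨u.j, u.j, false⟩ : Wr (2 ^ (r + 2))) ∈ Subgroup.center _)
  have hv2 : v = m ^ (if u.i = u.j then 0 else 1) * w := hι (by
    rw [map_mul, map_pow, hve, hme, hwe]
    conv_lhs => rw [hdec, map_mul, map_pow]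
    rw [← MulAut.conj_apply, map_mul, map_pow]
    rfl)
  have hwc := ((mem_center_iff two_le_N).mp hw).1
  rw [hv2, mul_e, hwc]
  split_ifs <;> simp [hm]

theorem E_V_bound (hι : Function.Injective ι) :
    (EV ι).relIndex (Subgroup.normalizer (VG ι : Set G)) ≤ 3 := by
  have hc : ι (cW r) ∈ VG ι := Subgroup.mem_map_of_mem _ cW_mem_diffTwo
  have hmem : ∀ n : Subgroup.normalizer (VG ι : Set G), ∃ m ∈ diffTwo r, ι m = (n : G) * ι (cW r) * (n : G)⁻¹ :=
    fun n => (Subgroup.mem_normalizer_iff.mp n.2 _).mp hc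
  choose m hm hme using hmem
  have hnc : ∀ n, m n ∉ Subgroup.center (Wr (2 ^ (r + 2))) := fun n h => by
    obtain ⟨w, hw, hwe⟩ := conj_center_VG hι (Subgroup.inv_mem _ n.2) h
    rw [hme, show (n : G)⁻¹ * ((n : G) * ι (cW r) * (n : G)⁻¹) * ((n : G)⁻¹)⁻¹ = ι (cW r) by group] at hwe
    exact hf_ne_zero ((mem_center_iff two_le_N).mp (hι hwe ▸ hw)).2
  refine (relIndex_le_card (fun n => vClass (m n)) fun a b h => ?_).trans_eq (Nat.card_fin 3)
  have hcen := vClass_eq (hm a) (hm b) (hnc a) (hnc b) h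
  set w := (m a)⁻¹ * m b with hwdef
  have hn : (a : G)⁻¹ * b ∈ Subgroup.normalizer (VG ι : Set G) := Subgroup.mul_mem _ (Subgroup.inv_mem _ a.2) b.2
  obtain ⟨w', hw', hwe⟩ := conj_center_VG hι (Subgroup.inv_mem _ a.2) hcen
  refine mem_EV_of hι hn (m := cW r * w') (by rw [mul_e, ((mem_center_iff two_le_N).mp hw').1]; rfl) ?_
  calc ι (cW r * w') = ι (cW r) * ((a : G)⁻¹ * ι w * ((a : G)⁻¹)⁻¹) := by rw [map_mul, hwe]
    _ = (a : G)⁻¹ * (ι (m a) * ι w) * a := by rw [hme]; group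
    _ = (a : G)⁻¹ * ι (m b) * a := by rw [← map_mul, hwdef, mul_inv_cancel_left]
    _ = (a : G)⁻¹ * b * ι (cW r) * ((a : G)⁻¹ * b)⁻¹ := by rw [hme]; group

theorem odd_EV (hι : Function.Injective ι) {n : G} (hn : n ∈ EV ι) (ho : Odd (orderOf n)) :
    n ∈ Subgroup.centralizer (VG ι : Set G) := by
  let e := (diffTwo r).equivMapOfInjective ι hι
  set φ := (MulAut.congr e).symm (conjRestrict hn.1) with hφdef
  have hφ : φ ^ orderOf n = 1 := by rw [hφdef, ← map_pow, conjRestrict_pow_orderOf, map_one]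
  have happ : ∀ x, ι ((φ x : diffTwo r) : Wr (2 ^ (r + 2))) = n * ι (x : Wr (2 ^ (r + 2))) * n⁻¹ := fun x => by
    show ι ((e.symm (conjRestrict hn.1 (e x)) : diffTwo r) : Wr (2 ^ (r + 2))) = _
    rw [← Subgroup.coe_equivMapOfInjective_apply (f := ι) (hf := hι), MulEquiv.apply_symm_apply, conjRestrict_apply]
    rfl
  have h1 : φ = 1 := by
    refine aut_trivial center_le_diffTwo (w := ⟨tW r, tW_mem_diffTwo⟩) rfl φ ho hφ fun x hx => ?_
    obtain ⟨m, ⟨-, hm⟩, hme⟩ := (Subgroup.mem_normalizer_iff.mp hn.2 _).mp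
      (Subgroup.mem_map_of_mem ι ⟨x.2, mem_base.mpr hx⟩ :
        ι (x : Wr (2 ^ (r + 2))) ∈ (diffTwo r ⊓ base (2 ^ (r + 2))).map ι)
    rw [← happ] at hme
    rw [← hι hme]
    exact mem_base.mp hm
  refine Subgroup.mem_centralizer_iff.mpr ?_
  rintro _ ⟨x, hx, rfl⟩
  have h2 := happ ⟨x, hx⟩
  rw [h1, MulAut.one_apply] at h2
  exact eq_mul_inv_iff_mul_eq.mp h2

/-- A conjugate of the centraliser of the swap inside the base moves `V`. -/
theorem not_EV_of_move (hι : Function.Injective ι) (hS : ι.range = (S : Subgroup G)) {g : G}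
    (hg : ∀ x ∈ (swapCentre r).map ι, g * x * g⁻¹ ∈ UG ι) :
    ∃ n ∈ Subgroup.normalizer (VG ι : Set G), n ∉ EV ι := by
  haveI : Fact (Nat.Prime 2) := ⟨Nat.prime_two⟩
  set X := (swapCentre r).map ι with hX
  set X' := X.map (MulAut.conj g).toMonoidHom with hX'
  set N' := Subgroup.normalizer (X' : Set G) with hN'
  have hX'U : X' ≤ UG ι := by rintro _ ⟨x, hx, rfl⟩; exact hg x hx
  have hUN : UG ι ≤ N' := fun u hu => mem_normalizer_of_forall fun x hx => by
    rw [Subgroup.mem_centralizer_iff.mp (UG_le_centralizer ι (hX'U hx)) u hu, mul_inv_cancel_right]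
    exact hx
  have hVN : (VG ι).map (MulAut.conj g).toMonoidHom ≤ N' := by
    rintro _ ⟨_, ⟨v, hv, rfl⟩, rfl⟩
    refine mem_normalizer_of_forall ?_
    rintro _ ⟨_, ⟨x, hx, rfl⟩, rfl⟩
    refine ⟨ι (v * x * v⁻¹), Subgroup.mem_map_of_mem _ (diffTwo_normalizes_swapCentre hv hx), ?_⟩
    simp [mul_assoc]
  obtain ⟨P, hP⟩ := ((isPGroup_wr.to_subgroup _).map ι |>.of_equiv
    (Subgroup.subgroupOfEquivOfLe hUN).symm : IsPGroup 2 ((UG ι).subgroupOf N')).exists_le_sylow
  obtain ⟨h, hh⟩ := CfsgLib.Transfer.exists_conj_mem_sylow P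
    (S := ((VG ι).map (MulAut.conj g).toMonoidHom).subgroupOf N')
    ((((isPGroup_wr.to_subgroup _).map ι).map _).of_equiv (Subgroup.subgroupOfEquivOfLe hVN).symm)
  obtain ⟨k, hk⟩ := CfsgLib.Transfer.exists_conj_mem_sylow S (P.2.map N'.subtype)
  have hkP : ∀ p : N', p ∈ (P : Subgroup N') → k * (p : G) * k⁻¹ ∈ (S : Subgroup G) :=
    fun p hp => hk _ ⟨p, hp, rfl⟩
  have hkU : (UG ι).map (MulAut.conj k).toMonoidHom = UG ι := by
    refine eq_UG hι hS ?_ ⟨⟨?_⟩⟩ (card_map_conj _ _)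
    · rintro _ ⟨x, hx, rfl⟩
      exact hkP ⟨x, hUN hx⟩ (hP (Subgroup.mem_subgroupOf.mpr hx))
    · rintro ⟨_, a, ha, rfl⟩ ⟨_, b, hb, rfl⟩
      refine Subtype.ext ?_
      simp only [Subgroup.coe_mul]
      rw [← map_mul, ← map_mul, Subgroup.mem_centralizer_iff.mp (UG_le_centralizer ι hb) a ha]
  set n0 := k * (h : G) * g with hn0
  have hVS : (VG ι).map (MulAut.conj n0).toMonoidHom ≤ (S : Subgroup G) := by
    rintro _ ⟨v, hv, rfl⟩
    have h1 := hkP _ (hh ⟨g * v * g⁻¹, hVN ⟨v, hv, rfl⟩⟩ ⟨v, hv, rfl⟩)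
    show n0 * v * n0⁻¹ ∈ _
    convert h1 using 1
    simp [hn0, mul_assoc]
  set E := ((VG ι).map (MulAut.conj n0).toMonoidHom).comap ι with hEdef
  obtain ⟨s, hs⟩ := equiv_diffTwo_conj (E := E)
    ((((diffTwo r).equivMapOfInjective ι hι).trans (mapEquiv (MulAut.conj n0) _)).trans
      (comapEquiv ι hι (hS ▸ hVS)).symm)
  set n := ι s * n0 with hn
  have hnN : n ∈ Subgroup.normalizer (VG ι : Set G) := by
    refine mem_normalizer_of_forall fun v hv => ?_
    obtain ⟨m, hm⟩ := hS.symm ▸ hVS ⟨v, hv, rfl⟩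
    have hmE : m ∈ E := by
      show ι m ∈ (VG ι).map (MulAut.conj n0).toMonoidHom
      rw [hm]
      exact ⟨v, hv, rfl⟩
    refine ⟨s * m * s⁻¹, hs ▸ ⟨m, hmE, rfl⟩, ?_⟩
    rw [map_mul, map_mul, map_inv, hm]
    show ι s * (n0 * v * n0⁻¹) * (ι s)⁻¹ = _
    rw [hn]; group
  refine ⟨n, hnN, fun hE => ?_⟩
  have hU' : ∀ u ∈ UG ι, ι s * u * (ι s)⁻¹ ∈ UG ι := by
    rintro _ ⟨a, ha, rfl⟩
    exact ⟨s * a * s⁻¹, mem_base.mpr (base_map_conj s (mem_base.mp ha)), by simp⟩
  have htX : ι (tW r) ∈ X := Subgroup.mem_map_of_mem _ (mem_swapCentre.mpr rfl)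
  have h1 : n * ι (tW r) * n⁻¹ ∈ UG ι := by
    have h2 : (h : G) * (g * ι (tW r) * g⁻¹) * (h : G)⁻¹ ∈ X' :=
      (Subgroup.mem_normalizer_iff.mp h.2 _).mp ⟨_, htX, rfl⟩
    have h3 : k * ((h : G) * (g * ι (tW r) * g⁻¹) * (h : G)⁻¹) * k⁻¹ ∈ UG ι := hkU ▸ ⟨_, hX'U h2, rfl⟩
    convert hU' _ h3 using 1
    rw [hn, hn0]; group
  obtain ⟨a, ha, hae⟩ := (Subgroup.mem_normalizer_iff.mp hnN _).mp
    (Subgroup.mem_map_of_mem ι tW_mem_diffTwo)
  obtain ⟨b, hb, hbe⟩ := h1
  have hab : n * ι (tW r) * n⁻¹ ∈ (diffTwo r ⊓ base (2 ^ (r + 2))).map ι :=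
    ⟨a, ⟨ha, by rw [hι (hae.trans hbe.symm)]; exact hb⟩, hae⟩
  obtain ⟨u, ⟨-, hu⟩, hue⟩ := (Subgroup.mem_normalizer_iff.mp hE.2 _).mpr hab
  rw [hι hue] at hu
  exact Bool.noConfusion (mem_base.mp hu)

/-- The centraliser of the swap moves into the base when the swap fuses into it. -/
theorem exists_move (hι : Function.Injective ι) (hS : ι.range = (S : Subgroup G))
    (h : IsConj (ι (zW r)) (ι (tW r)) ∨ IsConj (ι (cW r)) (ι (tW r))) : ∃ g : G, ∀ x ∈ (swapCentre r).map ι, g * x * g⁻¹ ∈ UG ι := by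
  haveI : Fact (Nat.Prime 2) := ⟨Nat.prime_two⟩
  set X := (swapCentre r).map ι with hX
  have htc : ∀ x ∈ X, x * ι (tW r) = ι (tW r) * x := by
    rintro _ ⟨m, hm, rfl⟩
    rw [← map_mul, ← map_mul]
    congr 1
    rw [SetLike.mem_coe, mem_swapCentre] at hm
    cases he : m.e <;> ext <;> simp [tW, he, hm]
  have hXp : IsPGroup 2 X := (isPGroup_wr.to_subgroup _).map ι
  have hXcomm : ∀ x ∈ X, ∀ y ∈ X, x * y = y * x := by
    rintro _ ⟨a, ha, rfl⟩ _ ⟨b, hb, rfl⟩
    rw [← map_mul, ← map_mul]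
    congr 1
    rw [SetLike.mem_coe, mem_swapCentre] at ha hb
    cases hae : a.e <;> cases hbe : b.e <;> ext <;> simp [hae, hbe, ha, hb, add_comm]
  by_cases hzt : IsConj (ι (zW r)) (ι (tW r))
  · obtain ⟨g, hg⟩ := isConj_iff.mp hzt.symm
    have hXC : X.map (MulAut.conj g).toMonoidHom ≤ Subgroup.centralizer ({ι (zW r)} : Set G) := by
      rintro _ ⟨x, hx, rfl⟩
      show g * x * g⁻¹ ∈ _
      rw [Subgroup.mem_centralizer_singleton_iff, ← hg,
        show g * x * g⁻¹ * (g * ι (tW r) * g⁻¹) = g * (x * ι (tW r)) * g⁻¹ by group, htc x hx]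
      group
    obtain ⟨c, hc, hcX⟩ := CfsgLib.Transfer.exists_conj_mem_sylow_of_le S (S_le_centralizer_z hS) hXC (hXp.map _)
    refine ⟨c * g, fun x hx => ?_⟩
    have hin : ∀ y ∈ X, ∃ m, ι m = c * g * y * (c * g)⁻¹ := fun y hy => by
      have := hcX _ ⟨y, hy, rfl⟩
      obtain ⟨m, hm⟩ := hS.symm ▸ this
      exact ⟨m, hm.trans (by show c * (g * y * g⁻¹) * c⁻¹ = _; group)⟩
    obtain ⟨m, hm⟩ := hin x hx
    refine ⟨m, mem_base.mpr ?_, hm⟩
    by_contra hme
    rw [Bool.not_eq_false] at hme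
    -- the image is then the centraliser of a swap, where `z` is a square
    set Y := (X.map (MulAut.conj (c * g)).toMonoidHom).comap ι with hY
    have hYm : ∀ a, a ∈ Y → a * m = m * a := by
      rintro a ⟨y, hy, hye⟩
      apply hι
      rw [map_mul, map_mul, ← hye, hm, ← MulAut.conj_apply, MulEquiv.coe_toMonoidHom, ← map_mul, ← map_mul,
        hXcomm y hy x hx]
    have hXr : X.map (MulAut.conj (c * g)).toMonoidHom ≤ ι.range := by
      rintro _ ⟨y, hy, rfl⟩; exact hin y hy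
    have hcard : Nat.card Y = 2 * 2 ^ (r + 2) := by
      rw [Nat.card_congr (comapEquiv ι hι hXr).toEquiv, card_map_conj, card_map_inj ι hι, card_swapCentre]
    have hle := card_le_of_commute ((Y ⊔ Subgroup.center _ : Subgroup _) : Set (Wr (2 ^ (r + 2)))) hme (fun a ha => by
      have h1 : Y ⊔ Subgroup.center _ ≤ Subgroup.centralizer ({m} : Set (Wr (2 ^ (r + 2)))) :=
        sup_le (fun b hb => Subgroup.mem_centralizer_singleton_iff.mpr (hYm b hb)) (Subgroup.center_le_centralizer _)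
      exact Subgroup.mem_centralizer_singleton_iff.mp (h1 ha))
    have hq : (⟨qt r, qt r, false⟩ : Wr (2 ^ (r + 2))) ∈ Y := by
      have heq := Subgroup.eq_of_le_of_card_ge (le_sup_left : Y ≤ Y ⊔ Subgroup.center _) (hle.trans_eq hcard.symm)
      rw [heq]
      exact Subgroup.mem_sup_right ((mem_center_iff two_le_N).mpr ⟨rfl, rfl⟩)
    obtain ⟨y, hy, hye⟩ := hq
    have hsq : ι (tW r) = y * y := by
      have e1 : (MulAut.conj (c * g)) (y * y) = (MulAut.conj (c * g)) (ι (tW r)) := by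
        rw [map_mul, ← MulEquiv.coe_toMonoidHom, hye, ← map_mul, MulEquiv.coe_toMonoidHom, MulAut.conj_apply,
          show c * g * ι (tW r) * (c * g)⁻¹ = c * (g * ι (tW r) * g⁻¹) * c⁻¹ by group, hg,
          mul_inv_eq_iff_eq_mul.mpr (Subgroup.mem_centralizer_singleton_iff.mp hc)]
        congr 1
        ext <;> simp [zW] <;> linear_combination two_qt (r := r)
      exact ((MulAut.conj (c * g)).injective e1).symm
    obtain ⟨u, -, rfl⟩ := hy
    rw [← map_mul] at hsq
    have := congrArg Wr.e (hι hsq)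
    simp [tW] at this
  · have hct := h.resolve_left hzt
    have hzc : ¬ IsConj (ι (zW r)) (ι (cW r)) := fun h' => hzt (h'.trans hct)
    obtain ⟨g, hg⟩ := isConj_iff.mp hct.symm
    set C := Subgroup.centralizer ({ι (cW r)} : Set G) with hC
    have hXC : X.map (MulAut.conj g).toMonoidHom ≤ C := by
      rintro _ ⟨x, hx, rfl⟩
      show g * x * g⁻¹ ∈ _
      rw [hC, Subgroup.mem_centralizer_singleton_iff, ← hg,
        show g * x * g⁻¹ * (g * ι (tW r) * g⁻¹) = g * (x * ι (tW r)) * g⁻¹ by group, htc x hx]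
      group
    have hUC : UG ι ≤ C := fun u hu => Subgroup.mem_centralizer_singleton_iff.mpr
      (Subgroup.mem_centralizer_iff.mp (UG_le_centralizer ι (Subgroup.mem_map_of_mem _ (mem_base.mpr rfl))) u hu)
    obtain ⟨P, hP⟩ := ((isPGroup_wr.to_subgroup _).map ι |>.of_equiv
      (Subgroup.subgroupOfEquivOfLe hUC).symm : IsPGroup 2 ((UG ι).subgroupOf C)).exists_le_sylow
    obtain ⟨h', hh⟩ := CfsgLib.Transfer.exists_conj_mem_sylow P
      (S := (X.map (MulAut.conj g).toMonoidHom).subgroupOf C)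
      ((hXp.map _).of_equiv (Subgroup.subgroupOfEquivOfLe hXC).symm)
    obtain ⟨k, hk⟩ := CfsgLib.Transfer.exists_conj_mem_sylow S (P.2.map C.subtype)
    have hkP : ∀ p : C, p ∈ (P : Subgroup C) → k * (p : G) * k⁻¹ ∈ (S : Subgroup G) :=
      fun p hp => hk _ ⟨p, hp, rfl⟩
    have hkU : (UG ι).map (MulAut.conj k).toMonoidHom = UG ι := by
      refine eq_UG hι hS ?_ ⟨⟨?_⟩⟩ (card_map_conj _ _)
      · rintro _ ⟨x, hx, rfl⟩
        exact hkP ⟨x, hUC hx⟩ (hP (Subgroup.mem_subgroupOf.mpr hx))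
      · rintro ⟨_, a, ha, rfl⟩ ⟨_, b, hb, rfl⟩
        refine Subtype.ext ?_
        simp only [Subgroup.coe_mul]
        rw [← map_mul, ← map_mul, Subgroup.mem_centralizer_iff.mp (UG_le_centralizer ι hb) a ha]
    refine ⟨k * (h' : G) * g, fun x hx => ?_⟩
    set p : C := h' * ⟨g * x * g⁻¹, hXC ⟨x, hx, rfl⟩⟩ * h'⁻¹ with hp
    have hpP : p ∈ (P : Subgroup C) := hh _ ⟨x, hx, rfl⟩
    have he : k * (h' : G) * g * x * (k * (h' : G) * g)⁻¹ = k * (p : G) * k⁻¹ := by
      simp [hp, mul_assoc]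
    rw [he]
    obtain ⟨a, ha⟩ := hS.symm ▸ hkP p hpP
    obtain ⟨b, hb, hbe⟩ : k * ι (cW r) * k⁻¹ ∈ UG ι := hkU ▸ ⟨_, Subgroup.mem_map_of_mem _ (mem_base.mpr rfl), rfl⟩
    refine ⟨a, mem_base.mpr ?_, ha⟩
    by_contra hae
    rw [Bool.not_eq_false] at hae
    have hab : a * b = b * a := hι (by
      rw [map_mul, map_mul, ha, hbe,
        show k * (p : G) * k⁻¹ * (k * ι (cW r) * k⁻¹) = k * ((p : G) * ι (cW r)) * k⁻¹ by group,
        Subgroup.mem_centralizer_singleton_iff.mp p.2]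
      group)
    have hij := (commute_swap_iff hae (mem_base.mp hb)).mp hab
    have hbo : orderOf b = 2 := by
      rw [← orderOf_inj ι hι, hbe, ← MulAut.conj_apply, MulEquiv.orderOf_eq, orderOf_inj ι hι, orderOf_cW]
    rcases orderOf_two_iff.mp hbo with ⟨hbf, h1, -, hne⟩ | ⟨hbf, -⟩
    · have hbz : b = zW r := by
        rcases two_cancel h1 with h2 | h2
        · exact absurd ⟨h2, hij ▸ h2⟩ hne
        · exact Wr.ext h2 (hij ▸ h2) hbf
      subst hbz
      exact hzc (isConj_iff.mpr ⟨k, hbe.symm⟩).symm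
    · rw [mem_base.mp hb] at hbf; exact Bool.noConfusion hbf

theorem EV_diffFour (hι : Function.Injective ι) {x : G} (hx : x ∈ (diffFour r).map ι) :
    x ∈ Subgroup.normalizer (((diffTwo r ⊓ base (2 ^ (r + 2))).map ι : Subgroup G) : Set G) := by
  have hbn := base_normal (r := r)
  obtain ⟨m, hm, rfl⟩ := hx
  refine (map_normalizer_inf ι hι _ m).mpr (mem_normalizer_of_forall fun u hu => ⟨?_, hbn.conj_mem u hu.2 m⟩)
  have h1 : m ∈ Subgroup.normalizer (diffTwo r : Set (Wr (2 ^ (r + 2)))) := by rw [normalizer_diffTwo]; exact hm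
  exact (Subgroup.mem_normalizer_iff.mp h1 u).mp hu.1

theorem EV_centralizer (hι : Function.Injective ι) : Subgroup.centralizer (VG ι : Set G) ≤ EV ι := fun x hx => by
  refine Subgroup.mem_inf.mpr ⟨mem_normalizer_of_forall fun y hy => ?_, mem_normalizer_of_forall fun y hy => ?_⟩
  · rw [← Subgroup.mem_centralizer_iff.mp hx y hy, mul_inv_cancel_right]; exact hy
  · rw [← Subgroup.mem_centralizer_iff.mp hx y (Subgroup.map_mono inf_le_left hy), mul_inv_cancel_right]
    exact hy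

/-- The quaternion part. -/
theorem index_V (hι : Function.Injective ι) (hS : ι.range = (S : Subgroup G)) :
    ((VG ι ⊔ Subgroup.centralizer (VG ι : Set G)).relIndex (Subgroup.normalizer (VG ι : Set G)) = 2 ∧
      ¬ IsConj (ι (cW r)) (ι (tW r))) ∨
    ((VG ι ⊔ Subgroup.centralizer (VG ι : Set G)).relIndex (Subgroup.normalizer (VG ι : Set G)) = 6 ∧
      IsConj (ι (cW r)) (ι (tW r))) := by
  have hL := localData_V (r := r) hι hS
  have hWE : (diffFour r).map ι ≤ EV ι := fun x hx => Subgroup.mem_inf.mpr ⟨hL.W_le hx, EV_diffFour hι hx⟩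
  have hCE := EV_centralizer (r := r) hι
  obtain ⟨hidx, h13⟩ := local_index hL inf_le_left hWE hCE (E_V_bound hι) fun n hn ho => odd_EV hι hn ho
  rcases h13 with h1 | h1 <;> rw [h1] at hidx
  · refine Or.inl ⟨hidx, fun hconj => ?_⟩
    obtain ⟨g, hg⟩ := exists_move hι hS (Or.inr hconj)
    obtain ⟨n, hn, hnE⟩ := not_EV_of_move hι hS hg
    exact hnE (Subgroup.relIndex_eq_one.mp h1 hn)
  · refine Or.inr ⟨hidx, ?_⟩
    change (EV ι).relIndex _ = 3 at h1
    obtain ⟨n, hnN, hnE⟩ : ∃ n ∈ Subgroup.normalizer (VG ι : Set G), n ∉ EV ι := by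
      by_contra h
      push Not at h
      rw [Subgroup.relIndex_eq_one.mpr h] at h1
      omega
    obtain ⟨m, hm, hme⟩ := (Subgroup.mem_normalizer_iff.mp hnN _).mp
      (Subgroup.mem_map_of_mem ι cW_mem_diffTwo)
    have hmt : m.e = true := by
      by_contra h
      exact hnE (mem_EV_of hι hnN (by simpa using h) hme)
    have hmo : orderOf m = 2 := by
      rw [← orderOf_inj ι hι, hme, ← MulAut.conj_apply, MulEquiv.orderOf_eq, orderOf_inj ι hι, orderOf_cW]
    rcases involution_cases hmo with rfl | h | h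
    · exact Bool.noConfusion hmt
    · rw [e_eq_of_isConj h] at hmt; exact Bool.noConfusion hmt
    · exact (isConj_iff.mpr ⟨n, hme.symm⟩ : IsConj (ι (cW r)) (ι m)).trans (MonoidHom.map_isConj ι h)

/-- Fusion of the swap with the central involution moves it into the base. -/
theorem cW_conj_tW_of_zW (hι : Function.Injective ι) (hS : ι.range = (S : Subgroup G))
    (h : IsConj (ι (zW r)) (ι (tW r))) : IsConj (ι (cW r)) (ι (tW r)) := by
  rcases index_V hι hS with ⟨hidx, -⟩ | ⟨-, h'⟩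
  · obtain ⟨g, hg⟩ := exists_move hι hS (Or.inl h)
    obtain ⟨n, hn, hnE⟩ := not_EV_of_move hι hS hg
    exfalso
    obtain ⟨hidx', h13⟩ := local_index (localData_V hι hS) (E := EV ι) inf_le_left
      (fun x hx => Subgroup.mem_inf.mpr ⟨(localData_V hι hS).W_le hx, EV_diffFour hι hx⟩) (EV_centralizer hι)
      (E_V_bound hι) fun n hn ho => odd_EV hι hn ho
    rcases h13 with h1 | h1
    · exact hnE (Subgroup.relIndex_eq_one.mp h1 hn)
    · rw [h1, hidx] at hidx'; omega
  · exact h'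

end CfsgLib.Invol.QDW.Wr
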