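import Mathlib
import Cfsg.Prelude.Def_CaseTheorems
import Cfsg.Agent.Lib.Invol.QDW.WrFusion
import Cfsg.Agent.Lib.Invol.QDW.ClassCount
import Cfsg.Agent.Lib.Transfer.Basic

/-!
# The four fusion patterns of a wreathed Sylow 2-subgroup
-/

set_option autoImplicit false

namespace CfsgLib.Invol.QDW.Wr

open CfsgLib.Invol

variable {r : ℕ} {G : Type*} [Group G] [Finite G] {S : Sylow 2 G} {ι : Wr (2 ^ (r + 2)) →* G}

theorem card_involutions_one (hι : Function.Injective ι) (hS : ι.range = (S : Subgroup G))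
    (hzc : IsConj (ι (zW r)) (ι (cW r))) (hct : IsConj (ι (cW r)) (ι (tW r))) :
    Nat.card {C : ConjClasses G // ∃ t : G, orderOf t = 2 ∧ ConjClasses.mk t = C} = 1 :=
  card_classes_eq_one (a := ι (zW r)) (by rw [orderOf_inj ι hι, orderOf_zW]) fun _ ht => by
    rcases involution_class hι hS ht with h | h | h
    · exact h
    · exact h.trans hzc.symm
    · exact h.trans (hzc.trans hct).symm

theorem card_involutions_two_c (hι : Function.Injective ι) (hS : ι.range = (S : Subgroup G))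
    (hzc : ¬ IsConj (ι (zW r)) (ι (cW r))) (hct : IsConj (ι (cW r)) (ι (tW r))) :
    Nat.card {C : ConjClasses G // ∃ t : G, orderOf t = 2 ∧ ConjClasses.mk t = C} = 2 :=
  card_classes_eq_two (MulEquiv.refl G) 2 (by rw [orderOf_inj ι hι, orderOf_zW])
    (by rw [orderOf_inj ι hι, orderOf_cW]) hzc fun _ ht => by
    rcases involution_class hι hS ht with h | h | h
    · exact Or.inl h
    · exact Or.inr h
    · exact Or.inr (h.trans hct.symm)

theorem card_involutions_two_z (hι : Function.Injective ι) (hS : ι.range = (S : Subgroup G))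
    (hzc : IsConj (ι (zW r)) (ι (cW r))) (hct : ¬ IsConj (ι (cW r)) (ι (tW r))) :
    Nat.card {C : ConjClasses G // ∃ t : G, orderOf t = 2 ∧ ConjClasses.mk t = C} = 2 :=
  card_classes_eq_two (MulEquiv.refl G) 2 (by rw [orderOf_inj ι hι, orderOf_cW])
    (by rw [orderOf_inj ι hι, orderOf_tW]) hct fun _ ht => by
    rcases involution_class hι hS ht with h | h | h
    · exact Or.inl (h.trans hzc)
    · exact Or.inl h
    · exact Or.inr h

theorem card_involutions_three (hι : Function.Injective ι) (hS : ι.range = (S : Subgroup G))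
    (hzc : ¬ IsConj (ι (zW r)) (ι (cW r))) (hct : ¬ IsConj (ι (cW r)) (ι (tW r))) :
    Nat.card {C : ConjClasses G // ∃ t : G, orderOf t = 2 ∧ ConjClasses.mk t = C} = 3 :=
  card_classes_eq_three (MulEquiv.refl G) 2 (by rw [orderOf_inj ι hι, orderOf_zW])
    (by rw [orderOf_inj ι hι, orderOf_cW]) (by rw [orderOf_inj ι hι, orderOf_tW]) hzc
    (fun h => hct (cW_conj_tW_of_zW hι hS h)) hct fun _ ht => involution_class hι hS ht

/-! ## The abelian subgroup as a group of commutators -/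

theorem exists_commutator_cover (hι : Function.Injective ι) (hS : ι.range = (S : Subgroup G))
    (hzc : IsConj (ι (zW r)) (ι (cW r))) :
    ∃ n ∈ Subgroup.normalizer (UG ι : Set G), Odd (orderOf n) ∧
      ∀ u ∈ UG ι, ∃ v ∈ UG ι, u = n * v * n⁻¹ * v⁻¹ := by
  have h6 : (UG ι ⊔ Subgroup.centralizer (UG ι : Set G)).relIndex (Subgroup.normalizer (UG ι : Set G)) = 6 := by
    rw [sup_UG_centralizer]; exact ((index_U hι hS).resolve_left fun h => h.2 hzc).1
  obtain ⟨n, hn, ho, hnC⟩ := exists_odd_of_six (localData_U hι hS) h6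
  refine ⟨n, hn, ho, ?_⟩
  have hcomm : ∀ a ∈ UG ι, ∀ b ∈ UG ι, a * b = b * a := fun a ha b hb =>
    Subgroup.mem_centralizer_iff.mp (UG_le_centralizer ι hb) a ha
  let f : UG ι → UG ι := fun v => ⟨n * v * n⁻¹ * (v : G)⁻¹,
    mul_mem ((Subgroup.mem_normalizer_iff.mp hn _).mp v.2) (inv_mem v.2)⟩
  have hinj : Function.Injective f := by
    intro a b h
    have h1 : n * (a : G) * n⁻¹ * (a : G)⁻¹ = n * (b : G) * n⁻¹ * (b : G)⁻¹ := congrArg Subtype.val h
    have hb' := (Subgroup.mem_normalizer_iff.mp hn _).mp b.2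
    have hfix : n * ((b : G)⁻¹ * a) * n⁻¹ = (b : G)⁻¹ * a := by
      calc n * ((b : G)⁻¹ * a) * n⁻¹ = (n * (b : G) * n⁻¹)⁻¹ * (n * (a : G) * n⁻¹ * (a : G)⁻¹) * a := by group
        _ = (n * (b : G) * n⁻¹)⁻¹ * (n * (b : G) * n⁻¹ * (b : G)⁻¹) * a := by rw [h1]
        _ = (b : G)⁻¹ * a := by group
    by_contra hne
    set d : UG ι := b⁻¹ * a with hd
    have hd1 : d ≠ 1 := fun e => hne (inv_mul_eq_one.mp e).symm
    have hp : IsPGroup 2 (UG ι) := (isPGroup_wr.to_subgroup _).map ι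
    obtain ⟨t, ht⟩ := IsPGroup.iff_orderOf.mp hp d
    have htpos : t ≠ 0 := fun e => hd1 (orderOf_eq_one_iff.mp (by rw [ht, e, pow_zero]))
    obtain ⟨t', rfl⟩ : ∃ t', t = t' + 1 := ⟨t - 1, by omega⟩
    set y := d ^ 2 ^ t' with hy
    have hyo : orderOf y = 2 := by
      rw [hy, orderOf_pow' _ (by positivity), ht, Nat.gcd_eq_right (pow_dvd_pow 2 (by omega)), pow_succ,
        Nat.mul_div_cancel_left _ (by positivity)]
    have hy2 : (y : G) * y = 1 := by
      rw [← Subgroup.coe_mul, ← pow_two, ← hyo, pow_orderOf_eq_one]; rfl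
    refine hnC (odd_fix_U hι hn ho (mem_omega_of_mem hι y.2 hy2) ?_ ?_)
    · intro e
      rw [show y = 1 from Subtype.ext e, orderOf_one] at hyo
      omega
    · rw [hy, SubmonoidClass.coe_pow, ← conj_pow]
      exact congrArg (· ^ 2 ^ t') hfix
  intro u hu
  obtain ⟨v, hv⟩ := Finite.surjective_of_injective hinj ⟨u, hu⟩
  exact ⟨v, v.2, (congrArg Subtype.val hv).symm⟩

/-- Both fusions: no subgroup of index two. -/
theorem no_index_two (hι : Function.Injective ι) (hS : ι.range = (S : Subgroup G))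
    (hzc : IsConj (ι (zW r)) (ι (cW r))) (hct : IsConj (ι (cW r)) (ι (tW r))) (H : Subgroup G) :
    H.index ≠ 2 := by
  intro h
  haveI hHn := Subgroup.normal_of_index_eq_two h
  obtain ⟨n, hn, ho, hcov⟩ := exists_commutator_cover hι hS hzc
  have hnH : n ∈ H := by
    obtain ⟨j, hj⟩ := ho
    have h1 : n ^ orderOf n = 1 := pow_orderOf_eq_one n
    rw [hj, pow_succ, pow_mul] at h1
    have h2 : (n ^ 2) ^ j ∈ H := H.pow_mem (by rw [pow_two]; exact Subgroup.mul_self_mem_of_index_two h n) j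
    rw [← inv_mem_iff, ← eq_inv_of_mul_eq_one_left h1]
    exact h2
  have hU : ∀ u ∈ UG ι, u ∈ H := fun u hu => by
    obtain ⟨v, -, rfl⟩ := hcov u hu
    rw [show n * v * n⁻¹ * v⁻¹ = n * (v * n⁻¹ * v⁻¹) by group]
    exact H.mul_mem hnH (hHn.conj_mem _ (H.inv_mem hnH) v)
  have ht : ι (tW r) ∈ H := by
    obtain ⟨g, hg⟩ := isConj_iff.mp hct
    exact hg ▸ hHn.conj_mem _ (hU _ (Subgroup.mem_map_of_mem _ (mem_base.mpr rfl))) g
  have hle : (S : Subgroup G) ≤ H := by
    rw [← hS]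
    rintro _ ⟨m, rfl⟩
    cases he : m.e
    · exact hU _ (Subgroup.mem_map_of_mem _ (mem_base.mpr he))
    · rw [show m = (⟨m.i, m.j, false⟩ : Wr (2 ^ (r + 2))) * tW r by ext <;> simp [tW, he], map_mul]
      exact H.mul_mem (hU _ (Subgroup.mem_map_of_mem _ (mem_base.mpr rfl))) ht
  haveI : Fact (Nat.Prime 2) := ⟨Nat.prime_two⟩
  have := Subgroup.index_dvd_of_le hle
  rw [h] at this
  exact S.not_dvd_index this

/-! ## Homomorphisms on the model -/

/-- The parity of the swap part. -/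
def chiE (r : ℕ) : Wr (2 ^ (r + 2)) →* Multiplicative (ZMod 2) :=
  MonoidHom.mk' (fun a => Multiplicative.ofAdd (cond a.e 1 0)) (by
    rintro ⟨a, b, e⟩ ⟨c, d, f⟩
    rw [← ofAdd_add]
    congr 1
    cases e <;> cases f <;> simp <;> decide)

/-- The sum of the coordinates, corrected on swaps. -/
def chiS (r : ℕ) : Wr (2 ^ (r + 2)) →* Multiplicative (ZMod (2 ^ (r + 2))) :=
  MonoidHom.mk' (fun a => Multiplicative.ofAdd (a.i + a.j + cond a.e (hf r) 0)) (by
    rintro ⟨a, b, e⟩ ⟨c, d, f⟩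
    rw [← ofAdd_add]
    congr 1
    cases e <;> cases f <;> simp <;>
      first | ring1 | linear_combination two_hf (r := r) | linear_combination -(two_hf (r := r)))

theorem two_elems (a y : Multiplicative (ZMod 2)) : a ≠ 1 → y = 1 ∨ y = a := by revert a y; decide

theorem sq_two (a : Multiplicative (ZMod 2)) : a ^ 2 = 1 := by revert a; decide

theorem tW_sq : tW r ^ 2 = 1 := by rw [pow_two]; ext <;> simp [tW]

theorem chiE_apply (a : Wr (2 ^ (r + 2))) : chiE r a = Multiplicative.ofAdd (cond a.e 1 0) := rfl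
theorem chiS_apply (a : Wr (2 ^ (r + 2))) :
    chiS r a = Multiplicative.ofAdd (a.i + a.j + cond a.e (hf r) 0) := rfl

theorem chiS_eq_one {a : Wr (2 ^ (r + 2))} : chiS r a = 1 ↔ a ∈ sumEq r := by
  rw [chiS_apply, ofAdd_eq_one, mem_sumEq]
  cases a.e <;> simp only [cond_true, cond_false, add_zero]
  constructor <;> intro h
  · linear_combination h - (two_hf (r := r))
  · linear_combination h + (two_hf (r := r))

/-- The generator of the first coordinate. -/
def gW (r : ℕ) : Wr (2 ^ (r + 2)) := ⟨1, 0, false⟩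

theorem gW_pow (k : ℕ) : gW r ^ k = ⟨(k : ZMod (2 ^ (r + 2))), 0, false⟩ := by
  obtain ⟨h1, h2, h3⟩ := pow_base (gW r) rfl k
  refine Wr.ext ?_ ?_ h1
  · rw [h2]; simp [gW]
  · rw [h3]; simp [gW]

/-- A homomorphism to an abelian group is determined by two values. -/
theorem hom_apply {A : Type*} [CommGroup A] (φ : Wr (2 ^ (r + 2)) →* A) (a : Wr (2 ^ (r + 2))) :
    φ a = φ (gW r) ^ (a.i.val + a.j.val) * φ (tW r) ^ (cond a.e 1 0 : ℕ) := by
  have hdec : a = gW r ^ a.i.val * (tW r * gW r ^ a.j.val * (tW r)⁻¹) * tW r ^ (cond a.e 1 0 : ℕ) := by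
    rw [gW_pow, gW_pow, ZMod.natCast_rightInverse a.i, ZMod.natCast_rightInverse a.j, conj_base]
    cases he : a.e <;> simp only [cond_true, cond_false, pow_zero, pow_one, mul_one] <;> ext <;> simp [tW, he]
  conv_lhs => rw [hdec]
  simp only [map_mul, map_pow, map_inv, pow_add]
  rw [mul_inv_cancel_comm]

theorem cW_eq_pow : cW r = gW r ^ 2 ^ (r + 1) := by
  rw [gW_pow, cW, hf]; push_cast; rfl

/-! ## Fixed centre -/

theorem isolated_zW (hι : Function.Injective ι) (hS : ι.range = (S : Subgroup G))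
    (hzc : ¬ IsConj (ι (zW r)) (ι (cW r))) (hzt : ¬ IsConj (ι (zW r)) (ι (tW r))) :
    Cfsg.IsIsolatedInvolution (ι (zW r)) := by
  refine CfsgLib.Invol.isolated_of_sylow S (by rw [orderOf_inj ι hι, orderOf_zW]) (mem_S hS _) fun g hg => ?_
  obtain ⟨m, hm⟩ := hS.symm ▸ hg
  have hc : IsConj (ι (zW r)) (ι m) := isConj_iff.mpr ⟨g, hm.symm⟩
  have hmo : orderOf m = 2 := by rw [← orderOf_inj ι hι, ← orderOf_eq_of_isConj hc, orderOf_inj ι hι, orderOf_zW]
  rcases involution_cases hmo with rfl | h | h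
  · exact hm.symm
  · exact absurd (hc.trans (MonoidHom.map_isConj ι h)) hzc
  · exact absurd (hc.trans (MonoidHom.map_isConj ι h)) hzt

theorem center_fixed (hW : Cfsg.IsWreathed (S : Subgroup G)) (hι : Function.Injective ι)
    (hS : ι.range = (S : Subgroup G)) (hzc : ¬ IsConj (ι (zW r)) (ι (cW r)))
    (hzt : ¬ IsConj (ι (zW r)) (ι (tW r))) {a : Wr (2 ^ (r + 2))}
    (ha : a ∈ Subgroup.center (Wr (2 ^ (r + 2)))) (g : G) (hg : g * ι a * g⁻¹ ∈ (S : Subgroup G)) :
    g * ι a * g⁻¹ = ι a :=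
  wreathed_center_fixed S hW (mem_S hS _) (isolated_zW hι hS hzc hzt) (mem_S hS a) (fun s hs => by
    obtain ⟨m, rfl⟩ := hS.symm ▸ hs
    rw [← map_mul, ← map_mul, Subgroup.mem_center_iff.mp ha m]) g hg

theorem move_base (hW : Cfsg.IsWreathed (S : Subgroup G)) (hι : Function.Injective ι)
    (hS : ι.range = (S : Subgroup G)) (hzc : ¬ IsConj (ι (zW r)) (ι (cW r)))
    (hzt : ¬ IsConj (ι (zW r)) (ι (tW r))) {m : Wr (2 ^ (r + 2))} (hm : m.e = false)
    (hmc : m ∉ Subgroup.center (Wr (2 ^ (r + 2)))) {A : Subgroup G} (hA : IsPGroup 2 A)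
    (hAC : A ≤ Subgroup.centralizer ({ι m} : Set G)) :
    ∃ h ∈ Subgroup.centralizer ({ι m} : Set G), ∀ x ∈ A, h * x * h⁻¹ ∈ UG ι := by
  haveI : Fact (Nat.Prime 2) := ⟨Nat.prime_two⟩
  set C := Subgroup.centralizer ({ι m} : Set G) with hC
  have hcomm : ∀ a ∈ UG ι, ∀ b ∈ UG ι, a * b = b * a := fun a ha b hb =>
    Subgroup.mem_centralizer_iff.mp (UG_le_centralizer ι hb) a ha
  have hUC : UG ι ≤ C := fun u hu => Subgroup.mem_centralizer_singleton_iff.mpr
    (hcomm u hu _ (Subgroup.mem_map_of_mem _ (mem_base.mpr hm)))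
  obtain ⟨P, hP⟩ := ((isPGroup_wr.to_subgroup _).map ι |>.of_equiv
    (Subgroup.subgroupOfEquivOfLe hUC).symm : IsPGroup 2 ((UG ι).subgroupOf C)).exists_le_sylow
  obtain ⟨h, hh⟩ := CfsgLib.Transfer.exists_conj_mem_sylow P (S := A.subgroupOf C)
    (hA.of_equiv (Subgroup.subgroupOfEquivOfLe hAC).symm)
  obtain ⟨k, hk⟩ := CfsgLib.Transfer.exists_conj_mem_sylow S (P.2.map C.subtype)
  have hkP : ∀ p : C, p ∈ (P : Subgroup C) → k * (p : G) * k⁻¹ ∈ (S : Subgroup G) :=
    fun p hp => hk _ ⟨p, hp, rfl⟩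
  have hkU : (UG ι).map (MulAut.conj k).toMonoidHom = UG ι := by
    refine eq_UG hι hS ?_ ⟨⟨?_⟩⟩ (card_map_conj _ _)
    · rintro _ ⟨x, hx, rfl⟩
      exact hkP ⟨x, hUC hx⟩ (hP (Subgroup.mem_subgroupOf.mpr hx))
    · rintro ⟨_, a, ha, rfl⟩ ⟨_, b, hb, rfl⟩
      refine Subtype.ext ?_
      simp only [Subgroup.coe_mul]
      rw [← map_mul, ← map_mul, hcomm a ha b hb]
  refine ⟨h, h.2, fun x hx => ?_⟩
  set p : C := h * ⟨x, hAC hx⟩ * h⁻¹ with hp
  have hpP : p ∈ (P : Subgroup C) := hh _ hx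
  obtain ⟨a, ha⟩ := hS.symm ▸ hkP p hpP
  obtain ⟨b, hb, hbe⟩ : k * ι m * k⁻¹ ∈ UG ι := hkU ▸ ⟨_, Subgroup.mem_map_of_mem _ (mem_base.mpr hm), rfl⟩
  have hin : k * (p : G) * k⁻¹ ∈ UG ι := by
    refine ⟨a, mem_base.mpr ?_, ha⟩
    by_contra hae
    rw [Bool.not_eq_false] at hae
    have hab : a * b = b * a := hι (by
      rw [map_mul, map_mul, ha, hbe,
        show k * (p : G) * k⁻¹ * (k * ι m * k⁻¹) = k * ((p : G) * ι m) * k⁻¹ by group,
        Subgroup.mem_centralizer_singleton_iff.mp p.2]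
      group)
    have hbc : b ∈ Subgroup.center (Wr (2 ^ (r + 2))) :=
      (mem_center_iff two_le_N).mpr ⟨mem_base.mp hb, (commute_swap_iff hae (mem_base.mp hb)).mp hab⟩
    have hf := center_fixed hW hι hS hzc hzt hbc k⁻¹ (by
      rw [hbe, show k⁻¹ * (k * ι m * k⁻¹) * k⁻¹⁻¹ = ι m by group]; exact mem_S hS m)
    conv_lhs at hf => rw [hbe, show k⁻¹ * (k * ι m * k⁻¹) * k⁻¹⁻¹ = ι m by group]
    exact hmc (hι hf ▸ hbc)
  obtain ⟨u, hu, hue⟩ : k * (p : G) * k⁻¹ ∈ (UG ι).map (MulAut.conj k).toMonoidHom := by rw [hkU]; exact hin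
  have hup : u = (p : G) := (MulAut.conj k).injective (by rw [← MulEquiv.coe_toMonoidHom, hue]; rfl)
  rw [hup, hp] at hu
  exact hu

theorem normalizer_U_acts (hι : Function.Injective ι) (hS : ι.range = (S : Subgroup G))
    (hzc : ¬ IsConj (ι (zW r)) (ι (cW r))) {n : G} (hn : n ∈ Subgroup.normalizer (UG ι : Set G))
    {a : Wr (2 ^ (r + 2))} (ha : a.e = false) :
    ∃ s : Wr (2 ^ (r + 2)), n * ι a * n⁻¹ = ι (s * a * s⁻¹) := by
  have h2 := ((index_U hι hS).resolve_right fun h => hzc h.2).1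
  rw [Subgroup.relIndex] at h2
  have haU : ι a ∈ UG ι := Subgroup.mem_map_of_mem _ (mem_base.mpr ha)
  have hL := localData_U (r := r) hι hS
  set t : Subgroup.normalizer (UG ι : Set G) := ⟨ι (tW r), hL.W_le (mem_S hS _)⟩ with ht
  have htC : t ∉ (Subgroup.centralizer (UG ι : Set G)).subgroupOf (Subgroup.normalizer (UG ι : Set G)) := by
    rw [Subgroup.mem_subgroupOf]
    intro h
    obtain ⟨u, hu, hue⟩ := hL.W_inf _ (mem_S hS _) h
    rw [hι hue] at hu
    exact Bool.noConfusion (mem_base.mp hu)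
  by_cases hnC : n ∈ Subgroup.centralizer (UG ι : Set G)
  · refine ⟨1, ?_⟩
    rw [← Subgroup.mem_centralizer_iff.mp hnC _ haU, mul_inv_cancel_right, one_mul, inv_one, mul_one]
  · refine ⟨tW r, ?_⟩
    have hm : t⁻¹ * ⟨n, hn⟩ ∈ (Subgroup.centralizer (UG ι : Set G)).subgroupOf (Subgroup.normalizer (UG ι : Set G)) :=
      (Subgroup.mul_mem_iff_of_index_two h2).mpr (iff_of_false (fun h => htC (inv_mem_iff.mp h))
        (by rw [Subgroup.mem_subgroupOf]; exact hnC))
    rw [Subgroup.mem_subgroupOf] at hm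
    set c := (((t⁻¹ * ⟨n, hn⟩ : Subgroup.normalizer (UG ι : Set G))) : G) with hc
    have hce : c = (ι (tW r))⁻¹ * n := rfl
    have h3 : c * ι a * c⁻¹ = ι a := by rw [← Subgroup.mem_centralizer_iff.mp hm _ haU, mul_inv_cancel_right]
    calc n * ι a * n⁻¹ = ι (tW r) * (c * ι a * c⁻¹) * (ι (tW r))⁻¹ := by rw [hce]; group
      _ = ι (tW r * a * (tW r)⁻¹) := by rw [h3, map_mul, map_mul, map_inv]

theorem chiS_fusion (hW : Cfsg.IsWreathed (S : Subgroup G)) (hι : Function.Injective ι)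
    (hS : ι.range = (S : Subgroup G)) (hzc : ¬ IsConj (ι (zW r)) (ι (cW r)))
    (hzt : ¬ IsConj (ι (zW r)) (ι (tW r))) (i : ZMod (2 ^ (r + 2))) {m : Wr (2 ^ (r + 2))} {u : G}
    (h : ι m = u * ι ⟨i, 0, false⟩ * u⁻¹) : chiS r m = chiS r ⟨i, 0, false⟩ := by
  set a : Wr (2 ^ (r + 2)) := ⟨i, 0, false⟩ with ha
  by_cases hi : i = 0
  · have ha1 : a = 1 := Wr.ext hi rfl rfl
    rw [ha1, map_one, mul_one, mul_inv_cancel, ← map_one ι] at h
    rw [hι h, ha1]
  have hac : a ∉ Subgroup.center (Wr (2 ^ (r + 2))) := fun hc => hi ((mem_center_iff two_le_N).mp hc).2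
  by_cases hmc : m ∈ Subgroup.center (Wr (2 ^ (r + 2)))
  · exfalso
    have hback : ι a = u⁻¹ * ι m * u⁻¹⁻¹ := by rw [h]; group
    have hf := center_fixed hW hι hS hzc hzt hmc u⁻¹ (hback ▸ mem_S hS a)
    exact hac (hι (hback.trans hf) ▸ hmc)
  cases he : m.e
  · -- conjugate inside the normaliser of `U`
    have haU : ι a ∈ UG ι := Subgroup.mem_map_of_mem _ (mem_base.mpr rfl)
    have hAC : (UG ι).map (MulAut.conj u).toMonoidHom ≤ Subgroup.centralizer ({ι m} : Set G) := by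
      rintro _ ⟨x, hx, rfl⟩
      show u * x * u⁻¹ ∈ _
      rw [Subgroup.mem_centralizer_singleton_iff, h,
        show u * x * u⁻¹ * (u * ι a * u⁻¹) = u * (x * ι a) * u⁻¹ by group,
        Subgroup.mem_centralizer_iff.mp (UG_le_centralizer ι haU) x hx]
      group
    obtain ⟨h', hh', hmove⟩ := move_base hW hι hS hzc hzt he hmc (((isPGroup_wr.to_subgroup _).map ι).map _) hAC
    have hn : h' * u ∈ Subgroup.normalizer (UG ι : Set G) := mem_normalizer_of_forall fun x hx => by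
      have := hmove _ ⟨x, hx, rfl⟩
      show h' * u * x * (h' * u)⁻¹ ∈ _
      rwa [show h' * u * x * (h' * u)⁻¹ = h' * (u * x * u⁻¹) * h'⁻¹ by group]
    obtain ⟨s, hs⟩ := normalizer_U_acts hι hS hzc hn (a := a) rfl
    have hma : m = s * a * s⁻¹ := hι (by
      rw [← hs, show h' * u * ι a * (h' * u)⁻¹ = h' * (u * ι a * u⁻¹) * h'⁻¹ by group, ← h,
        mul_inv_eq_iff_eq_mul.mpr (Subgroup.mem_centralizer_singleton_iff.mp hh')])
    rw [hma, map_mul, map_mul, map_inv, mul_inv_cancel_comm]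
  · -- a swap
    have hm2 : m * m ∈ Subgroup.center (Wr (2 ^ (r + 2))) := by
      rw [sq_swap he, mem_center_iff two_le_N]; exact ⟨rfl, rfl⟩
    have hback : ι (a * a) = u⁻¹ * ι (m * m) * u⁻¹⁻¹ := by rw [map_mul, map_mul, h]; group
    have hfix := center_fixed hW hι hS hzc hzt hm2 u⁻¹ (hback ▸ mem_S hS _)
    have heq : a * a = m * m := hι (hback.trans hfix)
    rw [sq_swap he, ha] at heq
    have h1 := congrArg Wr.i heq
    have h2 := congrArg Wr.j heq
    simp at h1 h2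
    have h3 : i = hf r := (two_cancel (x := i) (by linear_combination h1 - h2)).resolve_left hi
    rw [chiS_apply, chiS_apply, he, ha]
    congr 1
    simp only [cond_true, cond_false, add_zero]
    linear_combination -h2 - h3

theorem isPGroup_N : IsPGroup 2 (Multiplicative (ZMod (2 ^ (r + 2)))) :=
  IsPGroup.of_card (n := r + 2) (by rw [Nat.card_congr Multiplicative.toAdd, Nat.card_zmod])

theorem isPGroup_two : IsPGroup 2 (Multiplicative (ZMod 2)) :=
  IsPGroup.of_card (n := 1) (by rw [Nat.card_congr Multiplicative.toAdd, Nat.card_zmod, pow_one])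

/-- The transfer to the first coordinate. -/
theorem exists_sigma (hW : Cfsg.IsWreathed (S : Subgroup G)) (hι : Function.Injective ι)
    (hS : ι.range = (S : Subgroup G)) (hzc : ¬ IsConj (ι (zW r)) (ι (cW r)))
    (hzt : ¬ IsConj (ι (zW r)) (ι (tW r))) :
    ∃ σ : G →* Multiplicative (ZMod (2 ^ (r + 2))), σ.ker.index = 2 ^ (r + 2) ∧
      σ (ι (gW r)) = chiS r (gW r) ^ (S : Subgroup G).index := by
  obtain ⟨σ, -, -, h3, h4⟩ := exists_kernel S ι hι hS isPGroup_N (chiS r) (gW r)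
    (fun x => ⟨(x.toAdd.val : ℤ), by
      show chiS r (gW r) ^ (x.toAdd.val : ℤ) = x
      rw [zpow_natCast, chiS_apply, ← ofAdd_nsmul]
      simp [gW]⟩)
    (fun k u m hm => by
      rw [← map_pow, gW_pow] at hm
      rw [chiS_fusion hW hι hS hzc hzt _ hm, ← gW_pow, map_pow])
  exact ⟨σ, by rw [h3, Nat.card_congr Multiplicative.toAdd, Nat.card_zmod], h4⟩

/-- The transfer detecting swaps. -/
theorem exists_tau (hι : Function.Injective ι) (hS : ι.range = (S : Subgroup G))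
    (hct : ¬ IsConj (ι (cW r)) (ι (tW r))) :
    ∃ τ : G →* Multiplicative (ZMod 2), τ.ker.index = 2 ∧ τ (ι (tW r)) ≠ 1 := by
  haveI : Fact (Nat.Prime 2) := ⟨Nat.prime_two⟩
  have ht1 : chiE r (tW r) ≠ 1 := by rw [chiE_apply]; simp [tW]
  have hgen : ∀ x, x ∈ Subgroup.zpowers (chiE r (tW r)) := by
    intro x
    rcases two_elems _ x ht1 with rfl | rfl
    · exact one_mem _
    · exact Subgroup.mem_zpowers _
  obtain ⟨τ, -, -, h3, h4⟩ := exists_kernel S ι hι hS isPGroup_two (chiE r) (tW r) hgen (by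
    intro j u m hm
    have ht2 : tW r ^ 2 = 1 := tW_sq
    rcases Nat.even_or_odd j with ⟨i, rfl⟩ | ⟨i, rfl⟩
    · have hp : tW r ^ (i + i) = 1 := by rw [← two_mul, pow_mul, ht2, one_pow]
      rw [← map_pow, hp, map_one, mul_one, mul_inv_cancel] at hm
      rw [hι (hm.trans (map_one ι).symm), map_one, ← map_pow, hp, map_one]
    · have hp : tW r ^ (2 * i + 1) = tW r := by rw [pow_succ (tW r), pow_mul (tW r), ht2, one_pow, one_mul]
      rw [← map_pow, hp] at hm
      rw [← map_pow, hp]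
      have hc : IsConj (ι (tW r)) (ι m) := isConj_iff.mpr ⟨u, hm.symm⟩
      have hmo : orderOf m = 2 := by rw [← orderOf_inj ι hι, ← orderOf_eq_of_isConj hc, orderOf_inj ι hι, orderOf_tW]
      rcases involution_cases hmo with rfl | h | h
      · exact absurd (cW_conj_tW_of_zW hι hS hc.symm) hct
      · exact absurd (hc.trans (MonoidHom.map_isConj ι h)).symm hct
      · rw [chiE_apply, chiE_apply, e_eq_of_isConj h])
  refine ⟨τ, by rw [h3, Nat.card_congr Multiplicative.toAdd, Nat.card_zmod], ?_⟩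
  rw [h4]
  obtain ⟨j, hj⟩ := Nat.not_even_iff_odd.mp fun he => S.not_dvd_index (Even.two_dvd he)
  rw [hj, pow_succ, pow_mul, sq_two, one_pow, one_mul]
  exact ht1

theorem inf_ker (hS : ι.range = (S : Subgroup G)) {A : Type*} [Group A] (τ : G →* A) :
    (S : Subgroup G) ⊓ τ.ker = (τ.comp ι).ker.map ι := by
  ext x
  constructor
  · rintro ⟨hx, hk⟩
    obtain ⟨m, rfl⟩ := hS.symm ▸ hx
    exact ⟨m, hk, rfl⟩
  · rintro ⟨m, hm, rfl⟩
    exact ⟨hS ▸ ⟨m, rfl⟩, hm⟩

/-- The case with `U` alone fused. -/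
theorem case_U (hι : Function.Injective ι) (hS : ι.range = (S : Subgroup G))
    (hzc : IsConj (ι (zW r)) (ι (cW r))) (hct : ¬ IsConj (ι (cW r)) (ι (tW r))) :
    ∃ K : Subgroup G, K.Normal ∧ K.index = 2 ∧ UG ι ≤ K ∧ (∀ H : Subgroup ↥K, H.index ≠ 2) := by
  obtain ⟨τ, hidx, hτt⟩ := exists_tau hι hS hct
  obtain ⟨n, hn, ho, hcov⟩ := exists_commutator_cover hι hS hzc
  have hτn : τ n = 1 := map_eq_one_of_odd isPGroup_two τ ho
  have hUK : UG ι ≤ τ.ker := fun u hu => by
    obtain ⟨v, -, rfl⟩ := hcov u hu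
    rw [MonoidHom.mem_ker, map_mul, map_mul, map_mul, map_inv, map_inv, hτn]
    simp
  refine ⟨τ.ker, inferInstance, hidx, hUK, fun L hL => false_of_inf_le S τ.ker L hL ?_⟩
  rintro x ⟨hx, hxk⟩
  obtain ⟨m, rfl⟩ := hS.symm ▸ hx
  have hme : m.e = false := by
    by_contra he
    rw [Bool.not_eq_false] at he
    apply hτt
    have hu : τ (ι ⟨m.i, m.j, false⟩) = 1 := hUK (Subgroup.mem_map_of_mem _ (mem_base.mpr rfl))
    have e : m = (⟨m.i, m.j, false⟩ : Wr (2 ^ (r + 2))) * tW r := by ext <;> simp [tW, he]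
    replace hxk : τ (ι m) = 1 := hxk
    rw [e, map_mul, map_mul, hu, one_mul] at hxk
    exact hxk
  obtain ⟨v, hv, hve⟩ := hcov _ (Subgroup.mem_map_of_mem ι (mem_base.mpr hme))
  rw [hve]
  exact commutator_mem_map hL hτn (hUK hv)

/-- A normal complement from a cyclic kernel. -/
theorem complement_of_cyclic (hι : Function.Injective ι) (hS : ι.range = (S : Subgroup G)) {A : Type*}
    [Group A] (hA : IsPGroup 2 A) (ρ : G →* A) (hcyc : IsCyclic (ρ.comp ι).ker) :
    Cfsg.HasNormalPComplement 2 G := by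
  haveI : Fact (Nat.Prime 2) := ⟨Nat.prime_two⟩
  set K := ρ.ker with hK
  obtain ⟨P⟩ : Nonempty (Sylow 2 K) := inferInstance
  obtain ⟨e⟩ := sylow_of_normal S K P
  haveI hPc : IsCyclic (P : Subgroup K) :=
    ((e.trans (MulEquiv.subgroupCongr (inf_ker hS ρ))).trans
      ((ρ.comp ι).ker.equivMapOfInjective ι hι).symm).isCyclic.mpr hcyc
  have hKc : Cfsg.HasNormalPComplement 2 K := by
    by_cases hev : Even (Nat.card K)
    · exact CfsgLib.Transfer.hasNormalPComplement_of_normalizer_le_centralizer P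
        (hPc.normalizer_le_centralizer (P := P) ((Nat.minFac_eq_two_iff _).mpr hev.two_dvd))
    · exact CfsgLib.Transfer.hasNormalPComplement_of (N := ⊤) inferInstance
        (by rw [Subgroup.card_top]; exact Nat.coprime_two_right.mpr (Nat.not_even_iff_odd.mp hev)) (k := 0)
        (by rw [Subgroup.index_top, pow_zero])
  rw [CfsgLib.Transfer.hasNormalPComplement_iff_pResidual] at hKc ⊢
  refine Nat.Coprime.coprime_dvd_left ?_ hKc
  rw [← Subgroup.card_map_of_injective K.subtype_injective]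
  refine Subgroup.card_dvd_of_le ((Subgroup.closure_le _).mpr fun g hg => ?_)
  have hgK : g ∈ K := map_eq_one_of_odd hA ρ (Nat.coprime_two_right.mp hg)
  refine ⟨⟨g, hgK⟩, CfsgLib.Transfer.mem_pResidual_of_coprime ?_, rfl⟩
  rw [Subgroup.orderOf_mk]; exact hg

theorem eq_one_of_pow_index {A : Type*} [Group A] (hA : IsPGroup 2 A) {x : A}
    (h : x ^ (S : Subgroup G).index = 1) : x = 1 := by
  haveI : Fact (Nat.Prime 2) := ⟨Nat.prime_two⟩
  obtain ⟨t, ht⟩ := hA x
  exact orderOf_eq_one_iff.mp (Nat.eq_one_of_dvd_coprimes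
    (Nat.Coprime.pow_left t ((Nat.prime_two.coprime_iff_not_dvd).mpr S.not_dvd_index))
    (orderOf_dvd_of_pow_eq_one ht) (orderOf_dvd_of_pow_eq_one h))

theorem chiS_gW_pow (i j : ZMod (2 ^ (r + 2))) :
    chiS r (gW r) ^ (i.val + j.val) = chiS r ⟨i, j, false⟩ := by
  have := hom_apply (chiS r) ⟨i, j, false⟩
  simpa using this.symm

/-- The nilpotent case. -/
theorem case_nilpotent (hW : Cfsg.IsWreathed (S : Subgroup G)) (hι : Function.Injective ι)
    (hS : ι.range = (S : Subgroup G)) (hzc : ¬ IsConj (ι (zW r)) (ι (cW r)))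
    (hct : ¬ IsConj (ι (cW r)) (ι (tW r))) : Cfsg.HasNormalPComplement 2 G := by
  have hzt : ¬ IsConj (ι (zW r)) (ι (tW r)) := fun h => hct (cW_conj_tW_of_zW hι hS h)
  obtain ⟨σ, -, hσg⟩ := exists_sigma hW hι hS hzc hzt
  obtain ⟨τ, -, hτt⟩ := exists_tau hι hS hct
  refine complement_of_cyclic hι hS (A := Multiplicative (ZMod (2 ^ (r + 2))) × Multiplicative (ZMod 2))
    (IsPGroup.of_card (n := r + 3) (by
      rw [Nat.card_prod, Nat.card_congr Multiplicative.toAdd, Nat.card_zmod, Nat.card_congr Multiplicative.toAdd,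
        Nat.card_zmod]; ring))
    (σ.prod τ) ?_
  haveI : IsCyclic (anti r) := antiEquiv.isCyclic.mpr inferInstance
  suffices hle : ((σ.prod τ).comp ι).ker ≤ anti r from
    (Subgroup.subgroupOfEquivOfLe hle).isCyclic.mp inferInstance
  intro a ha
  have h1 : σ (ι a) = 1 := congrArg Prod.fst ha
  have h2 : τ (ι a) = 1 := congrArg Prod.snd ha
  have e1 := hom_apply (σ.comp ι) a
  have e2 := hom_apply (τ.comp ι) a
  simp only [MonoidHom.comp_apply] at e1 e2
  rw [h1, hσg, ← pow_mul, mul_comm (Subgroup.index _), pow_mul, chiS_gW_pow] at e1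
  rw [h2] at e2
  cases he : a.e
  · rw [he, cond_false, pow_zero, mul_one] at e1
    refine mem_anti.mpr ⟨he, ?_⟩
    have h3 := eq_one_of_pow_index (S := S) isPGroup_N e1.symm
    rw [chiS_apply, ofAdd_eq_one] at h3
    simpa using h3
  · exfalso
    rw [he, cond_true, pow_one] at e1 e2
    -- squaring shows that the sum is even
    have ht2 : σ (ι (tW r)) ^ 2 = 1 := by
      rw [← map_pow, ← map_pow, tW_sq, map_one, map_one]
    have h3 : (chiS r ⟨a.i, a.j, false⟩ ^ 2) ^ (S : Subgroup G).index = 1 := by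
      rw [← pow_mul, mul_comm, pow_mul, eq_inv_of_mul_eq_one_left e1.symm, inv_pow, ht2, inv_one]
    have h4 := eq_one_of_pow_index (S := S) isPGroup_N h3
    rw [chiS_apply, ← ofAdd_nsmul, ofAdd_eq_one] at h4
    simp only [cond_false, add_zero] at h4
    have hev : Even (a.i.val + a.j.val) := by
      have h5 : 2 * (a.i + a.j) = 0 := by rw [mul_add]; simpa using h4
      rcases two_cancel h5 with h6 | h6
      all_goals
        have h7 : (((a.i.val + a.j.val : ℕ)) : ZMod (2 ^ (r + 2))) = a.i + a.j := by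
          push_cast; rw [ZMod.natCast_rightInverse, ZMod.natCast_rightInverse]
        rw [h6] at h7
      · rw [ZMod.natCast_eq_zero_iff] at h7
        exact even_iff_two_dvd.mpr ((dvd_pow_self 2 (by omega)).trans h7)
      · rw [hf, show (2 : ZMod (2 ^ (r + 2))) ^ (r + 1) = ((2 ^ (r + 1) : ℕ) : ZMod (2 ^ (r + 2))) by push_cast; rfl,
          ZMod.natCast_eq_natCast_iff] at h7
        have h8 := Nat.ModEq.of_dvd (dvd_pow_self 2 (show r + 2 ≠ 0 by omega)) h7
        rw [Nat.even_iff, h8]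
        simp [pow_succ]
    obtain ⟨j, hj⟩ := hev
    rw [hj, ← two_mul, pow_mul, sq_two, one_pow, one_mul] at e2
    exact hτt e2.symm

/-- The quaternion group of the Sylow subgroup. -/
theorem exists_equiv_sumEq : Nonempty (sumEq r ≃* QuaternionGroup (2 ^ (r + 1))) := by
  haveI : NeZero (2 ^ (r + 1)) := ⟨by positivity⟩
  let f : QuaternionGroup (2 ^ (r + 1)) →* Wr (2 ^ (r + 2)) :=
    quatHom (2 ^ (r + 1)) (ZMod.ringEquivCongr (show 2 * 2 ^ (r + 1) = 2 ^ (r + 2) by rw [← pow_succ'])).toRingHom.toAddMonoidHom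
      (by rw [hf]; show (ZMod.ringEquivCongr _) ((2 ^ (r + 1) : ℕ) : ZMod (2 * 2 ^ (r + 1))) = _; rw [map_natCast]; push_cast; rfl)
  have hinj : Function.Injective f := quatHom_injective _ _ _ (RingEquiv.injective _)
  have hrange : f.range = sumEq r := by
    refine Subgroup.eq_of_le_of_card_ge (range_le_sumEq f hinj) ?_
    rw [card_sumEq, Nat.card_congr (MonoidHom.ofInjective hinj).toEquiv.symm, Nat.card_eq_fintype_card,
      QuaternionGroup.card]
    ring_nf
    rfl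
  exact ⟨((MonoidHom.ofInjective hinj).trans (MulEquiv.subgroupCongr hrange)).symm⟩

theorem orderOf_four {a : Wr (2 ^ (r + 2))} (h : a * a = zW r) : orderOf a = 4 := by
  have hz1 : zW r ≠ 1 := fun e => hf_ne_zero (congrArg Wr.i e)
  refine orderOf_eq_prime_pow (p := 2) (n := 1) ?_ ?_
  · rw [pow_one, pow_two, h]; exact hz1
  · rw [show 2 ^ (1 + 1) = 2 * 2 by norm_num, pow_mul, pow_two a, h, pow_two]
    ext <;> simp [zW] <;> linear_combination two_hf (r := r)

theorem orderOf_xQ : orderOf (xQ r) = 4 := orderOf_four (by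
  ext <;> simp [xQ, zW]
  · linear_combination two_qt (r := r)
  · linear_combination -(two_qt (r := r)) - (two_hf (r := r)))

theorem orderOf_xyQ : orderOf (xQ r * yQ r) = 4 := orderOf_four (by
  ext <;> simp [xQ, yQ, zW])

/-- The case of quaternion type. -/
theorem case_quaternion (hW : Cfsg.IsWreathed (S : Subgroup G)) (hι : Function.Injective ι)
    (hS : ι.range = (S : Subgroup G)) (hzc : ¬ IsConj (ι (zW r)) (ι (cW r)))
    (hct : IsConj (ι (cW r)) (ι (tW r))) :
    ∃ K : Subgroup G, K.Normal ∧ K.index = 2 ^ (r + 2) ∧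
      (∀ P : Sylow 2 ↥K, ∃ m : ℕ, 1 ≤ m ∧ Nonempty ((P : Subgroup ↥K) ≃* QuaternionGroup (2 ^ m))) ∧
      (∀ H : Subgroup ↥K, H.index ≠ 2) := by
  have hzt : ¬ IsConj (ι (zW r)) (ι (tW r)) := fun h => hzc (h.trans hct.symm)
  obtain ⟨σ, hidx, hσg⟩ := exists_sigma hW hι hS hzc hzt
  have hchi : ∀ a, σ (ι a) = chiS r a ^ (S : Subgroup G).index := by
    intro a
    obtain ⟨g, hg⟩ := isConj_iff.mp hct
    have hσt : σ (ι (tW r)) = chiS r (tW r) ^ (S : Subgroup G).index := by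
      rw [← hg, map_mul, map_mul, map_inv, mul_inv_cancel_comm, cW_eq_pow, map_pow, map_pow, hσg, ← pow_mul,
        mul_comm, pow_mul, ← map_pow, ← cW_eq_pow]
      rw [chiS_apply, chiS_apply]
      simp [cW, tW]
    have e1 := hom_apply (σ.comp ι) a
    have e2 := hom_apply (((powMonoidHom (S : Subgroup G).index).comp (chiS r))) a
    simp only [MonoidHom.comp_apply, powMonoidHom_apply] at e1 e2
    rw [e1, hσg, hσt, e2]
  have hker : (σ.comp ι).ker = sumEq r := by
    ext a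
    rw [MonoidHom.mem_ker, MonoidHom.comp_apply, hchi, ← chiS_eq_one]
    exact ⟨eq_one_of_pow_index (S := S) isPGroup_N, fun h => by rw [h, one_pow]⟩
  have hY : (S : Subgroup G) ⊓ σ.ker = (sumEq r).map ι := by rw [inf_ker hS, hker]
  refine ⟨σ.ker, inferInstance, hidx, fun P => ?_, fun L hL => false_of_inf_le S σ.ker L hL ?_⟩
  · obtain ⟨e⟩ := sylow_of_normal S σ.ker P
    obtain ⟨q⟩ := exists_equiv_sumEq (r := r)
    exact ⟨r + 1, by omega, ⟨((e.trans (MulEquiv.subgroupCongr hY)).trans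
      ((sumEq r).equivMapOfInjective ι hι).symm).trans q⟩⟩
  have h6 := ((index_V hι hS).resolve_left fun h => h.2 hct).1
  obtain ⟨n, hnN, hno, hnC⟩ := exists_odd_of_six (localData_V hι hS) h6
  set X := (quatEight r).map ι with hX
  have hmemK : ∀ a, a ∈ sumEq r → ι a ∈ σ.ker := fun a ha => by
    rw [MonoidHom.mem_ker, hchi, chiS_eq_one.mpr ha, one_pow]
  have hnK : n ∈ σ.ker := map_eq_one_of_odd isPGroup_N σ hno
  have hnX : n ∈ Subgroup.normalizer (X : Set G) := mem_normalizer_of_forall (by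
    rintro _ ⟨q, hq, rfl⟩
    obtain ⟨v, hv, hve⟩ := (Subgroup.mem_normalizer_iff.mp hnN _).mp (Subgroup.mem_map_of_mem ι hq.2)
    refine ⟨v, ⟨?_, hv⟩, hve⟩
    show v ∈ sumEq r
    rw [← hker, MonoidHom.mem_ker, MonoidHom.comp_apply, hve, map_mul, map_mul, map_inv,
      MonoidHom.mem_ker.mp (hmemK q hq.1), hnK, mul_one, inv_one, mul_one])
  have hnXC : n ∉ Subgroup.centralizer (X : Set G) := by
    intro h
    apply hnC
    have hle : diffTwo r ≤ (Subgroup.centralizer ({n} : Set G)).comap ι := by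
      refine diffTwo_le_of (fun a ha => ?_) (x := xQ r) rfl ?_ (by simp [xQ]) (by simp [xQ]; linear_combination two_qt (r := r)) ?_
      · obtain ⟨b, hb, hbe⟩ := conj_center_VG hι hnN ha
        have hf := center_fixed hW hι hS hzc hzt ha n (hbe ▸ mem_S hS b)
        exact Subgroup.mem_comap.mpr (Subgroup.mem_centralizer_singleton_iff.mpr (mul_inv_eq_iff_eq_mul.mp hf).symm)
      · exact Subgroup.mem_comap.mpr (Subgroup.mem_centralizer_singleton_iff.mpr
          (Subgroup.mem_centralizer_iff.mp h _ (Subgroup.mem_map_of_mem ι xQ_mem)))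
      · exact Subgroup.mem_comap.mpr (Subgroup.mem_centralizer_singleton_iff.mpr
          (Subgroup.mem_centralizer_iff.mp h _ (Subgroup.mem_map_of_mem ι yQ_mem)))
    refine Subgroup.mem_centralizer_iff.mpr ?_
    rintro _ ⟨v, hv, rfl⟩
    exact Subgroup.mem_centralizer_singleton_iff.mp (hle hv)
  set L' := L.map σ.ker.subtype with hL'
  have hswap : ∀ s : Wr (2 ^ (r + 2)), ι (s * yQ r * s⁻¹) ∈ L' := by
    intro s
    let θ : MulAut G := MulAut.conj (ι s)
    set Xs := X.map θ.toMonoidHom with hXs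
    have hn'N : θ n ∈ Subgroup.normalizer (Xs : Set G) := by
      rw [hXs, ← map_normalizer]; exact ⟨n, hnX, rfl⟩
    have hn'o : Odd (orderOf (θ n)) := by rw [MulEquiv.orderOf_eq]; exact hno
    have hn'C : θ n ∉ Subgroup.centralizer (Xs : Set G) := fun h => hnXC ((mem_centralizer_map θ).mpr h)
    have hθK : ∀ x ∈ σ.ker, θ x ∈ σ.ker := fun x hx => (inferInstance : σ.ker.Normal).conj_mem x hx _
    have hXK : Xs ≤ σ.ker := by
      rintro _ ⟨_, ⟨q, hq, rfl⟩, rfl⟩; exact hθK _ (hmemK q hq.1)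
    have hcom : ∀ x ∈ Xs, θ n * x * (θ n)⁻¹ * x⁻¹ ∈ L' :=
      fun x hx => commutator_mem_map hL (hθK n hnK) (hXK hx)
    have hXp : IsPGroup 2 Xs := ((isPGroup_wr.to_subgroup _).map ι).map _
    have hcard : Nat.card Xs = 8 := by
      rw [hXs, card_map_conj, hX, card_map_inj ι hι, card_quatEight]
    have hmX : ∀ q ∈ quatEight r, θ (ι q) ∈ Xs := fun q hq => ⟨_, Subgroup.mem_map_of_mem ι hq, rfl⟩
    have hnot : ∀ a b : Wr (2 ^ (r + 2)), a * b ≠ b * a → θ (ι b) ∉ Subgroup.zpowers (θ (ι a)) := by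
      intro a b hne hmem
      obtain ⟨j, hj⟩ := hmem
      apply hne
      have h1 : a ^ j = b := hι (θ.injective (by rw [map_zpow, map_zpow]; exact hj))
      rw [← h1]
      exact (Commute.self_zpow a j).eq
    have hord : ∀ a : Wr (2 ^ (r + 2)), orderOf a = 4 → Nat.card Xs = 2 * orderOf (θ (ι a)) := fun a ha => by
      rw [hcard, MulEquiv.orderOf_eq, orderOf_inj ι hι, ha]
    have hne1 : xQ r * yQ r ≠ yQ r * xQ r := fun e => hf_ne_zero (by
      have := congrArg Wr.i e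
      simp [xQ, yQ] at this
      linear_combination this - (two_qt (r := r)))
    have hne2 : xQ r * yQ r * xQ r ≠ xQ r * (xQ r * yQ r) := fun e => hne1 (by
      rw [mul_assoc] at e; exact (mul_left_cancel e).symm)
    show ι (s * yQ r * s⁻¹) ∈ L'
    rw [map_mul, map_mul, map_inv]
    show θ (ι (yQ r)) ∈ L'
    by_cases hq : θ (ι (xQ r)) ∈ L'
    · exact mem_of_commutators hXp hn'N hn'o hn'C hcom (hmX _ xQ_mem) (hmX _ yQ_mem) hq
        (cover_of_card (hmX _ xQ_mem) (hmX _ yQ_mem) (hnot _ _ hne1) (hord _ orderOf_xQ))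
    · by_contra hni
      apply hq
      have hc : θ (ι (xQ r * yQ r)) ∈ L' := by
        obtain ⟨a, ha⟩ : ∃ a : σ.ker, (a : G) = θ (ι (xQ r)) := ⟨⟨_, hXK (hmX _ xQ_mem)⟩, rfl⟩
        obtain ⟨b, hb⟩ : ∃ b : σ.ker, (b : G) = θ (ι (yQ r)) := ⟨⟨_, hXK (hmX _ yQ_mem)⟩, rfl⟩
        refine ⟨a * b, ?_, by simp [ha, hb]⟩
        exact (Subgroup.mul_mem_iff_of_index_two hL).mpr (iff_of_false (fun h => hq ⟨a, h, ha⟩) (fun h => hni ⟨b, h, hb⟩))
      exact mem_of_commutators hXp hn'N hn'o hn'C hcom (hmX _ (mul_mem xQ_mem yQ_mem)) (hmX _ xQ_mem) hc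
        (cover_of_card (hmX _ (mul_mem xQ_mem yQ_mem)) (hmX _ xQ_mem) (hnot _ _ hne2) (hord _ orderOf_xyQ))
  have hsw : ∀ i, ι ⟨i, hf r - i, true⟩ ∈ L' := fun i => by
    have e : (⟨i, 0, false⟩ : Wr (2 ^ (r + 2))) * yQ r * (⟨i, 0, false⟩ : Wr (2 ^ (r + 2)))⁻¹ = ⟨i, hf r - i, true⟩ := by
      rw [yQ, conj_swap]; ext <;> simp
    exact e ▸ hswap _
  rw [hY]
  rintro _ ⟨⟨i, j, e⟩, ha, rfl⟩
  rw [SetLike.mem_coe, mem_sumEq] at ha
  cases e <;> simp only [cond_true, cond_false] at ha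
  · have h2 : (⟨i, j, false⟩ : Wr (2 ^ (r + 2))) = ⟨i, hf r - i, true⟩ * ⟨hf r, hf r - hf r, true⟩ := by
      ext <;> simp
      linear_combination ha - (two_hf (r := r))
    rw [h2, map_mul]
    exact L'.mul_mem (hsw i) (hsw _)
  · rw [show (⟨i, j, true⟩ : Wr (2 ^ (r + 2))) = ⟨i, hf r - i, true⟩ from Wr.ext rfl (eq_sub_iff_add_eq'.mpr ha) rfl]
    exact hsw i

/-- Every subgroup of the centre is weakly closed. -/
theorem center_weaklyClosed (hW : Cfsg.IsWreathed (S : Subgroup G)) (hι : Function.Injective ι)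
    (hS : ι.range = (S : Subgroup G)) (hzc : ¬ IsConj (ι (zW r)) (ι (cW r)))
    (hzt : ¬ IsConj (ι (zW r)) (ι (tW r))) {Z₀ : Subgroup G}
    (hZ : Z₀ ≤ (Subgroup.center (S : Subgroup G)).map (S : Subgroup G).subtype) :
    Cfsg.IsWeaklyClosed Z₀ (S : Subgroup G) := by
  refine ⟨hZ.trans (Subgroup.map_subtype_le _), fun g hg => ?_⟩
  have hfix : ∀ x ∈ Z₀, g * x * g⁻¹ = x := by
    intro x hx
    obtain ⟨⟨y, hy⟩, hc, rfl⟩ := hZ hx
    obtain ⟨a, rfl⟩ := hS.symm ▸ hy
    refine center_fixed hW hι hS hzc hzt (Subgroup.mem_center_iff.mpr fun b => hι ?_) g (hg ⟨_, hx, rfl⟩)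
    rw [map_mul, map_mul]
    exact congrArg Subtype.val (Subgroup.mem_center_iff.mp hc ⟨ι b, mem_S hS b⟩)
  ext x
  constructor
  · rintro ⟨y, hy, rfl⟩
    show g * y * g⁻¹ ∈ Z₀
    rw [hfix y hy]; exact hy
  · exact fun hx => ⟨x, hx, hfix x hx⟩

end CfsgLib.Invol.QDW.Wr
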