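import Mathlib
import Cfsg.Prelude.Def_CaseTheorems
import Cfsg.Agent.Lib.Invol.QDW.WrCases

/-!
# Local indices of an abstract wreathed Sylow 2-subgroup in model terms
-/

set_option autoImplicit false

namespace CfsgLib.Invol.QDW.Wr

open CfsgLib.Invol

variable {G : Type*} [Group G] [Finite G]

omit [Finite G] in
theorem center_map_eq {r : ℕ} {S : Subgroup G} {ι : Wr (2 ^ (r + 2)) →* G} (hι : Function.Injective ι)
    (hS : ι.range = S) :
    (Subgroup.center (Wr (2 ^ (r + 2)))).map ι = (Subgroup.center S).map S.subtype := by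
  ext x
  constructor
  · rintro ⟨m, hm, rfl⟩
    refine ⟨⟨ι m, hS ▸ ⟨m, rfl⟩⟩, Subgroup.mem_center_iff.mpr ?_, rfl⟩
    rintro ⟨y, hy⟩
    obtain ⟨b, rfl⟩ := hS.symm ▸ hy
    exact Subtype.ext (by simp only [Subgroup.coe_mul]; rw [← map_mul, ← map_mul, Subgroup.mem_center_iff.mp hm b])
  · rintro ⟨⟨y, hy⟩, hc, rfl⟩
    obtain ⟨m, rfl⟩ := hS.symm ▸ hy
    refine ⟨m, Subgroup.mem_center_iff.mpr fun b => hι ?_, rfl⟩
    rw [map_mul, map_mul]
    exact congrArg Subtype.val (Subgroup.mem_center_iff.mp hc ⟨ι b, hS ▸ ⟨b, rfl⟩⟩)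

/-- The model of the Sylow subgroup, with both local indices as dichotomies. -/
theorem setup (S : Sylow 2 G) (hS : Cfsg.IsWreathed (S : Subgroup G)) (n : ℕ)
    (hn : Nat.card S = 2 ^ (2 * n + 1)) (U : Subgroup G) (hUS : U ≤ S) (hUab : IsMulCommutative U)
    (hUcard : Nat.card U = 2 ^ (2 * n)) (Q : Subgroup G) (hQS : Q ≤ S) (eQ : Q ≃* QuaternionGroup 2) :
    ∃ (r : ℕ) (ι : Wr (2 ^ (r + 2)) →* G), n = r + 2 ∧ Function.Injective ι ∧ ι.range = (S : Subgroup G) ∧
      U = UG ι ∧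
      (((Subgroup.centralizer (U : Set G)).relIndex (Subgroup.normalizer (U : Set G)) = 2 ∧
          ¬ IsConj (ι (zW r)) (ι (cW r))) ∨
        ((Subgroup.centralizer (U : Set G)).relIndex (Subgroup.normalizer (U : Set G)) = 6 ∧
          IsConj (ι (zW r)) (ι (cW r)))) ∧
      ((((Q ⊔ ((Subgroup.center (S : Subgroup G)).map (S : Subgroup G).subtype)) ⊔ Subgroup.centralizer ((Q ⊔ ((Subgroup.center (S : Subgroup G)).map (S : Subgroup G).subtype) : Subgroup G) : Set G)).relIndex (Subgroup.normalizer ((Q ⊔ ((Subgroup.center (S : Subgroup G)).map (S : Subgroup G).subtype) : Subgroup G) : Set G)) = 2 ∧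
          ¬ IsConj (ι (cW r)) (ι (tW r))) ∨
        (((Q ⊔ ((Subgroup.center (S : Subgroup G)).map (S : Subgroup G).subtype)) ⊔ Subgroup.centralizer ((Q ⊔ ((Subgroup.center (S : Subgroup G)).map (S : Subgroup G).subtype) : Subgroup G) : Set G)).relIndex (Subgroup.normalizer ((Q ⊔ ((Subgroup.center (S : Subgroup G)).map (S : Subgroup G).subtype) : Subgroup G) : Set G)) = 6 ∧
          IsConj (ι (cW r)) (ι (tW r)))) := by
  obtain ⟨n', hn', hcard, ⟨e⟩⟩ := exists_equiv_wr hS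
  obtain ⟨r, rfl⟩ : ∃ r, n' = r + 2 := ⟨n' - 2, by omega⟩
  have hnr : n = r + 2 := by
    have := Nat.pow_right_injective (le_refl 2) (hn.symm.trans hcard); omega
  subst hnr
  obtain ⟨ι, hι, hr⟩ := exists_embedding S e
  have hU : U = UG ι := eq_UG hι hr hUS hUab (by
    rw [hUcard, card_map_inj ι hι, card_base, ← pow_add]; congr 1; ring)
  refine ⟨r, ι, rfl, hι, hr, hU, by subst hU; exact index_U hι hr, ?_⟩
  obtain ⟨s, -, hs⟩ := quat_eight_cases ((comapEquiv ι hι (hr ▸ hQS)).trans eQ)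
  have hV : Q ⊔ ((Subgroup.center (S : Subgroup G)).map (S : Subgroup G).subtype) =
      ((Q.comap ι ⊔ Subgroup.center _).map ι) := by
    rw [Subgroup.map_sup, ← eq_map_comap S ι hr hQS, center_map_eq hι hr]
  rw [hV, ← index_model_conj ι ⟨s, hs⟩]
  exact index_V hι hr

end CfsgLib.Invol.QDW.Wr
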