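import Mathlib
import Cfsg.Prelude.Def_CaseTheorems
import Cfsg.Agent.Lib.Invol.QDW.SdApply
import Cfsg.Agent.Lib.Invol.QDW.WrApply

/-!
# Quasi-dihedral or wreathed Sylow 2-subgroups without a subgroup of index two
-/

set_option autoImplicit false

namespace CfsgLib.Invol.QDW

open CfsgLib.Invol

universe u

variable {G : Type u} [Group G] [Finite G]

/-- The conclusion of the centraliser statement. -/
def IsQType {C : Type u} [Group C] (R : Sylow 2 C) : Prop :=
  (∃ K : Subgroup C, K.Normal ∧ (∃ a : ℕ, K.index = 2 ^ a) ∧ (∀ H : Subgroup ↥K, H.index ≠ 2) ∧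
      (∀ P : Sylow 2 ↥K, ∃ m : ℕ, 1 ≤ m ∧ Nonempty ((P : Subgroup ↥K) ≃* QuaternionGroup (2 ^ m)))) ∧
    (∀ Z₀ : Subgroup C, Z₀ ≤ ((Subgroup.center (R : Subgroup C))).map (R : Subgroup C).subtype →
      Cfsg.IsWeaklyClosed Z₀ (R : Subgroup C))

theorem isWreathed_congr {A B : Type*} [Group A] [Group B] (e : A ≃* B) (h : Cfsg.IsWreathed A) :
    Cfsg.IsWreathed B := by
  obtain ⟨n, hn, hc, x, y, z, hx, hxy, hd, hz, hzx⟩ := h
  refine ⟨n, hn, by rw [← hc, Nat.card_congr e.toEquiv], e x, e y, e z, by rw [MulEquiv.orderOf_eq, hx],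
    by rw [← map_mul, ← map_mul, hxy], ?_, by rw [MulEquiv.orderOf_eq, hz],
    by rw [← map_inv, ← map_mul, ← map_mul, hzx]⟩
  rw [← MulEquiv.coe_toMonoidHom, ← MonoidHom.map_zpowers, ← MonoidHom.map_zpowers,
    ← Subgroup.map_inf _ _ _ e.injective, hd, Subgroup.map_bot]

theorem false_of_surjective_two (hG : ∀ H : Subgroup G, H.index ≠ 2) (τ : G →* Multiplicative (ZMod 2)) {x : G}
    (hx : τ x ≠ 1) : False := by
  refine hG τ.ker ?_
  have htop : τ.range = ⊤ := by
    refine eq_top_iff.mpr fun a _ => ?_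
    have key : ∀ b a : Multiplicative (ZMod 2), b ≠ 1 → a = 1 ∨ a = b := by decide
    rcases key _ a hx with rfl | rfl
    · exact one_mem _
    · exact ⟨x, rfl⟩
  rw [Subgroup.index_ker, htop, Subgroup.card_top, Nat.card_congr Multiplicative.toAdd, Nat.card_zmod]

namespace Sd

variable {k : ℕ} {S : Sylow 2 G} {ι : Sd k →* G}

theorem fused_of_no_index_two (hι : Function.Injective ι) (hS : ι.range = (S : Subgroup G))
    (hG : ∀ H : Subgroup G, H.index ≠ 2) :
    IsConj (ι (zS k)) (ι (bS k)) ∧ IsConj (ι (qS k)) (ι (dS k)) := by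
  constructor
  · by_contra h
    obtain ⟨τ, -, hidx, -⟩ := exists_kernel_b hι hS h
    exact hG _ hidx
  · by_contra h
    obtain ⟨τ, -, hidx, -⟩ := exists_kernel_d hι hS h
    exact hG _ hidx

theorem q_d_in_centralizer (hι : Function.Injective ι) {g : G} (h : g * ι (qS k) * g⁻¹ = ι (dS k)) :
    g * ι (zS k) * g⁻¹ = ι (zS k) := by
  obtain ⟨-, -, hz⟩ := exists_sqrt (k := k)
  have hd : dS k * dS k = zS k := by ext <;> simp [dS, zS, c]
  calc g * ι (zS k) * g⁻¹ = (g * ι (qS k) * g⁻¹) * (g * ι (qS k) * g⁻¹) := by rw [← hz, map_mul]; group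
    _ = ι (zS k) := by rw [h, ← map_mul, hd]

theorem centralizer_qType (hι : Function.Injective ι) (hS : ι.range = (S : Subgroup G))
    (hb : ¬ IsConj (ι (zS k)) (ι (bS k))) (hd : IsConj (ι (qS k)) (ι (dS k))) : IsQType S := by
  obtain ⟨K, h1, h2, h3, h4⟩ := case_quaternion hι hS hb hd
  refine ⟨⟨K, h1, ⟨1, by rw [h2, pow_one]⟩, h4, h3⟩, fun Z₀ hZ => ⟨hZ.trans (Subgroup.map_subtype_le _), fun g hg => ?_⟩⟩
  have hfix : ∀ x ∈ Z₀, g * x * g⁻¹ = x := by
    intro x hx
    obtain ⟨⟨y, hy⟩, hc, rfl⟩ := hZ hx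
    obtain ⟨m, rfl⟩ := hS.symm ▸ hy
    have hmc : m ∈ Subgroup.center (Sd k) := Subgroup.mem_center_iff.mpr fun b => hι (by
      rw [map_mul, map_mul]
      exact congrArg Subtype.val (Subgroup.mem_center_iff.mp hc ⟨ι b, hS ▸ ⟨b, rfl⟩⟩))
    obtain ⟨m', hm'⟩ : g * ι m * g⁻¹ ∈ ι.range := by rw [hS]; exact hg ⟨_, hx, rfl⟩
    obtain ⟨he, hi | hi⟩ := mem_center_iff.mp hmc
    · show g * ι m * g⁻¹ = ι m
      rw [show m = 1 from Sd.ext hi he, map_one, mul_one, mul_inv_cancel]
    · obtain rfl : m = zS k := Sd.ext hi he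
      have hcj : IsConj (ι (zS k)) (ι m') := isConj_iff.mpr ⟨g, hm'.symm⟩
      have hmo : orderOf m' = 2 := by rw [← orderOf_inj ι hι, ← orderOf_eq_of_isConj hcj, orderOf_inj ι hι, orderOf_zS]
      rcases involution_cases hmo with rfl | h
      · exact hm'.symm
      · exact absurd (hcj.trans (MonoidHom.map_isConj ι h)) hb
  ext x
  constructor
  · rintro ⟨y, hy, rfl⟩
    show g * y * g⁻¹ ∈ Z₀
    rw [hfix y hy]; exact hy
  · exact fun hx => ⟨x, hx, hfix x hx⟩

end Sd

namespace Wr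

variable {r : ℕ} {S : Sylow 2 G} {ι : Wr (2 ^ (r + 2)) →* G}

theorem fused_of_no_index_two (hW : Cfsg.IsWreathed (S : Subgroup G)) (hι : Function.Injective ι)
    (hS : ι.range = (S : Subgroup G)) (hG : ∀ H : Subgroup G, H.index ≠ 2) :
    IsConj (ι (zW r)) (ι (cW r)) ∧ IsConj (ι (cW r)) (ι (tW r)) := by
  haveI : Fact (Nat.Prime 2) := ⟨Nat.prime_two⟩
  have hct : IsConj (ι (cW r)) (ι (tW r)) := by
    by_contra h
    obtain ⟨τ, hidx, -⟩ := exists_tau hι hS h
    exact hG _ hidx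
  refine ⟨?_, hct⟩
  by_contra hzc
  obtain ⟨σ, -, hσ⟩ := exists_sigma hW hι hS hzc fun h => hzc (h.trans hct.symm)
  let red : Multiplicative (ZMod (2 ^ (r + 2))) →* Multiplicative (ZMod 2) :=
    AddMonoidHom.toMultiplicative (ZMod.castHom (dvd_pow_self 2 (by omega)) (ZMod 2)).toAddMonoidHom
  refine false_of_surjective_two hG (red.comp σ) (x := ι (gW r)) ?_
  obtain ⟨j, hj⟩ := Nat.not_even_iff_odd.mp fun he => S.not_dvd_index (Even.two_dvd he)
  rw [MonoidHom.comp_apply, hσ, map_pow, hj, pow_succ (red _), pow_mul (red _), sq_two, one_pow, one_mul, chiS_apply]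
  simp [red, gW]

theorem c_t_in_centralizer (hι : Function.Injective ι) (hS : ι.range = (S : Subgroup G))
    (hct : IsConj (ι (cW r)) (ι (tW r))) :
    ∃ g : G, g * ι (zW r) * g⁻¹ = ι (zW r) ∧ g * ι (cW r) * g⁻¹ = ι (tW r) := by
  obtain ⟨g₀, hg₀⟩ := exists_move hι hS (Or.inr hct)
  obtain ⟨n, hnN, hnE⟩ := not_EV_of_move hι hS hg₀
  obtain ⟨m, hm, hme⟩ := (Subgroup.mem_normalizer_iff.mp hnN _).mp (Subgroup.mem_map_of_mem ι cW_mem_diffTwo)
  have hmt : m.e = true := by
    by_contra h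
    exact hnE (mem_EV_of hι hnN (by simpa using h) hme)
  have hmo : orderOf m = 2 := by
    rw [← orderOf_inj ι hι, hme, ← MulAut.conj_apply, MulEquiv.orderOf_eq, orderOf_inj ι hι, orderOf_cW]
  have hmc : IsConj m (tW r) := by
    rcases involution_cases hmo with rfl | h | h
    · exact Bool.noConfusion hmt
    · rw [e_eq_of_isConj h] at hmt; exact Bool.noConfusion hmt
    · exact h
  obtain ⟨s, hs⟩ := isConj_iff.mp hmc
  obtain ⟨w, hw, hwe⟩ := conj_center_VG hι hnN zW_mem_center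
  have hwo : orderOf w = 2 := by
    rw [← orderOf_inj ι hι, hwe, ← MulAut.conj_apply, MulEquiv.orderOf_eq, orderOf_inj ι hι, orderOf_zW]
  have hwz : w = zW r := by
    rcases involution_cases hwo with rfl | h | h
    · rfl
    · obtain ⟨u, hu⟩ := isConj_iff.mp h
      rw [Subgroup.mem_center_iff.mp hw u, mul_inv_cancel_right] at hu
      exact absurd ((mem_center_iff two_le_N).mp (hu ▸ hw)).2 (fun h => hf_ne_zero h)
    · have := e_eq_of_isConj h
      rw [((mem_center_iff two_le_N).mp hw).1] at this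
      exact Bool.noConfusion this
  refine ⟨ι s * n, ?_, ?_⟩
  · calc ι s * n * ι (zW r) * (ι s * n)⁻¹ = ι (s * w * s⁻¹) := by rw [map_mul, map_mul, map_inv, hwe]; group
      _ = ι (zW r) := by rw [hwz, zW_central, mul_inv_cancel_right]
  · calc ι s * n * ι (cW r) * (ι s * n)⁻¹ = ι (s * m * s⁻¹) := by rw [map_mul, map_mul, map_inv, hme]; group
      _ = ι (tW r) := by rw [hs]

theorem centralizer_qType (hW : Cfsg.IsWreathed (S : Subgroup G)) (hι : Function.Injective ι)
    (hS : ι.range = (S : Subgroup G)) (hzc : ¬ IsConj (ι (zW r)) (ι (cW r)))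
    (hct : IsConj (ι (cW r)) (ι (tW r))) : IsQType S := by
  obtain ⟨K, h1, h2, h3, h4⟩ := case_quaternion hW hι hS hzc hct
  exact ⟨⟨K, h1, ⟨r + 2, h2⟩, h4, h3⟩,
    fun Z₀ hZ => center_weaklyClosed hW hι hS hzc (fun h => hzc (h.trans hct.symm)) hZ⟩

end Wr

/-- A conjugate of the model inside the centraliser of a conjugate of a central element. -/
theorem exists_sylow_centralizer (S : Sylow 2 G) {M : Type*} [Group M] {ι : M →* G} (hι : Function.Injective ι)
    (hS : ι.range = (S : Subgroup G)) {z : M} (hz : ∀ m, m * z = z * m) {g x : G} (hg : g * ι z * g⁻¹ = x) :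
    ∃ (ι' : M →* ↥(Subgroup.centralizer ({x} : Set G))) (R : Sylow 2 ↥(Subgroup.centralizer ({x} : Set G))),
      Function.Injective ι' ∧ ι'.range = (R : Subgroup _) ∧ ∀ m, (ι' m : G) = g * ι m * g⁻¹ := by
  haveI : Fact (Nat.Prime 2) := ⟨Nat.prime_two⟩
  have hmem : ∀ m, g * ι m * g⁻¹ ∈ Subgroup.centralizer ({x} : Set G) := fun m => by
    rw [Subgroup.mem_centralizer_singleton_iff, ← hg,
      show g * ι m * g⁻¹ * (g * ι z * g⁻¹) = g * (ι m * ι z) * g⁻¹ by group, ← map_mul, hz, map_mul]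
    group
  let ι' : M →* ↥(Subgroup.centralizer ({x} : Set G)) :=
    ((MulAut.conj g).toMonoidHom.comp ι).codRestrict _ hmem
  have hinj : Function.Injective ι' := fun a b h =>
    hι ((MulAut.conj g).injective (congrArg Subtype.val h))
  have hcard : Nat.card ι'.range = Nat.card S := by
    rw [← Nat.card_congr (MonoidHom.ofInjective hinj).toEquiv, ← hS, ← Nat.card_congr (MonoidHom.ofInjective hι).toEquiv]
  obtain ⟨j, hj⟩ := IsPGroup.iff_card.mp S.2
  obtain ⟨R, hR⟩ := (IsPGroup.of_card (n := j) (hcard.trans hj)).exists_le_sylow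
  refine ⟨ι', R, hinj, Subgroup.eq_of_le_of_card_ge hR ?_, fun m => rfl⟩
  rw [hcard]
  obtain ⟨h, hh⟩ := CfsgLib.Transfer.exists_conj_mem_sylow S (R.2.map (Subgroup.centralizer ({x} : Set G)).subtype)
  refine Nat.card_le_card_of_injective (fun a => ⟨_, hh _ ⟨a, a.2, rfl⟩⟩) fun a b e => ?_
  exact Subtype.ext (Subtype.ext (mul_left_cancel (mul_right_cancel (congrArg Subtype.val e))))

/-- Centralisers of involutions are of quaternion type. -/
theorem exists_qType (S : Sylow 2 G)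
    (hS : Cfsg.IsQuasiDihedral (S : Subgroup G) ∨ Cfsg.IsWreathed (S : Subgroup G))
    (hG : ∀ H : Subgroup G, H.index ≠ 2) (x : G) (hx : orderOf x = 2) :
    ∃ R : Sylow 2 ↥(Subgroup.centralizer ({x} : Set G)), Nat.card R = Nat.card S ∧ IsQType R := by
  rcases hS with hQ | hW
  · obtain ⟨k, -, ⟨e⟩⟩ := exists_equiv_sd hQ
    obtain ⟨ι, hι, hr⟩ := exists_embedding S e
    obtain ⟨hb, hd⟩ := Sd.fused_of_no_index_two hι hr hG
    have hxz : IsConj (ι (Sd.zS k)) x := by
      rcases Sd.involution_class hι hr hx with h | h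
      · exact h.symm
      · exact hb.trans h.symm
    obtain ⟨g, hg⟩ := isConj_iff.mp hxz
    obtain ⟨ι', R, hι', hr', hval⟩ := exists_sylow_centralizer S hι hr Sd.zS_central hg
    refine ⟨R, ?_, Sd.centralizer_qType hι' hr' ?_ ?_⟩
    · show Nat.card (R : Subgroup ↥(Subgroup.centralizer ({x} : Set G))) = Nat.card (S : Subgroup G)
      rw [← hr', ← hr, ← Nat.card_congr (MonoidHom.ofInjective hι').toEquiv, ← Nat.card_congr (MonoidHom.ofInjective hι).toEquiv]
    · intro h
      obtain ⟨c, hc⟩ := isConj_iff.mp h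
      have h1 := congrArg Subtype.val hc
      simp only [Subgroup.coe_mul, Subgroup.coe_inv, hval, hg] at h1
      rw [Subgroup.mem_centralizer_singleton_iff.mp c.2, mul_inv_cancel_right, ← hg] at h1
      exact Bool.noConfusion (congrArg Sd.e (hι (mul_left_cancel (mul_right_cancel h1))))
    · obtain ⟨u, hu⟩ := isConj_iff.mp hd
      have hz := Sd.q_d_in_centralizer hι hu
      refine isConj_iff.mpr ⟨⟨g * u * g⁻¹, ?_⟩, Subtype.ext ?_⟩
      · rw [Subgroup.mem_centralizer_singleton_iff, ← hg]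
        calc g * u * g⁻¹ * (g * ι (Sd.zS k) * g⁻¹) = g * (u * ι (Sd.zS k)) * g⁻¹ := by group
          _ = g * (ι (Sd.zS k) * u) * g⁻¹ := by rw [mul_inv_eq_iff_eq_mul.mp hz]
          _ = _ := by group
      · simp only [Subgroup.coe_mul, Subgroup.coe_inv, hval]
        rw [← hu]; group
  · obtain ⟨n, hn, -, ⟨e⟩⟩ := exists_equiv_wr hW
    obtain ⟨r, rfl⟩ : ∃ r, n = r + 2 := ⟨n - 2, by omega⟩
    obtain ⟨ι, hι, hr⟩ := exists_embedding S e
    obtain ⟨hzc, hct⟩ := Wr.fused_of_no_index_two hW hι hr hG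
    have hxz : IsConj (ι (Wr.zW r)) x := by
      rcases Wr.involution_class hι hr hx with h | h | h
      · exact h.symm
      · exact hzc.trans h.symm
      · exact (hzc.trans hct).trans h.symm
    obtain ⟨g, hg⟩ := isConj_iff.mp hxz
    obtain ⟨ι', R, hι', hr', hval⟩ := exists_sylow_centralizer S hι hr Wr.zW_central hg
    have hW' : Cfsg.IsWreathed (R : Subgroup _) := isWreathed_congr (((MonoidHom.ofInjective hι).trans
      (MulEquiv.subgroupCongr hr)).symm.trans ((MonoidHom.ofInjective hι').trans (MulEquiv.subgroupCongr hr'))) hW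
    refine ⟨R, ?_, Wr.centralizer_qType hW' hι' hr' ?_ ?_⟩
    · show Nat.card (R : Subgroup ↥(Subgroup.centralizer ({x} : Set G))) = Nat.card (S : Subgroup G)
      rw [← hr', ← hr, ← Nat.card_congr (MonoidHom.ofInjective hι').toEquiv, ← Nat.card_congr (MonoidHom.ofInjective hι).toEquiv]
    · intro h
      obtain ⟨c, hc⟩ := isConj_iff.mp h
      have h1 := congrArg Subtype.val hc
      simp only [Subgroup.coe_mul, Subgroup.coe_inv, hval, hg] at h1
      rw [Subgroup.mem_centralizer_singleton_iff.mp c.2, mul_inv_cancel_right, ← hg] at h1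
      exact Wr.hf_ne_zero (congrArg Wr.j (hι (mul_left_cancel (mul_right_cancel h1))))
    · obtain ⟨u, hz, hu⟩ := Wr.c_t_in_centralizer hι hr hct
      refine isConj_iff.mpr ⟨⟨g * u * g⁻¹, ?_⟩, Subtype.ext ?_⟩
      · rw [Subgroup.mem_centralizer_singleton_iff, ← hg]
        calc g * u * g⁻¹ * (g * ι (Wr.zW r) * g⁻¹) = g * (u * ι (Wr.zW r)) * g⁻¹ := by group
          _ = g * (ι (Wr.zW r) * u) * g⁻¹ := by rw [mul_inv_eq_iff_eq_mul.mp hz]
          _ = _ := by group
      · simp only [Subgroup.coe_mul, Subgroup.coe_inv, hval]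
        rw [← hu]; group

end CfsgLib.Invol.QDW
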