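import Mathlib
import Cfsg.Agent.Lib.Invol.QDW.Semidihedral
import Cfsg.Agent.Lib.Invol.QDW.WreathIsolated
import Cfsg.Agent.Lib.Invol.FusionFixedCentral

/-!
# The centre of a quasi-dihedral or wreathed Sylow 2-subgroup under an isolated involution
-/

set_option autoImplicit false

namespace CfsgLib.Invol.QDW

open Cfsg

variable {G : Type*} [Group G] [Finite G]

theorem mem_center_map_iff {S : Subgroup G} {a : G} :
    a ∈ (Subgroup.center S).map S.subtype ↔ a ∈ S ∧ ∀ s ∈ S, s * a = a * s := by
  constructor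
  · rintro ⟨⟨a, ha⟩, hc, rfl⟩
    exact ⟨ha, fun s hs => congrArg Subtype.val (Subgroup.mem_center_iff.mp hc ⟨s, hs⟩)⟩
  · rintro ⟨ha, h⟩
    exact ⟨⟨a, ha⟩, Subgroup.mem_center_iff.mpr fun s => Subtype.ext (h s s.2), rfl⟩

theorem isolated_central {z : G} (hz : IsIsolatedInvolution z) {S : Subgroup G} (hS : IsPGroup 2 S)
    (hzS : z ∈ S) (s : G) (hs : s ∈ S) : s * z = z * s :=
  mul_inv_eq_iff_eq_mul.mp (isolated_eq_of_isPGroup hz hS hzS s
    (S.mul_mem (S.mul_mem hs hzS) (S.inv_mem hs)))

/-- The centre of a quasi-dihedral or wreathed Sylow 2-subgroup containing an isolated involution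
is central modulo the odd core. -/
theorem center_mod_oddCore (S : Sylow 2 G)
    (hS : IsQuasiDihedral (S : Subgroup G) ∨ IsWreathed (S : Subgroup G)) {z : G}
    (hzS : z ∈ (S : Subgroup G)) (hz : IsIsolatedInvolution z) (a : G)
    (ha : a ∈ (Subgroup.center (S : Subgroup G)).map (S : Subgroup G).subtype) (g : G) :
    g * a * g⁻¹ * a⁻¹ ∈ oddCore G := by
  obtain ⟨haS, hac⟩ := mem_center_map_iff.mp ha
  refine fusionFixed_central S ?_ a haS hac g
  intro b hbS hbc k hk
  rcases hS with hQ | hW
  · obtain ⟨m, -, ⟨e⟩⟩ := exists_equiv_sd hQ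
    -- the centre is `{1, z}`
    have hcard : Nat.card (Subgroup.center (S : Subgroup G)) = 2 := by
      rw [Nat.card_congr (Subgroup.centerCongr e).toEquiv, Sd.card_center]
    haveI : IsCyclic (Subgroup.center (S : Subgroup G)) :=
      isCyclic_of_prime_card (p := 2) hcard
    by_cases hb1 : b = 1
    · subst hb1; group
    have hbz : b = z := by
      have h2 := eq_of_isCyclic_involutions
        (⟨⟨b, hbS⟩, Subgroup.mem_center_iff.mpr fun s => Subtype.ext (hbc s s.2)⟩ :
          Subgroup.center (S : Subgroup G))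
        ⟨⟨z, hzS⟩, Subgroup.mem_center_iff.mpr fun s => Subtype.ext (isolated_central hz S.2 hzS s s.2)⟩
        (orderOf_eq_prime (orderOf_dvd_iff_pow_eq_one.mp ((orderOf_dvd_natCard _).trans hcard.dvd)) (fun h => hb1 (congrArg (fun u :
          Subgroup.center (S : Subgroup G) => ((u : (S : Subgroup G)) : G)) h)))
        (by rw [← Subgroup.orderOf_coe, ← Subgroup.orderOf_coe]; exact hz.1)
      exact congrArg (fun u : Subgroup.center (S : Subgroup G) => ((u : (S : Subgroup G)) : G)) h2
    subst hbz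
    exact isolated_eq_of_isPGroup hz S.2 hzS k hk
  · exact wreathed_center_fixed S hW hzS hz hbS hbc k hk

end CfsgLib.Invol.QDW
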