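import Mathlib
import Cfsg.Prelude.Def_CaseTheorems
import Cfsg.Agent.Lib.Invol.OneClassSimple
import Cfsg.Agent.Lib.Invol.QDW.CentralizerQType

/-!
# The simple section of a group with quasi-dihedral or wreathed Sylow 2-subgroups
-/

set_option autoImplicit false

namespace CfsgLib.Invol.QDW

open CfsgLib.Invol

variable {G : Type*} [Group G] [Finite G]

theorem odd_index_of_le (S : Sylow 2 G) {L : Subgroup G} (h : (S : Subgroup G) ≤ L) : Odd L.index := by
  haveI : Fact (Nat.Prime 2) := ⟨Nat.prime_two⟩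
  exact Nat.not_even_iff_odd.mp fun e => S.not_dvd_index (e.two_dvd.trans (Subgroup.index_dvd_of_le h))

namespace Sd

variable {k : ℕ} {S : Sylow 2 G} {ι : Sd k →* G}

theorem exists_noncommuting (hι : Function.Injective ι) :
    ∃ a b : G, orderOf a = 2 ∧ orderOf b = 2 ∧ a * b ≠ b * a := by
  refine ⟨ι (bS k), ι ⟨2, true⟩, by rw [orderOf_inj ι hι, orderOf_bS],
    by rw [orderOf_inj ι hι]; exact orderOf_two_iff.mpr (Or.inr ⟨rfl, 1, by ring⟩), fun h => ?_⟩
  rw [← map_mul, ← map_mul] at h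
  have h1 := congrArg Sd.i (hι h)
  simp [bS] at h1
  have h2 := c_mul_even (k := k) 1
  rw [mul_one] at h2
  have h3 : (((4 : ℕ)) : ZMod (2 ^ (k + 3))) = 0 := by
    push_cast
    first | linear_combination h1 - h2 | linear_combination -h1 + h2 | linear_combination h1 + h2 | linear_combination -h1 - h2
  rw [ZMod.natCast_eq_zero_iff] at h3
  have := Nat.le_of_dvd (by norm_num) h3
  rw [pow_add] at this
  have h4 : 1 ≤ 2 ^ k := Nat.one_le_two_pow
  omega

theorem sylow_le (hS : ι.range = (S : Subgroup G)) (hι : Function.Injective ι)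
    (hd : IsConj (ι (qS k)) (ι (dS k))) {L : Subgroup G} [L.Normal] (hall : ∀ t : G, orderOf t = 2 → t ∈ L) :
    (S : Subgroup G) ≤ L := by
  have hb : ι (bS k) ∈ L := hall _ (by rw [orderOf_inj ι hι, orderOf_bS])
  have h2 : ι (⟨2 * (-(2 : ZMod (2 ^ (k + 3))) ^ k), true⟩ : Sd k) ∈ L :=
    hall _ (by rw [orderOf_inj ι hι]; exact orderOf_two_iff.mpr (Or.inr ⟨rfl, _, rfl⟩))
  have hq : ι (qS k) ∈ L := by
    have e : qS k = bS k * ⟨2 * (-(2 : ZMod (2 ^ (k + 3))) ^ k), true⟩ := by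
      ext <;> simp [qS, bS]
      have := c_mul_even (k := k) ((2 : ZMod (2 ^ (k + 3))) ^ k)
      linear_combination this
    rw [e, map_mul]; exact L.mul_mem hb h2
  rw [← hS, MonoidHom.range_eq_map, ← bd_generate, MonoidHom.map_closure, Subgroup.closure_le]
  rintro _ ⟨m, rfl | rfl, rfl⟩
  · exact hb
  · exact mem_of_conj hd hq

end Sd

namespace Wr

variable {r : ℕ} {S : Sylow 2 G} {ι : Wr (2 ^ (r + 2)) →* G}

theorem exists_noncommuting (hι : Function.Injective ι) :
    ∃ a b : G, orderOf a = 2 ∧ orderOf b = 2 ∧ a * b ≠ b * a := by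
  refine ⟨ι (cW r), ι (tW r), by rw [orderOf_inj ι hι, orderOf_cW], by rw [orderOf_inj ι hι, orderOf_tW], fun h => ?_⟩
  rw [← map_mul, ← map_mul] at h
  have h1 := congrArg Wr.i (hι h)
  simp [cW, tW] at h1
  exact hf_ne_zero h1

theorem sylow_le (hι : Function.Injective ι) (hS : ι.range = (S : Subgroup G))
    (hzc : IsConj (ι (zW r)) (ι (cW r))) {L : Subgroup G} [L.Normal] (hall : ∀ t : G, orderOf t = 2 → t ∈ L) :
    (S : Subgroup G) ≤ L := by
  let π := QuotientGroup.mk' L
  obtain ⟨n, hn, ho, hcov⟩ := exists_commutator_cover hι hS hzc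
  have ht : ι (tW r) ∈ L := hall _ (by rw [orderOf_inj ι hι, orderOf_tW])
  have hanti : ∀ i : ZMod (2 ^ (r + 2)), ι ⟨i, -i, false⟩ ∈ L := fun i => by
    have h1 : ι ⟨i, -i, true⟩ ∈ L := hall _ (by rw [orderOf_inj ι hι]; exact orderOf_two_iff.mpr (Or.inr ⟨rfl, by simp⟩))
    have h2 := L.mul_mem h1 ht
    rw [← map_mul] at h2
    convert h2 using 2
    ext <;> simp [tW]
  -- the image of the base is generated by the image of `gW`
  have hgen : ∀ u ∈ UG ι, ∃ a : ℕ, π u = π (ι (gW r)) ^ a := by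
    rintro _ ⟨⟨i, j, e⟩, hm, rfl⟩
    have he : e = false := mem_base.mp hm
    subst he
    refine ⟨(i + j).val, ?_⟩
    have e1 : (⟨i, j, false⟩ : Wr (2 ^ (r + 2))) = gW r ^ (i + j).val * ⟨-j, j, false⟩ := by
      rw [gW_pow, ZMod.natCast_rightInverse]
      ext <;> simp
    rw [e1, map_mul, map_mul, map_pow, map_pow]
    have hone : π (ι ⟨-j, j, false⟩) = 1 := by
      rw [QuotientGroup.mk'_apply, QuotientGroup.eq_one_iff]
      simpa using hanti (-j)
    rw [hone, mul_one]
  have hgU : ι (gW r) ∈ UG ι := Subgroup.mem_map_of_mem _ (mem_base.mpr rfl)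
  -- the odd element fixes the image of `gW`
  set X := (UG ι).map π with hX
  have hXp : IsPGroup 2 X := ((isPGroup_wr.to_subgroup _).map ι).map π
  have hnX : π n ∈ Subgroup.normalizer (X : Set (G ⧸ L)) := mem_normalizer_of_forall (by
    rintro _ ⟨u, hu, rfl⟩
    exact ⟨n * u * n⁻¹, (Subgroup.mem_normalizer_iff.mp hn _).mp hu, by rw [map_mul, map_mul, map_inv]⟩)
  set φ := conjRestrict hnX with hφdef
  have hφ : φ ^ orderOf (π n) = 1 := conjRestrict_pow_orderOf hnX
  have hoπ : Odd (orderOf (π n)) := ho.of_dvd_nat (orderOf_map_dvd π n)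
  let x : X := ⟨π (ι (gW r)), _, hgU, rfl⟩
  have hfix : φ x = x := by
    obtain ⟨t, ht⟩ := IsPGroup.iff_orderOf.mp hXp x
    obtain ⟨a, ha⟩ := hgen _ ((Subgroup.mem_normalizer_iff.mp hn _).mp hgU)
    refine fixed_of_pow φ hoπ hφ ht (a := a) (Subtype.ext ?_)
    rw [conjRestrict_apply, SubmonoidClass.coe_pow]
    show π n * π (ι (gW r)) * (π n)⁻¹ = _
    rw [← map_inv, ← map_mul, ← map_mul]
    exact ha
  have hcomm : π n * π (ι (gW r)) * (π n)⁻¹ = π (ι (gW r)) := congrArg Subtype.val hfix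
  have hU : ∀ u ∈ UG ι, u ∈ L := by
    intro u hu
    obtain ⟨v, hv, rfl⟩ := hcov u hu
    obtain ⟨a, ha⟩ := hgen v hv
    rw [← QuotientGroup.eq_one_iff, ← QuotientGroup.mk'_apply, map_mul, map_mul, map_mul, map_inv, map_inv]
    show π n * π v * (π n)⁻¹ * (π v)⁻¹ = 1
    rw [ha, ← conj_pow, hcomm, mul_inv_cancel]
  rw [← hS]
  rintro _ ⟨m, rfl⟩
  cases he : m.e
  · exact hU _ (Subgroup.mem_map_of_mem _ (mem_base.mpr he))
  · rw [show m = (⟨m.i, m.j, false⟩ : Wr (2 ^ (r + 2))) * tW r by ext <;> simp [tW, he], map_mul]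
    exact L.mul_mem (hU _ (Subgroup.mem_map_of_mem _ (mem_base.mpr rfl))) ht

end Wr

/-- The normal simple subgroup of odd index when the odd core is trivial. -/
theorem exists_simple_of_oddCore_bot (S : Sylow 2 G)
    (hS : Cfsg.IsQuasiDihedral (S : Subgroup G) ∨ Cfsg.IsWreathed (S : Subgroup G))
    (hG : ∀ H : Subgroup G, H.index ≠ 2) (hO : Cfsg.oddCore G = ⊥) :
    ∃ L : Subgroup G, L.Normal ∧ Odd L.index ∧ IsSimpleGroup L ∧ ¬ IsMulCommutative L := by
  rcases hS with hQ | hW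
  · obtain ⟨k, -, ⟨e⟩⟩ := exists_equiv_sd hQ
    obtain ⟨ι, hι, hr⟩ := exists_embedding S e
    obtain ⟨hb, hd⟩ := Sd.fused_of_no_index_two hι hr hG
    obtain ⟨L, hL, hs, hc, hall⟩ := exists_simple_normal_of_one_class hO (fun a b ha hb' =>
      ((Sd.involution_class hι hr ha).elim id fun h => h.trans hb.symm).trans
        ((Sd.involution_class hι hr hb').elim id fun h => h.trans hb.symm).symm) (Sd.exists_noncommuting hι)
    exact ⟨L, hL, odd_index_of_le S (Sd.sylow_le hr hι hd hall), hs, hc⟩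
  · obtain ⟨n, hn, -, ⟨e⟩⟩ := exists_equiv_wr hW
    obtain ⟨r, rfl⟩ : ∃ r, n = r + 2 := ⟨n - 2, by omega⟩
    obtain ⟨ι, hι, hr⟩ := exists_embedding S e
    obtain ⟨hzc, hct⟩ := Wr.fused_of_no_index_two hW hι hr hG
    have hto : ∀ a : G, orderOf a = 2 → IsConj a (ι (Wr.zW r)) := fun a ha => by
      rcases Wr.involution_class hι hr ha with h | h | h
      · exact h
      · exact h.trans hzc.symm
      · exact h.trans (hzc.trans hct).symm
    obtain ⟨L, hL, hs, hc, hall⟩ := exists_simple_normal_of_one_class hO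
      (fun a b ha hb => (hto a ha).trans (hto b hb).symm) (Wr.exists_noncommuting hι)
    exact ⟨L, hL, odd_index_of_le S (Wr.sylow_le hι hr hzc hall), hs, hc⟩

theorem isQuasiDihedral_congr {A B : Type*} [Group A] [Group B] (e : A ≃* B) (h : Cfsg.IsQuasiDihedral A) :
    Cfsg.IsQuasiDihedral B := by
  obtain ⟨n, hn, hc, x, y, hx, hy, hxy⟩ := h
  exact ⟨n, hn, by rw [← hc, Nat.card_congr e.toEquiv], e x, e y, by rw [MulEquiv.orderOf_eq, hx],
    by rw [MulEquiv.orderOf_eq, hy], by rw [← map_inv, ← map_mul, ← map_mul, hxy, map_pow]⟩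

/-- The statement for `G / O(G)`. -/
theorem exists_simple_mod_oddCore (S : Sylow 2 G)
    (hS : Cfsg.IsQuasiDihedral (S : Subgroup G) ∨ Cfsg.IsWreathed (S : Subgroup G))
    (hG : ∀ H : Subgroup G, H.index ≠ 2) :
    ∃ L : Subgroup (G ⧸ Cfsg.oddCore G), L.Normal ∧ Odd L.index ∧ IsSimpleGroup L ∧ ¬ IsMulCommutative L := by
  haveI : Fact (Nat.Prime 2) := ⟨Nat.prime_two⟩
  set O := Cfsg.oddCore G with hOdef
  set π := QuotientGroup.mk' O with hπ
  have hsurj : Function.Surjective π := QuotientGroup.mk'_surjective O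
  have hinj : Function.Injective (π.comp (S : Subgroup G).subtype) := by
    refine (injective_iff_map_eq_one _).mpr fun x hx => ?_
    have hxO : (x : G) ∈ O := (QuotientGroup.eq_one_iff _).mp hx
    have h1 : orderOf x ∣ Nat.card O := by
      rw [← Subgroup.orderOf_coe]; exact (Subgroup.orderOf_mk (x : G) hxO) ▸ orderOf_dvd_natCard _
    obtain ⟨t, ht⟩ := IsPGroup.iff_orderOf.mp S.2 x
    refine orderOf_eq_one_iff.mp ?_
    rcases Nat.eq_zero_or_pos t with rfl | htp
    · rw [ht, pow_zero]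
    · exfalso
      exact Nat.not_even_iff_odd.mpr (CfsgLib.Cores.odd_card_oddCore (G := G))
        (even_iff_two_dvd.mpr ((dvd_pow_self 2 htp.ne').trans (ht ▸ h1)))
  let S' : Sylow 2 (G ⧸ O) := S.mapSurjective hsurj
  have hS'coe : (S' : Subgroup (G ⧸ O)) = (S : Subgroup G).map π := Sylow.coe_mapSurjective hsurj S
  let e : (S : Subgroup G) ≃* (S' : Subgroup (G ⧸ O)) := (MonoidHom.ofInjective hinj).trans
    (MulEquiv.subgroupCongr (by rw [hS'coe, MonoidHom.range_comp, Subgroup.range_subtype]))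
  refine exists_simple_of_oddCore_bot S' (hS.imp (isQuasiDihedral_congr e) (isWreathed_congr e))
    (fun H h => hG (H.comap π) (by rw [Subgroup.index_comap_of_surjective H hsurj, h])) ?_
  refine oddCore_eq_bot_of' fun N hN hodd => ?_
  have hKn : (N.comap π).Normal := hN.comap π
  have hcard : Nat.card (N.comap π) = Nat.card N * Nat.card O := by
    have h1 := (N.comap π).card_mul_index
    have h2 := N.card_mul_index
    have h3 := O.card_mul_index
    rw [Subgroup.index_comap_of_surjective N hsurj] at h1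
    rw [Subgroup.index_eq_card] at h3
    apply Nat.eq_of_mul_eq_mul_right (Nat.pos_of_ne_zero N.index_ne_zero_of_finite)
    rw [h1, mul_right_comm, h2, ← h3, mul_comm]
  have hle : N.comap π ≤ O := CfsgLib.Cores.le_oddCore_of_odd (by
    rw [hcard]; exact hodd.mul CfsgLib.Cores.odd_card_oddCore)
  refine le_bot_iff.mp fun y hy => ?_
  obtain ⟨x, rfl⟩ := hsurj y
  exact Subgroup.mem_bot.mpr ((QuotientGroup.eq_one_iff x).mpr (hle hy))
where
  oddCore_eq_bot_of' {X : Type _} [Group X] [Finite X]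
      (h : ∀ N : Subgroup X, N.Normal → Odd (Nat.card N) → N = ⊥) : Cfsg.oddCore X = ⊥ :=
    h _ (by haveI := CfsgLib.Cores.pPrimeCore_characteristic (G := X) 2; infer_instance)
      CfsgLib.Cores.odd_card_oddCore

end CfsgLib.Invol.QDW
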